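import Mathlib
import Cfsg.Agent.Lib.TwoFusion.Basic2
import Cfsg.Agent.Lib.Basic.Frattini

/-!
# Extraspecial 2-subgroups, elementwise

`ES Q z`: the subgroup `Q` of `G` behaves as an extraspecial 2-group with central involution `z`.
-/

set_option autoImplicit false

namespace Cfsg.Agent.Lib.TwoFusion

open Subgroup

variable {G : Type*} [Group G]

/-- Elementwise form of "`Q` is extraspecial with central involution `z`". -/
structure ES (Q : Subgroup G) (z : G) : Prop where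
  z_mem : z ∈ Q
  z_ne : z ≠ 1
  z_sq : z * z = 1
  z_central : ∀ q ∈ Q, q * z = z * q
  comm : ∀ a ∈ Q, ∀ b ∈ Q, a * b * a⁻¹ * b⁻¹ = 1 ∨ a * b * a⁻¹ * b⁻¹ = z
  sq : ∀ a ∈ Q, a * a = 1 ∨ a * a = z
  center : ∀ x ∈ Q, (∀ q ∈ Q, q * x = x * q) → x = 1 ∨ x = z

theorem ES.of_extraspecial {T : Type*} [Group T] [Finite T] (hE : Cfsg.IsExtraspecial 2 T)
    (ι : T →* G) (hι : Function.Injective ι) {Q : Subgroup G} (hQ : Q = ι.range) {t₀ : T} {z : G}
    (ht₀ : ι t₀ = z) (ht₀c : ∀ t : T, t * t₀ = t₀ * t) (ht₀1 : t₀ ≠ 1) : ES Q z := by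
  classical
  obtain ⟨⟨hp, hfr, hcm⟩, hZ⟩ := hE
  haveI : Fact (Nat.Prime 2) := ⟨Nat.prime_two⟩
  have ht₀Z : t₀ ∈ Subgroup.center T := by
    rw [Subgroup.mem_center_iff]
    exact ht₀c
  have huniq : ∀ a ∈ Subgroup.center T, a = 1 ∨ a = t₀ := by
    intro a ha
    by_contra hcon
    push Not at hcon
    haveI : Fintype (Subgroup.center T) := Fintype.ofFinite _
    have h1 : Fintype.card (Subgroup.center T) = 2 := by rw [← Nat.card_eq_fintype_card, hZ]
    have h2 : ({1, ⟨a, ha⟩, ⟨t₀, ht₀Z⟩} : Finset (Subgroup.center T)).card = 3 := by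
      rw [Finset.card_eq_three]
      refine ⟨1, ⟨a, ha⟩, ⟨t₀, ht₀Z⟩, ?_, ?_, ?_, rfl⟩
      · intro h; exact hcon.1 (congrArg Subtype.val h).symm
      · intro h; exact ht₀1 (congrArg Subtype.val h).symm
      · intro h; exact hcon.2 (congrArg Subtype.val h)
    have h3 := Finset.card_le_univ ({1, ⟨a, ha⟩, ⟨t₀, ht₀Z⟩} : Finset (Subgroup.center T))
    omega
  have hmem : ∀ q ∈ Q, ∃ t : T, ι t = q := by
    intro q hq
    rw [hQ] at hq
    exact hq
  have hsq0 : t₀ * t₀ = 1 := by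
    have h1 : t₀ * t₀ ∈ Subgroup.center T := Subgroup.mul_mem _ ht₀Z ht₀Z
    rcases huniq _ h1 with h | h
    · exact h
    · exact absurd (by simpa using h) ht₀1
  refine ⟨?_, ?_, ?_, ?_, ?_, ?_, ?_⟩
  · rw [hQ, ← ht₀]; exact ⟨t₀, rfl⟩
  · rw [← ht₀]
    intro h
    exact ht₀1 (hι (by rw [h, map_one]))
  · rw [← ht₀, ← map_mul, hsq0, map_one]
  · intro q hq
    obtain ⟨t, rfl⟩ := hmem q hq
    rw [← ht₀, ← map_mul, ← map_mul, ht₀c]
  · intro a ha b hb
    obtain ⟨s, rfl⟩ := hmem a ha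
    obtain ⟨t, rfl⟩ := hmem b hb
    have h1 : s * t * s⁻¹ * t⁻¹ ∈ Subgroup.center T := by
      rw [← hcm]
      exact Subgroup.commutator_mem_commutator (Subgroup.mem_top s) (Subgroup.mem_top t)
    have e : ι s * ι t * (ι s)⁻¹ * (ι t)⁻¹ = ι (s * t * s⁻¹ * t⁻¹) := by
      simp only [map_mul, map_inv]
    rw [e]
    rcases huniq _ h1 with h | h
    · left; rw [h, map_one]
    · right; rw [h, ht₀]
  · intro a ha
    obtain ⟨s, rfl⟩ := hmem a ha
    have h1 : s * s ∈ Subgroup.center T := by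
      rw [← hfr, ← pow_two]
      exact Cfsg.Agent.Lib.Basic.pow_mem_frattini_of_isPGroup hp s
    rw [← map_mul]
    rcases huniq _ h1 with h | h
    · left; rw [h, map_one]
    · right; rw [h, ht₀]
  · intro x hx hc
    obtain ⟨s, rfl⟩ := hmem x hx
    have h1 : s ∈ Subgroup.center T := by
      rw [Subgroup.mem_center_iff]
      intro t
      apply hι
      have := hc (ι t) (by rw [hQ]; exact ⟨t, rfl⟩)
      rw [map_mul, map_mul, this]
    rcases huniq _ h1 with h | h
    · left; rw [h, map_one]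
    · right; rw [h, ht₀]

theorem sum_eq_zero_of_hom {X : Type*} [Group X] [Fintype X] (f : X → ℤ)
    (hm : ∀ a b, f (a * b) = f a * f b) (x₀ : X) (h : f x₀ = -1) : ∑ x, f x = 0 := by
  have h1 : ∑ x, f x = ∑ x, f (x₀ * x) :=
    (Equiv.sum_comp (Equiv.mulLeft x₀) f).symm
  have h2 : ∑ x, f (x₀ * x) = - ∑ x, f x := by
    rw [← Finset.sum_neg_distrib]
    apply Finset.sum_congr rfl
    intro x _
    rw [hm, h]; ring
  omega

namespace ES

variable {Q : Subgroup G} {z : G}

theorem comm_central (h : ES Q z) {a b c : G} (ha : a ∈ Q) (hb : b ∈ Q) (hc : c ∈ Q) :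
    c * (a * b * a⁻¹ * b⁻¹) = (a * b * a⁻¹ * b⁻¹) * c := by
  rcases h.comm a ha b hb with e | e
  · rw [e]; group
  · rw [e]; exact h.z_central c hc

theorem comm_mul_right (h : ES Q z) {w y y' : G} (hw : w ∈ Q) (hy : y ∈ Q) (hy' : y' ∈ Q) :
    w * (y * y') * w⁻¹ * (y * y')⁻¹ = (w * y * w⁻¹ * y⁻¹) * (w * y' * w⁻¹ * y'⁻¹) := by
  have h1 := h.comm_central hw hy' (Q.inv_mem hy)
  calc w * (y * y') * w⁻¹ * (y * y')⁻¹
      = (w * y * w⁻¹) * ((w * y' * w⁻¹ * y'⁻¹) * y⁻¹) := by group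
    _ = (w * y * w⁻¹) * (y⁻¹ * (w * y' * w⁻¹ * y'⁻¹)) := by rw [h1]
    _ = (w * y * w⁻¹ * y⁻¹) * (w * y' * w⁻¹ * y'⁻¹) := by group

theorem comm_mul_left (h : ES Q z) {w w' y : G} (hw : w ∈ Q) (hw' : w' ∈ Q) (hy : y ∈ Q) :
    (w * w') * y * (w * w')⁻¹ * y⁻¹ = (w * y * w⁻¹ * y⁻¹) * (w' * y * w'⁻¹ * y⁻¹) := by
  have h1 := h.comm_central hw' hy hw
  have h2 := h.comm_central hw' hy (c := w * y * w⁻¹ * y⁻¹)
    (Q.mul_mem (Q.mul_mem (Q.mul_mem hw hy) (Q.inv_mem hw)) (Q.inv_mem hy))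
  calc (w * w') * y * (w * w')⁻¹ * y⁻¹
      = (w * (w' * y * w'⁻¹ * y⁻¹)) * (y * w⁻¹ * y⁻¹) := by group
    _ = ((w' * y * w'⁻¹ * y⁻¹) * w) * (y * w⁻¹ * y⁻¹) := by rw [h1]
    _ = (w' * y * w'⁻¹ * y⁻¹) * (w * y * w⁻¹ * y⁻¹) := by group
    _ = (w * y * w⁻¹ * y⁻¹) * (w' * y * w'⁻¹ * y⁻¹) := h2.symm

/-- The duality formula: `|C_Q(A)| |A| = 2 |Q|` for `⟨z⟩ ≤ A ≤ Q`. -/
theorem card_centralizer_mul [Finite G] (h : ES Q z) (A : Subgroup G) (hAQ : A ≤ Q) (hzA : z ∈ A) :
    Nat.card ↥(Q ⊓ centralizer (A : Set G)) * Nat.card A = 2 * Nat.card Q := by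
  classical
  haveI : Fintype Q := Fintype.ofFinite _
  haveI : Fintype A := Fintype.ofFinite _
  let s : G → ℤ := fun u => if u = 1 then 1 else -1
  have hs1 : s 1 = 1 := by simp [s]
  have hsz : s z = -1 := by simp [s, h.z_ne]
  have hsm : ∀ a b : G, (a = 1 ∨ a = z) → (b = 1 ∨ b = z) → s (a * b) = s a * s b := by
    rintro a b (rfl | rfl) (rfl | rfl)
    · simp [hs1]
    · simp [hs1]
    · simp [hs1]
    · rw [h.z_sq, hs1, hsz]; norm_num
  let F : ↥Q → ↥A → ℤ := fun w y => s ((w : G) * (y : G) * (w : G)⁻¹ * (y : G)⁻¹)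
  have hFy : ∀ w y y', F w (y * y') = F w y * F w y' := by
    intro w y y'
    show s _ = s _ * s _
    simp only [Subgroup.coe_mul]
    rw [h.comm_mul_right w.2 (hAQ y.2) (hAQ y'.2),
      hsm _ _ (h.comm _ w.2 _ (hAQ y.2)) (h.comm _ w.2 _ (hAQ y'.2))]
  have hFw : ∀ y w w', F (w * w') y = F w y * F w' y := by
    intro y w w'
    show s _ = s _ * s _
    simp only [Subgroup.coe_mul]
    rw [h.comm_mul_left w.2 w'.2 (hAQ y.2),
      hsm _ _ (h.comm _ w.2 _ (hAQ y.2)) (h.comm _ w'.2 _ (hAQ y.2))]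
  have hF : ∀ w y, F w y = 1 ↔ (w : G) * y = y * w := by
    intro w y
    show s _ = 1 ↔ _
    constructor
    · intro he
      have : (w : G) * (y : G) * (w : G)⁻¹ * (y : G)⁻¹ = 1 := by
        by_contra hne
        simp [s, hne] at he
      calc (w : G) * y = ((w : G) * (y : G) * (w : G)⁻¹ * (y : G)⁻¹) * (y * w) := by group
        _ = y * w := by rw [this, one_mul]
    · intro he
      have : (w : G) * (y : G) * (w : G)⁻¹ * (y : G)⁻¹ = 1 := by
        rw [he]; group
      rw [this, hs1]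
  have hFm : ∀ w y, F w y ≠ 1 → F w y = -1 := by
    intro w y hne
    show s _ = -1
    have : (w : G) * (y : G) * (w : G)⁻¹ * (y : G)⁻¹ ≠ 1 := by
      intro he
      apply hne
      show s _ = 1
      rw [he, hs1]
    simp [s, this]
  -- first evaluation
  have hfirst : ∑ w, ∑ y, F w y = Nat.card ↥(Q ⊓ centralizer (A : Set G)) * Nat.card A := by
    have h1 : ∀ w : ↥Q, ∑ y, F w y = if (w : G) ∈ centralizer (A : Set G) then (Nat.card A : ℤ) else 0 := by
      intro w
      split_ifs with hw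
      · have : ∀ y, F w y = 1 := by
          intro y
          rw [hF]
          exact (Subgroup.mem_centralizer_iff.mp hw y y.2).symm
        simp [this, Nat.card_eq_fintype_card]
      · rw [Subgroup.mem_centralizer_iff] at hw
        push Not at hw
        obtain ⟨y, hy, hne⟩ := hw
        have : F w ⟨y, hy⟩ = -1 := by
          apply hFm
          rw [Ne, hF]
          exact fun e => hne e.symm
        exact sum_eq_zero_of_hom _ (hFy w) ⟨y, hy⟩ this
    simp only [h1]
    rw [Finset.sum_ite, Finset.sum_const_zero, add_zero, Finset.sum_const, nsmul_eq_mul]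
    congr 2
    rw [← Fintype.card_subtype, ← Nat.card_eq_fintype_card]
    exact Nat.card_congr
      { toFun := fun w => ⟨w.1.1, Subgroup.mem_inf.mpr ⟨w.1.2, w.2⟩⟩
        invFun := fun x => ⟨⟨x.1, (Subgroup.mem_inf.mp x.2).1⟩, (Subgroup.mem_inf.mp x.2).2⟩
        left_inv := fun _ => rfl
        right_inv := fun _ => rfl }
  have hsecond : ∑ y, ∑ w, F w y = 2 * Nat.card Q := by
    have h1 : ∀ y : ↥A, ∑ w, F w y = if (y : G) = 1 ∨ (y : G) = z then (Nat.card Q : ℤ) else 0 := by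
      intro y
      split_ifs with hy
      · have : ∀ w, F w y = 1 := by
          intro w
          rw [hF]
          rcases hy with e | e
          · rw [e]; group
          · rw [e]; exact h.z_central _ w.2
        simp [this, Nat.card_eq_fintype_card]
      · have hnc : ¬ ∀ q ∈ Q, q * (y : G) = y * q := fun hc => hy (h.center _ (hAQ y.2) hc)
        push Not at hnc
        obtain ⟨q, hq, hne⟩ := hnc
        have : F ⟨q, hq⟩ y = -1 := by
          apply hFm
          rw [Ne, hF]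
          exact hne
        exact sum_eq_zero_of_hom _ (hFw y) ⟨q, hq⟩ this
    simp only [h1]
    rw [Finset.sum_ite, Finset.sum_const_zero, add_zero, Finset.sum_const, nsmul_eq_mul]
    have hc : (Finset.univ.filter (fun y : ↥A => (y : G) = 1 ∨ (y : G) = z)).card = 2 := by
      have : Finset.univ.filter (fun y : ↥A => (y : G) = 1 ∨ (y : G) = z) = {1, ⟨z, hzA⟩} := by
        ext y
        simp only [Finset.mem_filter, Finset.mem_univ, true_and, Finset.mem_insert, Finset.mem_singleton]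
        constructor
        · rintro (e | e)
          · left; exact Subtype.ext e
          · right; exact Subtype.ext e
        · rintro (e | e)
          · left; rw [e]; rfl
          · right; rw [e]
      rw [this, Finset.card_pair]
      intro e
      exact h.z_ne (congrArg Subtype.val e).symm
    rw [hc]
    norm_num
  have heq := hfirst.symm.trans ((Finset.sum_comm).trans hsecond)
  exact_mod_cast heq

end ES

end Cfsg.Agent.Lib.TwoFusion
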