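import Cfsg.Agent.Lib.Classical.SUOrder

/-!
# A Sylow `2`-subgroup of `U₃(4)`
-/

set_option autoImplicit false

namespace Cfsg.Agent.Lib.TwoFusion

open Matrix Cfsg
open scoped commutatorElement

section abstractModel

/-- The group theoretic data of the Sylow subgroup of `U₃(4)`. -/
structure U34Model (X : Type*) [Group X] : Prop where
  card : Nat.card X = 64
  sq : ∀ x : X, x ^ 2 = 1 ↔ ∀ y : X, y * x = x * y
  cardC : Nat.card {x : X // x ^ 2 = 1} = 4
  comm : ∀ z : X, z ^ 2 = 1 → ∃ x y : X, ⁅x, y⁆ = z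
  comm2 : ∀ x y : X, ⁅x, y⁆ ^ 2 = 1
  four : ∀ x : X, x ^ 4 = 1

theorem U34Model.congr {X Y : Type*} [Group X] [Group Y] (e : X ≃* Y) (h : U34Model X) : U34Model Y where
  card := by rw [← Nat.card_congr e.toEquiv]; exact h.card
  sq := by
    intro y
    obtain ⟨x, rfl⟩ := e.surjective y
    rw [← map_pow, map_eq_one_iff e e.injective, h.sq]
    constructor
    · intro h1 y
      obtain ⟨z, rfl⟩ := e.surjective y
      rw [← map_mul, ← map_mul, h1]
    · intro h1 y
      apply e.injective
      rw [map_mul, map_mul, h1]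
  cardC := by
    rw [← h.cardC]
    symm
    apply Nat.card_congr
    exact e.toEquiv.subtypeEquiv (fun x => by
      show x ^ 2 = 1 ↔ (e x) ^ 2 = 1
      rw [← map_pow, map_eq_one_iff e e.injective])
  comm := by
    intro z hz
    obtain ⟨w, rfl⟩ := e.surjective z
    rw [← map_pow, map_eq_one_iff e e.injective] at hz
    obtain ⟨x, y, hxy⟩ := h.comm w hz
    refine ⟨e x, e y, ?_⟩
    rw [← hxy, map_commutatorElement]
  comm2 := by
    intro x y
    obtain ⟨a, rfl⟩ := e.surjective x
    obtain ⟨b, rfl⟩ := e.surjective y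
    rw [← map_commutatorElement, ← map_pow, map_eq_one_iff e e.injective]
    exact h.comm2 a b
  four := by
    intro x
    obtain ⟨a, rfl⟩ := e.surjective x
    rw [← map_pow, map_eq_one_iff e e.injective]
    exact h.four a

/-- The conclusions. -/
theorem U34Model.conclusions {X : Type*} [Group X] [Finite X] (h : U34Model X) :
    Nat.card X = 64 ∧ IsKleinFour (Subgroup.center X) ∧
      Subgroup.center X = Subgroup.closure {x : X | orderOf x = 2} ∧
      Subgroup.center X = commutator X ∧ Nat.card (X ⧸ Subgroup.center X) = 16 ∧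
      ∀ x : X ⧸ Subgroup.center X, x ^ 2 = 1 := by
  have hmem : ∀ x : X, x ∈ Subgroup.center X ↔ x ^ 2 = 1 := by
    intro x
    rw [h.sq, Subgroup.mem_center_iff]
  have hcardC : Nat.card (Subgroup.center X) = 4 := by
    rw [← h.cardC]
    apply Nat.card_congr
    exact Equiv.subtypeEquivRight hmem
  refine ⟨h.card, ?_, ?_, ?_, ?_, ?_⟩
  · -- Klein four
    haveI : Nontrivial (Subgroup.center X) := Finite.one_lt_card_iff_nontrivial.mp (by omega)
    have hexp : Monoid.exponent (Subgroup.center X) = 2 := by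
      rw [Monoid.exponent_eq_prime_iff Nat.prime_two]
      intro g hg
      apply orderOf_eq_prime
      · apply Subtype.ext
        have := (hmem g.1).mp g.2
        simpa using this
      · exact hg
    exact ⟨hcardC, hexp⟩
  · apply le_antisymm
    · intro z hz
      by_cases h1 : z = 1
      · rw [h1]
        exact Subgroup.one_mem _
      · apply Subgroup.subset_closure
        exact orderOf_eq_prime ((hmem z).mp hz) h1
    · rw [Subgroup.closure_le]
      intro x hx
      rw [SetLike.mem_coe, hmem, ← (show orderOf x = 2 from hx)]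
      exact pow_orderOf_eq_one x
  · apply le_antisymm
    · intro z hz
      obtain ⟨x, y, rfl⟩ := h.comm z ((hmem z).mp hz)
      exact Subgroup.commutator_mem_commutator (Subgroup.mem_top x) (Subgroup.mem_top y)
    · unfold commutator
      rw [Subgroup.commutator_le]
      intro x _ y _
      rw [hmem]
      exact h.comm2 x y
  · have h1 := Subgroup.card_eq_card_quotient_mul_card_subgroup (Subgroup.center X)
    rw [h.card, hcardC] at h1
    omega
  · intro x
    obtain ⟨g, rfl⟩ := QuotientGroup.mk_surjective x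
    rw [← QuotientGroup.mk_pow, QuotientGroup.eq_one_iff, hmem, ← pow_mul]
    exact h.four g

end abstractModel

section coords

variable {F : Type*} [Field F]

/-- Data of the coordinates on the group `X`. -/
structure U34Coords (F : Type*) [Field F] (X : Type*) [Group X] (aa cc : X → F) : Prop where
  ext : ∀ x y : X, aa x = aa y → cc x = cc y → x = y
  rel : ∀ x : X, cc x + cc x ^ 4 = aa x ^ 5
  aa_mul : ∀ x y : X, aa (x * y) = aa x + aa y
  cc_mul : ∀ x y : X, cc (x * y) = cc x + cc y + aa x * aa y ^ 4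
  aa_one : aa 1 = 0
  cc_one : cc 1 = 0
  ex : ∀ α γ : F, γ + γ ^ 4 = α ^ 5 → ∃ x : X, aa x = α ∧ cc x = γ

/-- Facts about a field with `16` elements. -/
theorem char2_of_card16 [Fintype F] (hF : Fintype.card F = 16) : (2 : F) = 0 := by
  have h1 : ringChar F = 2 := (FiniteField.even_card_iff_char_two).mpr (by rw [hF])
  haveI : CharP F 2 := ringChar.of_eq h1
  exact CharTwo.two_eq_zero

theorem frob4 (h2 : (2 : F) = 0) (x y : F) : (x + y) ^ 4 = x ^ 4 + y ^ 4 := by
  linear_combination (2 * x ^ 3 * y + 3 * x ^ 2 * y ^ 2 + 2 * x * y ^ 3) * h2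

theorem pow16 [Fintype F] (hF : Fintype.card F = 16) (x : F) : x ^ 16 = x := by
  have := FiniteField.pow_card x
  rwa [hF] at this

/-- The fixed points of `x ↦ x⁴`. -/
theorem card_fix4 [Fintype F] [DecidableEq F] (hF : Fintype.card F = 16) :
    (Finset.univ.filter (fun x : F => x ^ 4 = x)).card = 4 ∧ ∀ b : F, b ^ 4 = b → ∃ c : F, c + c ^ 4 = b := by
  have h2 := char2_of_card16 hF
  let S : Finset F := Finset.univ.filter (fun x : F => x ^ 4 = x)
  have hS4 : S.card ≤ 4 := by
    have hp : (Polynomial.X ^ 4 - Polynomial.X : Polynomial F) ≠ 0 := by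
      intro h
      have := congrArg Polynomial.natDegree h
      rw [Polynomial.natDegree_sub_eq_left_of_natDegree_lt (by simp)] at this
      simp at this
    have h3 : S ⊆ (Polynomial.X ^ 4 - Polynomial.X : Polynomial F).roots.toFinset := by
      intro x hx
      rw [Multiset.mem_toFinset, Polynomial.mem_roots hp]
      have := (Finset.mem_filter.mp hx).2
      simp [this]
    have h4 := (Finset.card_le_card h3).trans (Multiset.toFinset_card_le _)
    have h5 := Polynomial.card_roots' (Polynomial.X ^ 4 - Polynomial.X : Polynomial F)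
    have h6 : (Polynomial.X ^ 4 - Polynomial.X : Polynomial F).natDegree = 4 := by
      rw [Polynomial.natDegree_sub_eq_left_of_natDegree_lt (by simp)]
      simp
    omega
  -- the trace map
  let tr : F → F := fun c => c + c ^ 4
  have htrS : ∀ c, tr c ∈ S := by
    intro c
    apply Finset.mem_filter.mpr
    refine ⟨Finset.mem_univ _, ?_⟩
    show (c + c ^ 4) ^ 4 = c + c ^ 4
    rw [frob4 h2, ← pow_mul]
    show c ^ 4 + c ^ 16 = _
    rw [pow16 hF, add_comm]
  have hfib : ∀ s ∈ (Finset.univ : Finset F).image tr, (Finset.univ.filter (fun c => tr c = s)).card ≤ S.card := by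
    intro s hs
    obtain ⟨c₀, -, rfl⟩ := Finset.mem_image.mp hs
    -- injection into S by c ↦ c - c₀
    apply Finset.card_le_card_of_injOn (fun c => c - c₀)
    · intro c hc
      have hc' : tr c = tr c₀ := (Finset.mem_filter.mp hc).2
      apply (Finset.mem_filter.mpr ⟨Finset.mem_univ _, ?_⟩)
      have h7 : (c - c₀) ^ 4 = c ^ 4 + c₀ ^ 4 := by
        have h8 : c - c₀ = c + c₀ := by linear_combination (-c₀) * h2
        rw [h8, frob4 h2]
      rw [h7]
      have h9 : c + c ^ 4 = c₀ + c₀ ^ 4 := hc'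
      linear_combination h9 + (c₀ ^ 4 - c + c₀) * h2
    · intro x _ y _ hxy
      exact sub_left_injective hxy
  have hcount : Fintype.card F ≤ S.card * S.card := by
    have h10 : (Finset.univ : Finset F).card = ∑ s ∈ (Finset.univ : Finset F).image tr, (Finset.univ.filter (fun c => tr c = s)).card :=
      Finset.card_eq_sum_card_image tr _
    have h11 : ∑ s ∈ (Finset.univ : Finset F).image tr, (Finset.univ.filter (fun c => tr c = s)).card ≤ ∑ s ∈ (Finset.univ : Finset F).image tr, S.card :=
      Finset.sum_le_sum hfib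
    rw [Finset.sum_const, smul_eq_mul] at h11
    have h12 : ((Finset.univ : Finset F).image tr).card ≤ S.card := by
      apply Finset.card_le_card
      intro s hs
      obtain ⟨c, -, rfl⟩ := Finset.mem_image.mp hs
      exact htrS c
    have h13 : Fintype.card F = (Finset.univ : Finset F).card := rfl
    calc Fintype.card F = (Finset.univ : Finset F).card := rfl
      _ ≤ _ := by rw [h10]; exact h11
      _ ≤ S.card * S.card := Nat.mul_le_mul_right _ h12
  rw [hF] at hcount
  have hS4' : S.card = 4 := by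
    have : 4 ≤ S.card := by
      by_contra hlt
      have : S.card ≤ 3 := by omega
      have : S.card * S.card ≤ 3 * 3 := Nat.mul_le_mul this this
      omega
    omega
  refine ⟨hS4', ?_⟩
  -- the image is everything
  have himg : ((Finset.univ : Finset F).image tr) = S := by
    apply Finset.eq_of_subset_of_card_le
    · intro s hs
      obtain ⟨c, -, rfl⟩ := Finset.mem_image.mp hs
      exact htrS c
    · rw [hS4']
      by_contra hlt
      have hle : ((Finset.univ : Finset F).image tr).card ≤ 3 := by omega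
      have h10 : (Finset.univ : Finset F).card = ∑ s ∈ (Finset.univ : Finset F).image tr, (Finset.univ.filter (fun c => tr c = s)).card :=
        Finset.card_eq_sum_card_image tr _
      have h11 : ∑ s ∈ (Finset.univ : Finset F).image tr, (Finset.univ.filter (fun c => tr c = s)).card ≤ ∑ s ∈ (Finset.univ : Finset F).image tr, S.card :=
        Finset.sum_le_sum hfib
      rw [Finset.sum_const, smul_eq_mul, hS4'] at h11
      have h13 : (Finset.univ : Finset F).card = 16 := hF
      have : ((Finset.univ : Finset F).image tr).card * 4 ≤ 3 * 4 := Nat.mul_le_mul_right _ hle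
      omega
  intro b hb
  have hbS : b ∈ S := Finset.mem_filter.mpr ⟨Finset.mem_univ _, hb⟩
  rw [← himg] at hbS
  obtain ⟨c, -, hc⟩ := Finset.mem_image.mp hbS
  exact ⟨c, hc⟩

/-- The abstract model follows from the coordinates. -/
theorem U34Coords.model [Fintype F] (hF : Fintype.card F = 16) {X : Type*} [Group X] [Finite X] {aa cc : X → F}
    (h : U34Coords F X aa cc) : U34Model X := by
  classical
  have h2 := char2_of_card16 hF
  obtain ⟨hc4, htr⟩ := card_fix4 (F := F) hF
  have hsq_aa : ∀ x : X, aa (x ^ 2) = 0 := by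
    intro x
    rw [pow_two, h.aa_mul]
    linear_combination (aa x) * h2
  have hsq_cc : ∀ x : X, cc (x ^ 2) = aa x ^ 5 := by
    intro x
    rw [pow_two, h.cc_mul]
    linear_combination (cc x) * h2
  have hsq1 : ∀ x : X, x ^ 2 = 1 ↔ aa x = 0 := by
    intro x
    constructor
    · intro h1
      have := hsq_cc x
      rw [h1, h.cc_one] at this
      exact (pow_eq_zero_iff (by norm_num)).mp this.symm
    · intro h1
      apply h.ext
      · rw [hsq_aa, h.aa_one]
      · rw [hsq_cc, h.cc_one, h1]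
        ring
  -- `α` determines a solution
  have hsol : ∀ α : F, ∃ γ : F, γ + γ ^ 4 = α ^ 5 := by
    intro α
    apply htr
    rw [← pow_mul]
    have : α ^ (5 * 4) = α ^ 16 * α ^ 4 := by ring
    rw [this, pow16 hF]
    ring
  have hex : ∀ α : F, ∃ x : X, aa x = α := by
    intro α
    obtain ⟨γ, hγ⟩ := hsol α
    obtain ⟨x, hx, -⟩ := h.ex α γ hγ
    exact ⟨x, hx⟩
  -- the kernel
  have hker : Nat.card {x : X // x ^ 2 = 1} = 4 := by
    rw [← hc4]
    rw [← Nat.card_eq_finsetCard] 
    apply Nat.card_congr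
    refine Equiv.ofBijective (fun x => ⟨cc x.1, ?_⟩) ⟨?_, ?_⟩
    · have h3 := h.rel x.1
      rw [(hsq1 x.1).mp x.2] at h3
      simp only [Finset.mem_filter, Finset.mem_univ, true_and]
      have : cc x.1 ^ 4 = - cc x.1 := by linear_combination h3
      have h4 : - cc x.1 = cc x.1 := by linear_combination (- cc x.1) * h2
      rw [this, h4]
    · intro x y hxy
      apply Subtype.ext
      apply h.ext
      · rw [(hsq1 x.1).mp x.2, (hsq1 y.1).mp y.2]
      · exact congrArg Subtype.val hxy
    · rintro ⟨γ, hγ⟩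
      have hγ' : γ ^ 4 = γ := (Finset.mem_filter.mp hγ).2
      obtain ⟨x, hx1, hx2⟩ := h.ex 0 γ (by rw [hγ']; linear_combination γ * h2)
      exact ⟨⟨x, (hsq1 x).mpr hx1⟩, Subtype.ext hx2⟩
  -- an element not fixed by the Frobenius
  obtain ⟨s, hs⟩ : ∃ s : F, s ^ 4 ≠ s := by
    by_contra hcon
    push Not at hcon
    have h5 : Finset.univ.filter (fun x : F => x ^ 4 = x) = Finset.univ := by
      ext x
      simp [hcon x]
    rw [h5, Finset.card_univ, hF] at hc4
    omega
  -- commutation
  have hcomm_iff : ∀ x y : X, x * y = y * x ↔ aa x * aa y ^ 4 = aa y * aa x ^ 4 := by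
    intro x y
    constructor
    · intro h1
      have := congrArg cc h1
      rw [h.cc_mul, h.cc_mul] at this
      linear_combination this + 0 * h2
    · intro h1
      apply h.ext
      · rw [h.aa_mul, h.aa_mul, add_comm]
      · rw [h.cc_mul, h.cc_mul, h1]
        ring
  have hcommel : ∀ x y : X, aa ⁅x, y⁆ = 0 ∧ cc ⁅x, y⁆ = aa x * aa y ^ 4 - aa y * aa x ^ 4 := by
    intro x y
    have e : ⁅x, y⁆ * (y * x) = x * y := by
      rw [commutatorElement_def]
      group
    have h3 := congrArg aa e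
    have h4 := congrArg cc e
    rw [h.aa_mul, h.aa_mul, h.aa_mul] at h3
    have h5 : aa ⁅x, y⁆ = 0 := by linear_combination h3
    rw [h.cc_mul, h.cc_mul, h.cc_mul, h5, h.aa_mul] at h4
    refine ⟨h5, ?_⟩
    linear_combination h4
  refine ⟨?_, ?_, hker, ?_, ?_, ?_⟩
  · -- card
    let π : X →* Multiplicative F :=
      { toFun := fun x => Multiplicative.ofAdd (aa x)
        map_one' := by rw [h.aa_one]; rfl
        map_mul' := fun x y => by rw [h.aa_mul]; rfl }
    have hπs : Function.Surjective π := by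
      intro a
      obtain ⟨x, hx⟩ := hex (Multiplicative.toAdd a)
      exact ⟨x, by show Multiplicative.ofAdd (aa x) = a; rw [hx]; rfl⟩
    have hkercard : Nat.card π.ker = 4 := by
      rw [← hker]
      apply Nat.card_congr
      apply Equiv.subtypeEquivRight
      intro x
      rw [hsq1, MonoidHom.mem_ker]
      show Multiplicative.ofAdd (aa x) = 1 ↔ _
      exact ofAdd_eq_one
    have h6 := Subgroup.card_mul_index π.ker
    rw [Subgroup.index_ker, MonoidHom.range_eq_top.mpr hπs, Subgroup.card_top, hkercard] at h6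
    have h7 : Nat.card (Multiplicative F) = 16 := by
      show Nat.card F = 16
      rw [Nat.card_eq_fintype_card, hF]
    rw [h7] at h6
    omega
  · -- squares
    intro x
    rw [hsq1]
    constructor
    · intro h1 y
      apply Eq.symm
      rw [hcomm_iff, h1]
      ring
    · intro h1
      by_contra hne
      obtain ⟨y, hy⟩ := hex (aa x * s)
      have h3 := (hcomm_iff x y).mp (h1 y).symm
      rw [hy] at h3
      apply hs
      have hne4 : aa x ^ 5 ≠ 0 := pow_ne_zero _ hne
      have h4 : aa x ^ 5 * (s ^ 4 - s) = 0 := by linear_combination h3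
      rcases mul_eq_zero.mp h4 with h5 | h5
      · exact absurd h5 hne4
      · exact sub_eq_zero.mp h5
  · -- commutators
    intro z hz
    have hz0 := (hsq1 z).mp hz
    have hzrel := h.rel z
    rw [hz0] at hzrel
    have hz4 : cc z ^ 4 = cc z := by
      linear_combination hzrel - (cc z) * h2
    obtain ⟨c, hc⟩ := htr (cc z) hz4
    obtain ⟨x, hx⟩ := hex 1
    obtain ⟨y, hy⟩ := hex c
    refine ⟨x, y, ?_⟩
    obtain ⟨h5, h6⟩ := hcommel x y
    apply h.ext
    · rw [h5, hz0]
    · rw [h6, hx, hy, ← hc]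
      linear_combination (- c) * h2
  · -- commutators have trivial `aa`
    intro x y
    rw [hsq1]
    exact (hcommel x y).1
  · intro x
    have : x ^ 4 = (x ^ 2) ^ 2 := by rw [← pow_mul]
    rw [this, hsq1, hsq_aa]

end coords

section matrix

variable {F : Type*} [Field F]

/-- The unipotent elements of `SU₃` for the diagonal form, in characteristic two. -/
def uMat (α γ : F) : Matrix (Fin 3) (Fin 3) F :=
  !![1 + γ, γ, α; γ, 1 + γ, α; α ^ 4, α ^ 4, 1]

theorem uMat_mul (h2 : (2 : F) = 0) (α γ α' γ' : F) :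
    uMat α γ * uMat α' γ' = uMat (α + α') (γ + γ' + α * α' ^ 4) := by
  ext i j
  fin_cases i <;> fin_cases j <;> simp [uMat, Matrix.mul_apply, Fin.sum_univ_three] <;>
    first
    | linear_combination γ * γ' * h2
    | linear_combination γ * α' * h2
    | linear_combination α ^ 4 * α' * h2
    | (rw [frob4 h2]; linear_combination α ^ 4 * γ' * h2)

theorem uMat_zero : uMat (0 : F) 0 = 1 := by
  ext i j
  fin_cases i <;> fin_cases j <;> simp [uMat]

theorem uMat_det (h2 : (2 : F) = 0) (α γ : F) : (uMat α γ).det = 1 := by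
  rw [Matrix.det_fin_three]
  simp [uMat]
  linear_combination (γ - α ^ 5) * h2

theorem uMat_mulVec (α γ : F) (u : Fin 3 → F) :
    uMat α γ *ᵥ u = ![u 0 + γ * (u 0 + u 1) + α * u 2, u 1 + γ * (u 0 + u 1) + α * u 2,
      α ^ 4 * (u 0 + u 1) + u 2] := by
  ext i
  fin_cases i <;> simp [uMat, Matrix.mulVec, dotProduct, Fin.sum_univ_three] <;> ring

theorem uMat_herm [Fintype F] (hF : Fintype.card F = 16) {α γ : F} (hrel : γ + γ ^ 4 = α ^ 5) (u v : Fin 3 → F) :
    hermForm 3 F 4 (uMat α γ *ᵥ u) (uMat α γ *ᵥ v) = hermForm 3 F 4 u v := by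
  have h2 := char2_of_card16 hF
  have f4 := frob4 h2
  rw [uMat_mulVec, uMat_mulVec]
  unfold hermForm
  simp only [Fin.sum_univ_three]
  simp only [Matrix.cons_val_zero, Matrix.cons_val_one, Matrix.cons_val, f4, mul_pow, ← pow_mul]
  norm_num
  rw [pow16 hF]
  linear_combination (u 0 + u 1) * (v 0 ^ 4 + v 1 ^ 4) * hrel +
    (α ^ 5 * (u 0 + u 1) * (v 0 ^ 4 + v 1 ^ 4) + (u 0 + u 1) * α ^ 4 * v 2 ^ 4 + α * u 2 * (v 0 ^ 4 + v 1 ^ 4) +
      (γ * (u 0 + u 1) + α * u 2) * (γ ^ 4 * (v 0 ^ 4 + v 1 ^ 4) + α ^ 4 * v 2 ^ 4)) * h2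

variable [Fintype F]

/-- The Sylow subgroup. -/
def uP (hF : Fintype.card F = 16) : Subgroup (SU 3 F 4) where
  carrier := {g | ∃ α γ : F, γ + γ ^ 4 = α ^ 5 ∧ (g.1.1 : Matrix (Fin 3) (Fin 3) F) = uMat α γ}
  mul_mem' := by
    rintro a b ⟨α, γ, h, ha⟩ ⟨α', γ', h', hb⟩
    have h2 := char2_of_card16 hF
    refine ⟨α + α', γ + γ' + α * α' ^ 4, ?_, ?_⟩
    · rw [frob4 h2, frob4 h2, mul_pow, ← pow_mul]
      norm_num
      rw [pow16 hF]
      have e : (α + α') ^ 5 = (α + α') * (α + α') ^ 4 := by ring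
      rw [e, frob4 h2]
      linear_combination h + h'
    · show (a.1.1 * b.1.1 : Matrix (Fin 3) (Fin 3) F) = _
      rw [ha, hb, uMat_mul h2]
  one_mem' := ⟨0, 0, by norm_num, by
    show (1 : Matrix (Fin 3) (Fin 3) F) = _
    rw [uMat_zero]⟩
  inv_mem' := by
    rintro a ⟨α, γ, h, ha⟩
    have h2 := char2_of_card16 hF
    have hrel' : (γ + α ^ 5) + (γ + α ^ 5) ^ 4 = α ^ 5 := by
      rw [frob4 h2, ← pow_mul]
      have e : α ^ (5 * 4) = α ^ 16 * α ^ 4 := by ring
      rw [e, pow16 hF]
      linear_combination h + (α ^ 5) * h2 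
    have hb : ∃ b : SU 3 F 4, (b.1.1 : Matrix (Fin 3) (Fin 3) F) = uMat α (γ + α ^ 5) :=
      ⟨⟨⟨uMat α (γ + α ^ 5), uMat_det h2 _ _⟩, fun u v => uMat_herm hF hrel' u v⟩, rfl⟩
    obtain ⟨b, hb⟩ := hb
    have hab : a * b = 1 := by
      apply Subtype.ext
      apply Subtype.ext
      show (a.1.1 * b.1.1 : Matrix (Fin 3) (Fin 3) F) = 1
      rw [ha, hb, uMat_mul h2]
      have e1 : α + α = 0 := by linear_combination α * h2
      have e2 : γ + (γ + α ^ 5) + α * α ^ 4 = 0 := by linear_combination (γ + α ^ 5) * h2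
      rw [e1, e2, uMat_zero]
    have hinv : a⁻¹ = b := (eq_inv_of_mul_eq_one_right hab).symm
    rw [hinv]
    exact ⟨α, γ + α ^ 5, hrel', hb⟩

/-- The coordinates. -/
def uAA (hF : Fintype.card F = 16) (x : ↥(uP hF)) : F := (x.1.1.1 : Matrix (Fin 3) (Fin 3) F) 0 2

/-- The coordinates. -/
def uCC (hF : Fintype.card F = 16) (x : ↥(uP hF)) : F := (x.1.1.1 : Matrix (Fin 3) (Fin 3) F) 0 1

theorem uP_mat (hF : Fintype.card F = 16) (x : ↥(uP hF)) :
    (x.1.1.1 : Matrix (Fin 3) (Fin 3) F) = uMat (uAA hF x) (uCC hF x) ∧ uCC hF x + uCC hF x ^ 4 = uAA hF x ^ 5 := by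
  obtain ⟨α, γ, h, ha⟩ := x.2
  have h1 : uAA hF x = α := by
    unfold uAA
    rw [ha]
    simp [uMat]
  have h3 : uCC hF x = γ := by
    unfold uCC
    rw [ha]
    simp [uMat]
  rw [h1, h3]
  exact ⟨ha, h⟩

theorem uP_coords (hF : Fintype.card F = 16) : U34Coords F ↥(uP hF) (uAA hF) (uCC hF) where
  ext := by
    intro x y h1 h3
    apply Subtype.ext
    apply Subtype.ext
    apply Subtype.ext
    rw [(uP_mat hF x).1, (uP_mat hF y).1, h1, h3]
  rel := fun x => (uP_mat hF x).2
  aa_mul := by
    intro x y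
    have h2 := char2_of_card16 hF
    show (x.1.1.1 * y.1.1.1 : Matrix (Fin 3) (Fin 3) F) 0 2 = _
    rw [(uP_mat hF x).1, (uP_mat hF y).1, uMat_mul h2]
    simp [uMat]
  cc_mul := by
    intro x y
    have h2 := char2_of_card16 hF
    show (x.1.1.1 * y.1.1.1 : Matrix (Fin 3) (Fin 3) F) 0 1 = _
    rw [(uP_mat hF x).1, (uP_mat hF y).1, uMat_mul h2]
    simp [uMat]
  aa_one := by
    show (1 : Matrix (Fin 3) (Fin 3) F) 0 2 = 0
    simp
  cc_one := by
    show (1 : Matrix (Fin 3) (Fin 3) F) 0 1 = 0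
    simp
  ex := by
    intro α γ h
    have h2 := char2_of_card16 hF
    let b : SU 3 F 4 := ⟨⟨uMat α γ, uMat_det h2 _ _⟩, fun u v => uMat_herm hF h u v⟩
    refine ⟨⟨b, ⟨α, γ, h, rfl⟩⟩, ?_, ?_⟩
    · show (uMat α γ) 0 2 = α
      simp [uMat]
    · show (uMat α γ) 0 1 = γ
      simp [uMat]

theorem card_su34 (hF : Fintype.card F = 16) : Nat.card (SU 3 F 4) = 62400 := by
  have h := Cfsg.Agent.Lib.Classical.card_su (F := F) (q := 4) (n := 3) (by rw [hF]; norm_num) (by norm_num)
  simp only [Finset.prod_range_succ, Finset.prod_range_zero] at h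
  norm_num [Nat.even_iff] at h
  omega

theorem center_su34 (hF : Fintype.card F = 16) : Subgroup.center (SU 3 F 4) = ⊥ := by
  have h := Cfsg.Agent.Lib.Classical.card_center_su (F := F) (q := 4) (n := 3) (by rw [hF]; norm_num) (by norm_num)
  norm_num at h
  exact h

/-- In a group of order `62400` any two subgroups of order `64` are isomorphic. -/
theorem sylow_iso_of_card {Y : Type*} [Group Y] [Finite Y] (hY : Nat.card Y = 62400) (P : Subgroup Y)
    (hP : Nat.card P = 64) (S : Sylow 2 Y) : Nonempty (↥P ≃* ↥(S : Subgroup Y)) := by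
  haveI : Fact (Nat.Prime 2) := ⟨Nat.prime_two⟩
  have hPp : IsPGroup 2 P := IsPGroup.iff_card.mpr ⟨6, by rw [hP]; norm_num⟩
  obtain ⟨Q, hQ⟩ := hPp.exists_le_sylow
  obtain ⟨k, hk⟩ := (Q.isPGroup').exists_card_eq
  have hd : Nat.card (Q : Subgroup Y) ∣ 62400 := by
    rw [← hY]
    exact Subgroup.card_subgroup_dvd_card _
  have hk6 : k ≤ 6 := by
    by_contra hlt
    push Not at hlt
    have h7 : 2 ^ 7 ∣ 2 ^ k := pow_dvd_pow 2 hlt
    rw [hk] at hd
    have := h7.trans hd
    norm_num at this
  have hcQ : Nat.card (Q : Subgroup Y) ≤ 64 := by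
    rw [hk]
    calc 2 ^ k ≤ 2 ^ 6 := Nat.pow_le_pow_right (by norm_num) hk6
      _ = 64 := by norm_num
  have heq : P = Q := Subgroup.eq_of_le_of_card_ge hQ (by rw [hP]; exact hcQ)
  subst heq
  exact ⟨Sylow.equiv Q S⟩

/-- **The Sylow `2`-subgroups of `U₃(4)`.** -/
theorem u34_model (hF : Fintype.card F = 16) (S : Sylow 2 (PSU 3 F 4)) : U34Model ↥(S : Subgroup (PSU 3 F 4)) := by
  have hm : U34Model ↥(uP hF) := (uP_coords hF).model hF
  have hc := center_su34 hF
  let e : SU 3 F 4 ≃* PSU 3 F 4 :=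
    (QuotientGroup.quotientBot.symm).trans (QuotientGroup.quotientMulEquivOfEq hc.symm)
  have hY : Nat.card (PSU 3 F 4) = 62400 := by
    rw [← Nat.card_congr e.toEquiv]
    exact card_su34 hF
  let P' : Subgroup (PSU 3 F 4) := (uP hF).map e.toMonoidHom
  let e' : ↥(uP hF) ≃* ↥P' := (uP hF).equivMapOfInjective _ e.injective
  have hP' : Nat.card P' = 64 := by
    rw [← Nat.card_congr e'.toEquiv]
    exact hm.card
  obtain ⟨e2⟩ := sylow_iso_of_card hY P' hP' S
  exact hm.congr (e'.trans e2)

end matrix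

end Cfsg.Agent.Lib.TwoFusion
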