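import Mathlib
import Cfsg.Agent.Lib.Classical.SmallIso
import Cfsg.Agent.Lib.Classical.Transfer

/-!
# Identifying a permutation group with `SL₂(F)` in characteristic two
-/

set_option autoImplicit false

namespace Cfsg.Agent.Lib.TwoFusion

open Matrix OnePoint

variable {F : Type*} [Field F] [DecidableEq F]

/-- `SL₂(F)` acts on the projective line. -/
noncomputable def sl2Perm (F : Type*) [Field F] [DecidableEq F] : SpecialLinearGroup (Fin 2) F →* Equiv.Perm (OnePoint F) :=
  (MulAction.toPermHom (GL (Fin 2) F) (OnePoint F)).comp SpecialLinearGroup.toGL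

theorem sl2Perm_apply (m : SpecialLinearGroup (Fin 2) F) (x : OnePoint F) :
    sl2Perm F m x = (SpecialLinearGroup.toGL m : GL (Fin 2) F) • x := rfl

theorem sl2Perm_infty (m : SpecialLinearGroup (Fin 2) F) :
    sl2Perm F m (∞ : OnePoint F) = if (m : Matrix (Fin 2) (Fin 2) F) 1 0 = 0 then ∞ else
      (((m : Matrix (Fin 2) (Fin 2) F) 0 0 / (m : Matrix (Fin 2) (Fin 2) F) 1 0 : F) : OnePoint F) := by
  rw [sl2Perm_apply, smul_infty_eq_ite]
  rfl

theorem sl2Perm_coe (m : SpecialLinearGroup (Fin 2) F) (k : F) :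
    sl2Perm F m (k : OnePoint F) = if (m : Matrix (Fin 2) (Fin 2) F) 1 0 * k + (m : Matrix (Fin 2) (Fin 2) F) 1 1 = 0 then ∞ else
      ((((m : Matrix (Fin 2) (Fin 2) F) 0 0 * k + (m : Matrix (Fin 2) (Fin 2) F) 0 1) / ((m : Matrix (Fin 2) (Fin 2) F) 1 0 * k + (m : Matrix (Fin 2) (Fin 2) F) 1 1) : F) : OnePoint F) := by
  rw [sl2Perm_apply, smul_some_eq_ite]
  rfl

/-- Translation. -/
noncomputable def slTrans (t : F) : SpecialLinearGroup (Fin 2) F :=
  ⟨!![1, t; 0, 1], by simp [det_fin_two]⟩

theorem slTrans_infty (t : F) : sl2Perm F (slTrans t) ∞ = ∞ := by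
  rw [sl2Perm_infty]
  simp [slTrans]

theorem slTrans_coe (t k : F) : sl2Perm F (slTrans t) (k : OnePoint F) = ((k + t : F) : OnePoint F) := by
  rw [sl2Perm_coe]
  simp [slTrans]

/-- Diagonal element. -/
noncomputable def slDiag (a : F) (ha : a ≠ 0) : SpecialLinearGroup (Fin 2) F :=
  ⟨!![a, 0; 0, a⁻¹], by simp [det_fin_two, ha]⟩

theorem slDiag_infty (a : F) (ha : a ≠ 0) : sl2Perm F (slDiag a ha) ∞ = ∞ := by
  rw [sl2Perm_infty]
  simp [slDiag]

theorem slDiag_coe (a : F) (ha : a ≠ 0) (k : F) : sl2Perm F (slDiag a ha) (k : OnePoint F) = ((a * a * k : F) : OnePoint F) := by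
  rw [sl2Perm_coe]
  simp [slDiag, ha]
  field_simp

/-- The inversion in characteristic two. -/
noncomputable def slInv (h2 : (2 : F) = 0) : SpecialLinearGroup (Fin 2) F :=
  ⟨!![0, 1; 1, 0], by
    have h : (-1 : F) = 1 := by
      have : (1 : F) + 1 = 0 := by rw [one_add_one_eq_two, h2]
      exact (neg_eq_of_add_eq_zero_right this)
    simp [det_fin_two, h]⟩

theorem slInv_infty (h2 : (2 : F) = 0) : sl2Perm F (slInv h2) ∞ = ((0 : F) : OnePoint F) := by
  rw [sl2Perm_infty]
  simp [slInv]

theorem slInv_zero (h2 : (2 : F) = 0) : sl2Perm F (slInv h2) ((0 : F) : OnePoint F) = ∞ := by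
  rw [sl2Perm_coe]
  simp [slInv]

theorem slInv_coe (h2 : (2 : F) = 0) {k : F} (hk : k ≠ 0) : sl2Perm F (slInv h2) (k : OnePoint F) = ((k⁻¹ : F) : OnePoint F) := by
  rw [sl2Perm_coe]
  simp [slInv, hk]

theorem center_SL_eq_bot (h2 : (2 : F) = 0) : Subgroup.center (SpecialLinearGroup (Fin 2) F) = ⊥ := by
  rw [eq_bot_iff]
  intro A hA
  rw [Matrix.SpecialLinearGroup.mem_center_iff] at hA
  obtain ⟨r, hr, hrA⟩ := hA
  have hr1 : r = 1 := by
    have h3 : (r - 1) * (r + 1) = 0 := by
      rw [Fintype.card_fin] at hr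
      linear_combination hr
    have h4 : (r + 1) = r - 1 := by
      linear_combination h2
    rw [h4] at h3
    have := mul_self_eq_zero.mp h3
    linear_combination this
  rw [Subgroup.mem_bot]
  ext i j
  rw [← hrA, hr1]
  simp [Matrix.one_apply]
  
/-- In characteristic two, `PSL₂ = SL₂`. -/
noncomputable def slMulEquivPsl (h2 : (2 : F) = 0) :
    SpecialLinearGroup (Fin 2) F ≃* ProjectiveSpecialLinearGroup (Fin 2) F :=
  (QuotientGroup.quotientBot.symm).trans (QuotientGroup.quotientMulEquivOfEq (center_SL_eq_bot h2).symm)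

theorem sl2Perm_injective (h2 : (2 : F) = 0) : Function.Injective (sl2Perm F) := by
  rw [injective_iff_map_eq_one]
  intro m hm
  have h_inf := congrArg (fun f : Equiv.Perm (OnePoint F) => f ∞) hm
  have h_0 := congrArg (fun f : Equiv.Perm (OnePoint F) => f ((0 : F) : OnePoint F)) hm
  have h_1 := congrArg (fun f : Equiv.Perm (OnePoint F) => f ((1 : F) : OnePoint F)) hm
  simp only [Equiv.Perm.coe_one, id_eq] at h_inf h_0 h_1
  rw [sl2Perm_infty] at h_inf
  rw [sl2Perm_coe] at h_0 h_1
  have hdet := m.2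
  rw [det_fin_two] at hdet
  set a := (m : Matrix (Fin 2) (Fin 2) F) 0 0 with ha
  set b := (m : Matrix (Fin 2) (Fin 2) F) 0 1 with hb
  set c := (m : Matrix (Fin 2) (Fin 2) F) 1 0 with hc
  set d := (m : Matrix (Fin 2) (Fin 2) F) 1 1 with hd
  have hc0 : c = 0 := by
    by_contra hne
    rw [if_neg hne] at h_inf
    exact OnePoint.coe_ne_infty _ h_inf
  rw [hc0] at h_0 h_1 hdet
  simp only [zero_mul, zero_add, mul_one, mul_zero, sub_zero, add_zero] at h_0 h_1 hdet
  have hd0 : d ≠ 0 := by
    intro h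
    rw [h, mul_zero] at hdet
    exact zero_ne_one hdet
  rw [if_neg hd0] at h_0 h_1
  have hb0 : b = 0 := by
    have := OnePoint.coe_injective h_0
    rw [div_eq_zero_iff] at this
    rcases this with h | h
    · exact h
    · exact absurd h hd0
  have hab : a = d := by
    have := OnePoint.coe_injective h_1
    rw [hb0, add_zero, div_eq_one_iff_eq hd0] at this
    exact this
  have ha1 : a = 1 := by
    rw [← hab] at hdet
    have h3 : (a - 1) * (a - 1) = 0 := by
      linear_combination hdet + (1 - a) * h2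
    have := mul_self_eq_zero.mp h3
    linear_combination this
  apply Subtype.ext
  ext i j
  fin_cases i <;> fin_cases j
  · show a = _
    simp [ha1]
  · show b = _
    simp [hb0]
  · show c = _
    simp [hc0]
  · show d = _
    simp [← hab, ha1]

/-- **Recognition**: a faithful action on the projective line inside the action of `SL₂`. -/
theorem nonempty_mulEquiv_psl_of_action {G X : Type*} [Group G] [Finite G] [MulAction G X] [Finite F] (h2 : (2 : F) = 0)
    (ρ : OnePoint F ≃ X) (hfaith : ∀ g : G, (∀ x : X, g • x = x) → g = 1)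
    (hcard : Nat.card G = (Nat.card F + 1) * (Nat.card F * (Nat.card F - 1)))
    (hgen : ∀ g : G, ∃ m : SpecialLinearGroup (Fin 2) F, ∀ p : OnePoint F, g • ρ p = ρ (sl2Perm F m p)) :
    Nonempty (G ≃* ProjectiveSpecialLinearGroup (Fin 2) F) := by
  let θ : G →* Equiv.Perm (OnePoint F) := (ρ.symm.permCongrHom.toMonoidHom).comp (MulAction.toPermHom G X)
  have hθ : Function.Injective θ := by
    rw [injective_iff_map_eq_one]
    intro g hg
    apply hfaith
    intro x
    have h1 := congrArg (fun f : Equiv.Perm (OnePoint F) => f (ρ.symm x)) hg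
    simp only [θ, MonoidHom.comp_apply, Equiv.Perm.coe_one, id_eq] at h1
    have h3 : ρ.symm (g • x) = ρ.symm x := by
      simpa [Equiv.permCongrHom] using h1
    exact ρ.symm.injective h3
  have hle : θ.range ≤ (sl2Perm F).range := by
    rintro _ ⟨g, rfl⟩
    obtain ⟨m, hm⟩ := hgen g
    refine ⟨m, ?_⟩
    ext p
    have h4 := hm p
    simp only [θ, MonoidHom.comp_apply]
    apply ρ.injective
    rw [← h4]
    simp [Equiv.permCongrHom]
  have hcSL : Nat.card (SpecialLinearGroup (Fin 2) F) = Nat.card G := by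
    have h5 := Cfsg.Agent.Lib.Classical.card_SL_two (F := F)
    rw [hcard]
    have hq : 2 ≤ Nat.card F := Finite.one_lt_card
    have hq1 : 0 < Nat.card F - 1 := by omega
    obtain ⟨k, hk⟩ : ∃ k, Nat.card F = k + 1 := ⟨Nat.card F - 1, by omega⟩
    rw [hk] at h5 ⊢
    simp only [Nat.add_sub_cancel] at h5 ⊢
    have hk0 : 0 < k := by omega
    apply Nat.eq_of_mul_eq_mul_left hk0
    rw [h5]
    have e1 : (k + 1) ^ 2 - 1 = k * (k + 2) := by
      have : (k + 1) ^ 2 = k * (k + 2) + 1 := by ring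
      omega
    have e2 : (k + 1) ^ 2 - (k + 1) = k * (k + 1) := by
      have : (k + 1) ^ 2 = k * (k + 1) + (k + 1) := by ring
      omega
    rw [e1, e2]
    have : (k + 1 + 1) * ((k + 1) * k) = (k + 2) * ((k + 1) * k) := by ring_nf
    rw [this]
    ring
  have hcr1 : Nat.card θ.range = Nat.card G := Nat.card_congr (MonoidHom.ofInjective hθ).symm.toEquiv
  have hcr2 : Nat.card (sl2Perm F).range = Nat.card (SpecialLinearGroup (Fin 2) F) :=
    Nat.card_congr (MonoidHom.ofInjective (sl2Perm_injective h2)).symm.toEquiv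
  haveI : Finite (OnePoint F) := inferInstanceAs (Finite (Option F))
  have heq : θ.range = (sl2Perm F).range :=
    Subgroup.eq_of_le_of_card_ge hle (by rw [hcr1, hcr2, hcSL])
  exact ⟨((MonoidHom.ofInjective hθ).trans (MulEquiv.subgroupCongr heq)).trans
    ((MonoidHom.ofInjective (sl2Perm_injective h2)).symm.trans (slMulEquivPsl h2))⟩

end Cfsg.Agent.Lib.TwoFusion
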