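import Mathlib

/-!
# A field from a regular action

An abelian group with an abelian group of automorphisms acting regularly on its nonidentity elements
carries a field structure.
-/

set_option autoImplicit false

namespace Cfsg.Agent.Lib.TwoFusion

universe u v

section

variable {A : Type u} [AddCommGroup A] {D : Type v} [CommGroup D] [DistribMulAction D A]

/-- A regular action of `D` on `A \ {0}`. -/
structure RegAct (D : Type v) [CommGroup D] [DistribMulAction D A] (e : A) : Prop where
  ne : e ≠ 0
  free : ∀ d : D, d • e = e → d = 1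
  trans : ∀ x : A, x ≠ 0 → ∃ d : D, d • e = x

variable {e : A}

open Classical in
/-- The multiplication. -/
noncomputable def RegAct.mulFun (h : RegAct D e) (x y : A) : A :=
  if hx : x = 0 then 0 else (Classical.choose (h.trans x hx)) • y

open Classical in
/-- The inverse. -/
noncomputable def RegAct.invFun (h : RegAct D e) (x : A) : A :=
  if hx : x = 0 then 0 else (Classical.choose (h.trans x hx))⁻¹ • e

theorem RegAct.inj (h : RegAct D e) {d d' : D} (hd : d • e = d' • e) : d = d' := by
  have h1 : (d'⁻¹ * d) • e = e := by
    rw [mul_smul, hd, ← mul_smul, inv_mul_cancel, one_smul]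
  have h2 := h.free _ h1
  rw [inv_mul_eq_one] at h2
  exact h2.symm

theorem RegAct.smul_ne (h : RegAct D e) (d : D) : d • e ≠ 0 := by
  intro h0
  apply h.ne
  have := congrArg (fun x => d⁻¹ • x) h0
  simpa using this

theorem RegAct.mulFun_smul (h : RegAct D e) (d : D) (y : A) : h.mulFun (d • e) y = d • y := by
  unfold RegAct.mulFun
  rw [dif_neg (h.smul_ne d)]
  have := Classical.choose_spec (h.trans _ (h.smul_ne d))
  rw [h.inj this]

theorem RegAct.mulFun_zero_left (h : RegAct D e) (y : A) : h.mulFun 0 y = 0 := by
  unfold RegAct.mulFun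
  rw [dif_pos rfl]

theorem RegAct.invFun_smul (h : RegAct D e) (d : D) : h.invFun (d • e) = d⁻¹ • e := by
  unfold RegAct.invFun
  rw [dif_neg (h.smul_ne d)]
  have := Classical.choose_spec (h.trans _ (h.smul_ne d))
  rw [h.inj this]

theorem RegAct.invFun_zero (h : RegAct D e) : h.invFun 0 = 0 := by
  unfold RegAct.invFun
  rw [dif_pos rfl]

theorem RegAct.cases (h : RegAct D e) (x : A) : x = 0 ∨ ∃ d : D, d • e = x := by
  by_cases hx : x = 0
  · exact Or.inl hx
  · exact Or.inr (h.trans x hx)

theorem RegAct.mul_comm' (h : RegAct D e) (x y : A) : h.mulFun x y = h.mulFun y x := by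
  rcases h.cases x with rfl | ⟨d, rfl⟩
  · rcases h.cases y with rfl | ⟨d', rfl⟩
    · rfl
    · rw [h.mulFun_zero_left, h.mulFun_smul, smul_zero]
  · rcases h.cases y with rfl | ⟨d', rfl⟩
    · rw [h.mulFun_zero_left, h.mulFun_smul, smul_zero]
    · rw [h.mulFun_smul, h.mulFun_smul, ← mul_smul, ← mul_smul, mul_comm]

theorem RegAct.mul_assoc' (h : RegAct D e) (x y z : A) : h.mulFun (h.mulFun x y) z = h.mulFun x (h.mulFun y z) := by
  rcases h.cases x with rfl | ⟨d, rfl⟩
  · rw [h.mulFun_zero_left, h.mulFun_zero_left, h.mulFun_zero_left]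
  · rcases h.cases y with rfl | ⟨d', rfl⟩
    · simp only [h.mulFun_smul, h.mulFun_zero_left, smul_zero]
    · rw [h.mulFun_smul, h.mulFun_smul, h.mulFun_smul, ← mul_smul, h.mulFun_smul, ← mul_smul]

theorem RegAct.left_distrib' (h : RegAct D e) (x y z : A) : h.mulFun x (y + z) = h.mulFun x y + h.mulFun x z := by
  rcases h.cases x with rfl | ⟨d, rfl⟩
  · rw [h.mulFun_zero_left, h.mulFun_zero_left, h.mulFun_zero_left, add_zero]
  · rw [h.mulFun_smul, h.mulFun_smul, h.mulFun_smul, smul_add]

theorem RegAct.one_mul' (h : RegAct D e) (y : A) : h.mulFun e y = y := by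
  have := h.mulFun_smul 1 y
  simpa using this

/-- The field. -/
@[instance_reducible] noncomputable def RegAct.field (h : RegAct D e) : Field A :=
  { (inferInstance : AddCommGroup A) with
    mul := h.mulFun
    one := e
    zero_mul := h.mulFun_zero_left
    mul_zero := fun x => by
      show h.mulFun x 0 = 0
      rw [h.mul_comm', h.mulFun_zero_left]
    mul_assoc := h.mul_assoc'
    one_mul := h.one_mul'
    mul_one := fun x => by
      show h.mulFun x e = x
      rw [h.mul_comm', h.one_mul']
    left_distrib := h.left_distrib'
    right_distrib := fun x y z => by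
      show h.mulFun (x + y) z = h.mulFun x z + h.mulFun y z
      rw [h.mul_comm', h.left_distrib', h.mul_comm' z x, h.mul_comm' z y]
    mul_comm := h.mul_comm'
    inv := h.invFun
    exists_pair_ne := ⟨e, 0, h.ne⟩
    mul_inv_cancel := fun x hx => by
      show h.mulFun x (h.invFun x) = e
      obtain ⟨d, rfl⟩ := h.trans x hx
      rw [h.invFun_smul, h.mulFun_smul, ← mul_smul, mul_inv_cancel, one_smul]
    inv_zero := h.invFun_zero
    nnqsmul := _
    qsmul := _ }

end

/-- Packaged form: a multiplicatively written abelian group with a regular group of automorphisms. -/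
theorem exists_field_of_regular {T : Type u} [Group T] {D : Type v} [Group D]
    (hT : ∀ a b : T, a * b = b * a) (hD : ∀ a b : D, a * b = b * a)
    (act : D →* MulAut T) (e : T) (he : e ≠ 1) (hfree : ∀ d : D, act d e = e → d = 1)
    (htrans : ∀ x : T, x ≠ 1 → ∃ d : D, act d e = x) :
    ∃ (F : Type u) (_ : Field F) (κ : T ≃ F), (∀ x y, κ (x * y) = κ x + κ y) ∧ κ e = 1 ∧
      ∀ d x, κ (act d x) = κ (act d e) * κ x := by
  letI : CommGroup T := { (inferInstance : Group T) with mul_comm := hT }
  letI : CommGroup D := { (inferInstance : Group D) with mul_comm := hD }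
  letI : DistribMulAction D (Additive T) :=
    { smul := fun d x => Additive.ofMul (act d (Additive.toMul x))
      one_smul := fun x => by
        show Additive.ofMul (act 1 (Additive.toMul x)) = x
        simp
      mul_smul := fun a b x => by
        show Additive.ofMul (act (a * b) (Additive.toMul x)) = Additive.ofMul (act a (act b (Additive.toMul x)))
        simp
      smul_zero := fun a => by
        show Additive.ofMul (act a 1) = 0
        simp
      smul_add := fun a x y => by
        show Additive.ofMul (act a (Additive.toMul x * Additive.toMul y)) = Additive.ofMul (act a (Additive.toMul x)) + Additive.ofMul (act a (Additive.toMul y))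
        rw [map_mul]
        rfl }
  have hreg : RegAct D (Additive.ofMul e) :=
    { ne := he
      free := fun d hd => hfree d hd
      trans := fun x hx => by
        obtain ⟨d, hd⟩ := htrans (Additive.toMul x) hx
        exact ⟨d, hd⟩ }
  letI hf : Field (Additive T) := hreg.field
  refine ⟨Additive T, hf, Additive.ofMul, fun x y => rfl, rfl, ?_⟩
  intro d x
  exact (hreg.mulFun_smul d (Additive.ofMul x)).symm

end Cfsg.Agent.Lib.TwoFusion
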