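import Cfsg.Agent.Lib.TwoFusion.Zass2
import Cfsg.Agent.Lib.TwoFusion.ZassField
import Cfsg.Agent.Lib.TwoFusion.ZassIso

/-!
# The Zassenhaus situation: identification with `PSL₂`
-/

set_option autoImplicit false
set_option linter.unusedSectionVars false

namespace Cfsg.Agent.Lib.TwoFusion

open Cfsg Subgroup OnePoint Matrix

universe u

variable {G : Type u} [Group G] [Finite G]

/-- Conjugation of a subgroup of `N(T)` on `T`. -/
noncomputable def actDT (T : Sylow 2 G) (D : Subgroup G) (hD : D ≤ NT T) : ↥D →* MulAut ↥(T : Subgroup G) :=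
  { toFun := fun d =>
      { toFun := fun x => ⟨(d : G) * x * (d : G)⁻¹, conj_mem_T (hD d.2) x.2⟩
        invFun := fun x => ⟨(d : G)⁻¹ * x * (d : G), by
          have := conj_mem_T (hD (D.inv_mem d.2)) x.2
          simpa using this⟩
        left_inv := by
          intro x
          apply Subtype.ext
          simp [mul_assoc]
        right_inv := by
          intro x
          apply Subtype.ext
          simp [mul_assoc]
        map_mul' := by
          intro x y
          apply Subtype.ext
          simp [mul_assoc] }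
    map_one' := by
      ext x
      simp
    map_mul' := by
      intro a b
      ext x
      simp [mul_assoc] }

theorem actDT_coe (T : Sylow 2 G) (D : Subgroup G) (hD : D ≤ NT T) (d : ↥D) (x : ↥(T : Subgroup G)) :
    ((actDT T D hD d x : ↥(T : Subgroup G)) : G) = (d : G) * x * (d : G)⁻¹ := rfl

theorem exists_field_zass (hC : ZassHyp G) {T : Sylow 2 G} (hnc : ¬ IsCyclic (T : Subgroup G))
    (hnn : ¬ (T : Subgroup G).Normal) :
    ∃ (F : Type u) (_ : Field F) (_ : Finite F), Nat.card F = Nat.card (T : Subgroup G) ∧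
      Nonempty (G ≃* ProjectiveSpecialLinearGroup (Fin 2) F) := by
  classical
  obtain ⟨u, hu, huH⟩ := exists_involution_outside hC hnn
  have hSE := isStronglyEmbedded_NT hC hnn
  obtain ⟨w, hw⟩ := exists_fixed hSE (i := u) (k := 1) (by rw [pow_one]; exact hu)
  have h0ne : (QuotientGroup.mk u : G ⧸ NT T) ≠ QuotientGroup.mk 1 := fun h => huH (mk_eq_mk_one_iff.mp h)
  have huinf : u • (QuotientGroup.mk 1 : G ⧸ NT T) = QuotientGroup.mk u := by
    rw [smul_mk, mul_one]
  have hu2 : u * u = 1 := by
    rw [← pow_two, ← hu, pow_orderOf_eq_one]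
  have hu0 : u • (QuotientGroup.mk u : G ⧸ NT T) = QuotientGroup.mk 1 := by
    rw [smul_mk, hu2]
  have hw1 : w ≠ QuotientGroup.mk 1 := by
    rintro rfl
    rw [huinf] at hw
    exact h0ne hw
  have hw2 : w ≠ QuotientGroup.mk u := by
    rintro rfl
    rw [hu0] at hw
    exact h0ne hw.symm
  obtain ⟨e, he, hew⟩ := exists_T_smul hC hnc hnn hu huH hw1
  have he1 : e ≠ 1 := by
    rintro rfl
    rw [one_smul] at hew
    exact hw2 hew.symm
  have heo : orderOf e = 2 := orderOf_two_of_sq (sylow_sq hC he) he1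
  let D : Subgroup G := DD T u
  have hDN : D ≤ NT T := inf_le_left
  let act := actDT T D hDN
  let e' : ↥(T : Subgroup G) := ⟨e, he⟩
  have he'1 : e' ≠ 1 := fun h => he1 (congrArg Subtype.val h)
  have hfree : ∀ d : ↥D, act d e' = e' → d = 1 := by
    intro d hd
    have h1 : (d : G) * e * (d : G)⁻¹ = e := congrArg Subtype.val hd
    have h2 : (d : G) * e = e * d := by
      rw [mul_inv_eq_iff_eq_mul] at h1
      exact h1
    have := eq_one_of_commute hC hnn huH d.2 heo he h2
    exact Subtype.ext this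
  have htrans : ∀ x : ↥(T : Subgroup G), x ≠ 1 → ∃ d : ↥D, act d e' = x := by
    intro x hx
    have hx1 : (x : G) ≠ 1 := fun h => hx (Subtype.ext h)
    obtain ⟨d, hd, -, hd2⟩ := exists_DD_conj hC hnn hu huH heo he (orderOf_two_of_sq (sylow_sq hC x.2) hx1) x.2
    exact ⟨⟨d, hd⟩, Subtype.ext hd2⟩
  have hTc : ∀ a b : ↥(T : Subgroup G), a * b = b * a := fun a b => Subtype.ext (sylow_comm hC a.2 b.2)
  have hDc : ∀ a b : ↥D, a * b = b * a := fun a b => Subtype.ext (DD_comm hC hnn hu huH a.2 b.2)
  obtain ⟨F, instF, κ, hadd, hone, hact⟩ := exists_field_of_regular hTc hDc act e' he'1 hfree htrans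
  letI := instF
  haveI hFfin : Finite F := Finite.of_equiv _ κ
  have hκ1 : κ 1 = 0 := by
    have := hadd 1 1
    rw [mul_one] at this
    have h3 : κ 1 + κ 1 = κ 1 + 0 := by rw [← this, add_zero]
    exact add_left_cancel h3
  have hκs : ∀ a : F, ((κ.symm a : ↥(T : Subgroup G)) : G) ∈ (T : Subgroup G) := fun a => (κ.symm a).2
  have h2 : (2 : F) = 0 := by
    have h3 := hadd e' e'
    have h4 : e' * e' = 1 := Subtype.ext (by
      have := sylow_sq hC he
      rw [pow_two] at this
      exact this)
    rw [h4, hκ1, hone] at h3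
    rw [← one_add_one_eq_two]
    exact h3.symm
  -- the coordinates
  let ρf : OnePoint F → G ⧸ NT T := fun p => p.elim (QuotientGroup.mk 1) (fun a => ((κ.symm a : ↥(T : Subgroup G)) : G) • (QuotientGroup.mk u : G ⧸ NT T))
  have hρinf : ρf ∞ = QuotientGroup.mk 1 := rfl
  have hρcoe : ∀ a : F, ρf (a : OnePoint F) = ((κ.symm a : ↥(T : Subgroup G)) : G) • (QuotientGroup.mk u : G ⧸ NT T) := fun a => rfl
  have hρT : ∀ x : ↥(T : Subgroup G), ρf ((κ x : F) : OnePoint F) = (x : G) • (QuotientGroup.mk u : G ⧸ NT T) := by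
    intro x
    rw [hρcoe, κ.symm_apply_apply]
  have hne_inf : ∀ a : F, ρf (a : OnePoint F) ≠ QuotientGroup.mk 1 := by
    intro a h
    rw [hρcoe] at h
    apply h0ne
    rw [← inv_smul_smul ((κ.symm a : ↥(T : Subgroup G)) : G) (QuotientGroup.mk u : G ⧸ NT T), h]
    exact smul_base_of_mem (le_normalizer ((T : Subgroup G).inv_mem (hκs a)))
  have hρinj : Function.Injective ρf := by
    intro p q hpq
    cases p with
    | infty =>
      cases q with
      | infty => rfl
      | coe b => exact absurd hpq.symm (hne_inf b)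
    | coe a =>
      cases q with
      | infty => exact absurd hpq (hne_inf a)
      | coe b =>
        rw [hρcoe, hρcoe] at hpq
        have h3 : ((κ.symm b : ↥(T : Subgroup G)) : G)⁻¹ * ((κ.symm a : ↥(T : Subgroup G)) : G) = 1 := by
          apply T_free hC hnn ((T : Subgroup G).mul_mem ((T : Subgroup G).inv_mem (hκs b)) (hκs a)) h0ne
          rw [mul_smul, hpq, inv_smul_smul]
        have h4 : ((κ.symm a : ↥(T : Subgroup G)) : G) = ((κ.symm b : ↥(T : Subgroup G)) : G) := by
          rw [inv_mul_eq_one] at h3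
          exact h3.symm
        have h5 : κ.symm a = κ.symm b := Subtype.ext h4
        rw [κ.symm.injective h5]
  have hρsurj : Function.Surjective ρf := by
    intro y
    by_cases hy : y = QuotientGroup.mk 1
    · exact ⟨∞, hy.symm⟩
    · obtain ⟨t, ht, hty⟩ := exists_T_smul hC hnc hnn hu huH hy
      refine ⟨((κ ⟨t, ht⟩ : F) : OnePoint F), ?_⟩
      rw [hρT]
      exact hty
  let ρ : OnePoint F ≃ G ⧸ NT T := Equiv.ofBijective ρf ⟨hρinj, hρsurj⟩
  have hρeq : ∀ p, ρ p = ρf p := fun p => rfl
  -- the subgroup of elements induced from `SL₂`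
  let K : Subgroup G :=
    { carrier := {g | ∃ m : SpecialLinearGroup (Fin 2) F, ∀ p : OnePoint F, g • ρ p = ρ (sl2Perm F m p)}
      one_mem' := ⟨1, fun p => by simp⟩
      mul_mem' := by
        rintro a b ⟨m, hm⟩ ⟨n, hn⟩
        refine ⟨m * n, fun p => ?_⟩
        rw [mul_smul, hn, hm, map_mul]
        rfl
      inv_mem' := by
        rintro a ⟨m, hm⟩
        refine ⟨m⁻¹, fun p => ?_⟩
        rw [inv_smul_eq_iff, hm, ← Equiv.Perm.mul_apply, ← map_mul, mul_inv_cancel, map_one]
        rfl }
  have hK : ∀ g, g ∈ K ↔ ∃ m : SpecialLinearGroup (Fin 2) F, ∀ p : OnePoint F, g • ρ p = ρ (sl2Perm F m p) := fun g => Iff.rfl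
  have hTK : (T : Subgroup G) ≤ K := by
    intro t ht
    rw [hK]
    refine ⟨slTrans (κ ⟨t, ht⟩), fun p => ?_⟩
    cases p with
    | infty =>
      rw [slTrans_infty, hρeq, hρinf]
      exact smul_base_of_mem (le_normalizer ht)
    | coe a =>
      rw [slTrans_coe, hρeq, hρeq, hρcoe, hρcoe, ← mul_smul]
      congr 2
      have h6 : a + κ ⟨t, ht⟩ = κ (⟨t, ht⟩ * κ.symm a) := by
        rw [hadd, κ.apply_symm_apply, add_comm]
      rw [h6, κ.symm_apply_apply]
      rfl
  have hDK : D ≤ K := by
    intro d hd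
    rw [hK]
    have hne : κ (act ⟨d, hd⟩ e') ≠ 0 := by
      intro h0
      rw [← hκ1] at h0
      have h3 := κ.injective h0
      apply he'1
      have h4 := congrArg (fun x => (act ⟨d, hd⟩)⁻¹ x) h3
      simpa using h4
    have hcharp : ringChar F = 2 := by
      haveI : CharP F 2 := CharTwo.of_one_ne_zero_of_two_eq_zero one_ne_zero h2
      exact ringChar.eq F 2
    obtain ⟨a₀, ha₀⟩ := FiniteField.isSquare_of_char_two hcharp (κ (act ⟨d, hd⟩ e'))
    have ha₀ne : a₀ ≠ 0 := by
      rintro rfl
      rw [mul_zero] at ha₀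
      exact hne ha₀
    refine ⟨slDiag a₀ ha₀ne, fun p => ?_⟩
    cases p with
    | infty =>
      rw [slDiag_infty, hρeq, hρinf]
      exact smul_base_of_mem hd.1
    | coe a =>
      rw [slDiag_coe, hρeq, hρeq, hρcoe, hρcoe, ← ha₀]
      have h3 := hact ⟨d, hd⟩ (κ.symm a)
      rw [κ.apply_symm_apply] at h3
      rw [← h3, κ.symm_apply_apply, actDT_coe]
      simp only
      have hdu : d • (QuotientGroup.mk u : G ⧸ NT T) = QuotientGroup.mk u := (mem_DD_iff_fix.mp hd).2
      calc d • ((κ.symm a : ↥(T : Subgroup G)) : G) • (QuotientGroup.mk u : G ⧸ NT T)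
          = (d * ((κ.symm a : ↥(T : Subgroup G)) : G) * d⁻¹) • d • (QuotientGroup.mk u : G ⧸ NT T) := by
            rw [← mul_smul, ← mul_smul]
            congr 1
            group
        _ = _ := by rw [hdu]
  have huK : u ∈ K := by
    rw [hK]
    refine ⟨slInv h2, fun p => ?_⟩
    cases p with
    | infty =>
      rw [slInv_infty, hρeq, hρeq, hρinf, hρcoe, huinf, ← hκ1, κ.symm_apply_apply]
      simp
    | coe a =>
      by_cases ha : a = 0
      · subst ha
        rw [slInv_zero, hρeq, hρeq, hρinf, hρcoe, ← hκ1, κ.symm_apply_apply]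
        simpa using hu0
      · rw [slInv_coe h2 ha, hρeq, hρeq, hρcoe, hρcoe]
        obtain ⟨d, hd⟩ := htrans (κ.symm a) (by
          intro h0
          apply ha
          have := congrArg κ h0
          rwa [κ.apply_symm_apply, hκ1] at this)
        have hdd : (d : G) ∈ D := d.2
        have hdu : (d : G) • (QuotientGroup.mk u : G ⧸ NT T) = QuotientGroup.mk u := (mem_DD_iff_fix.mp hdd).2
        have hdinvu : ((d : G)⁻¹) • (QuotientGroup.mk u : G ⧸ NT T) = QuotientGroup.mk u := (mem_DD_iff_fix.mp (D.inv_mem hdd)).2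
        have hp1 : ((κ.symm a : ↥(T : Subgroup G)) : G) • (QuotientGroup.mk u : G ⧸ NT T) = (d : G) • w := by
          rw [← hd, actDT_coe, ← hew]
          simp only [e']
          calc ((d : G) * e * (d : G)⁻¹) • (QuotientGroup.mk u : G ⧸ NT T)
              = ((d : G) * e * (d : G)⁻¹) • (d : G) • (QuotientGroup.mk u : G ⧸ NT T) := by rw [hdu]
            _ = (d : G) • e • (QuotientGroup.mk u : G ⧸ NT T) := by
                rw [← mul_smul, ← mul_smul]
                congr 1
                group
        have hainv : (κ.symm a⁻¹ : ↥(T : Subgroup G)) = act d⁻¹ e' := by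
          apply κ.injective
          rw [κ.apply_symm_apply]
          have h5 : κ (act d⁻¹ e') * a = 1 := by
            have h6 := hact d⁻¹ (act d e')
            have h7 : act d⁻¹ (act d e') = e' := by
              rw [map_inv]
              exact MulAut.inv_apply_self _ _ _
            rw [h7, hone, hd, κ.apply_symm_apply] at h6
            exact h6.symm
          exact (eq_inv_of_mul_eq_one_left h5).symm
        have hp2 : ((κ.symm a⁻¹ : ↥(T : Subgroup G)) : G) • (QuotientGroup.mk u : G ⧸ NT T) = ((d : G)⁻¹) • w := by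
          rw [hainv, actDT_coe, ← hew]
          simp only [e']
          calc (((d⁻¹ : ↥D) : G) * e * ((d⁻¹ : ↥D) : G)⁻¹) • (QuotientGroup.mk u : G ⧸ NT T)
              = (((d⁻¹ : ↥D) : G) * e * ((d⁻¹ : ↥D) : G)⁻¹) • ((d : G)⁻¹) • (QuotientGroup.mk u : G ⧸ NT T) := by rw [hdinvu]
            _ = ((d : G)⁻¹) • e • (QuotientGroup.mk u : G ⧸ NT T) := by
                rw [← mul_smul, ← mul_smul]
                congr 1
                simp
        rw [hp1, hp2]
        have hinv := DD_inverted hC hnn hu huH hdd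
        calc u • (d : G) • w = (u * (d : G) * u⁻¹) • u • w := by
              rw [← mul_smul, ← mul_smul]
              congr 1
              group
          _ = ((d : G)⁻¹) • w := by rw [hinv, hw]
  have hKtop : K = ⊤ := by
    rw [eq_top_iff]
    intro g _
    have hHK : NT T ≤ K := by
      intro h hh
      obtain ⟨d, hd, t, ht, rfl⟩ := exists_mul_T hC hnn hu huH hh
      exact K.mul_mem (hDK hd) (hTK ht)
    by_cases hg : g ∈ NT T
    · exact hHK hg
    · have hy : g • (QuotientGroup.mk 1 : G ⧸ NT T) ≠ QuotientGroup.mk 1 := by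
        rw [smul_mk, mul_one]
        exact fun h => hg (mk_eq_mk_one_iff.mp h)
      obtain ⟨t, ht, hty⟩ := exists_T_smul hC hnc hnn hu huH hy
      have hk : (t * u)⁻¹ * g ∈ NT T := by
        rw [← mk_eq_mk_one_iff]
        have h3 : (t * u) • (QuotientGroup.mk 1 : G ⧸ NT T) = g • (QuotientGroup.mk 1 : G ⧸ NT T) := by
          rw [mul_smul, huinf, hty]
        have h4 : (t * u)⁻¹ • (g • (QuotientGroup.mk 1 : G ⧸ NT T)) = QuotientGroup.mk 1 := by
          rw [← h3, inv_smul_smul]
        rw [← mul_smul, smul_mk, mul_one] at h4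
        exact h4
      have h5 : g = (t * u) * ((t * u)⁻¹ * g) := by group
      rw [h5]
      exact K.mul_mem (K.mul_mem (hTK ht) huK) (hHK hk)
  have hgen : ∀ g : G, ∃ m : SpecialLinearGroup (Fin 2) F, ∀ p : OnePoint F, g • ρ p = ρ (sl2Perm F m p) := by
    intro g
    rw [← hK, hKtop]
    exact mem_top g
  -- faithful
  have hfaith : ∀ g : G, (∀ x : G ⧸ NT T, g • x = x) → g = 1 := by
    intro g hg
    exact eq_one_of_fix_three hC hnc hnn hu huH (hg _) (hg _) (hg w) hw1 hw2
  have hqF : Nat.card F = Nat.card (T : Subgroup G) := (Nat.card_congr κ).symm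
  have hcardX : Nat.card (G ⧸ NT T) = Nat.card F + 1 := by
    rw [← Nat.card_congr ρ]
    have : Finite (OnePoint F) := inferInstanceAs (Finite (Option F))
    show Nat.card (Option F) = _
    exact Finite.card_option
  have hcard : Nat.card G = (Nat.card F + 1) * (Nat.card F * (Nat.card F - 1)) := by
    rw [Subgroup.card_eq_card_quotient_mul_card_subgroup (NT T), hcardX, card_NT hC hnn hu huH, hqF]
  exact ⟨F, instF, hFfin, hqF, nonempty_mulEquiv_psl_of_action h2 ρ hfaith hcard hgen⟩

end Cfsg.Agent.Lib.TwoFusion
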