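import Mathlib
import Cfsg.Agent.Lib.TwoFusion.ZassMain

/-!
# Groups whose involution centralizers are abelian: basic layer

Notation of the development: `AbHyp G` says all involution centralizers are abelian; `AbGood G`
adds two non-commuting involutions and two distinct commuting ones.
`AbP G` says that squares of elements of involution centralizers commute with all involutions,
`AbReg G` that the involutions commuting with `t` act transitively on the remaining commuting classes.
-/

set_option autoImplicit false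
set_option linter.unusedSectionVars false

namespace Cfsg.Agent.Lib.TwoFusion.AbC

open Subgroup

universe u

section Basic

variable {G : Type*} [Group G]

/-- All involution centralizers are abelian. -/
def AbHyp (G : Type*) [Group G] : Prop :=
  ∀ t : G, orderOf t = 2 → IsMulCommutative (centralizer ({t} : Set G))

theorem AbHyp.comm (hA : AbHyp G) {t c d : G} (ht : orderOf t = 2) (hc : Commute c t)
    (hd : Commute d t) : Commute c d := by
  have h := (hA t ht).is_comm.comm
    (⟨c, mem_centralizer_singleton_iff.mpr hc⟩ : centralizer ({t} : Set G))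
    ⟨d, mem_centralizer_singleton_iff.mpr hd⟩
  exact congrArg Subtype.val h

theorem inv_mul_self_of_order {t : G} (ht : orderOf t = 2) : t * t = 1 := by
  have := pow_orderOf_eq_one t
  rwa [ht, pow_two] at this

theorem inv_eq_of_order {t : G} (ht : orderOf t = 2) : t⁻¹ = t :=
  inv_eq_of_mul_eq_one_left (inv_mul_self_of_order ht)

theorem order_of_sq {t : G} (h2 : t * t = 1) (h1 : t ≠ 1) : orderOf t = 2 :=
  orderOf_eq_prime (by rw [pow_two]; exact h2) h1

theorem ne_one_of_order {t : G} (ht : orderOf t = 2) : t ≠ 1 := by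
  rintro rfl
  simp at ht

theorem conj_comm {a b : G} (h : Commute a b) (g : G) :
    Commute (g * a * g⁻¹) (g * b * g⁻¹) := by
  show g * a * g⁻¹ * (g * b * g⁻¹) = g * b * g⁻¹ * (g * a * g⁻¹)
  have e1 : g * a * g⁻¹ * (g * b * g⁻¹) = g * (a * b) * g⁻¹ := by group
  have e2 : g * b * g⁻¹ * (g * a * g⁻¹) = g * (b * a) * g⁻¹ := by group
  rw [e1, e2, h.eq]

theorem of_conj_comm {a b : G} (g : G) (h : Commute (g * a * g⁻¹) (g * b * g⁻¹)) : Commute a b := by
  have := conj_comm h g⁻¹
  simpa [mul_assoc] using this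

theorem order_conj (g x : G) : orderOf (g * x * g⁻¹) = orderOf x :=
  Cfsg.Agent.Lib.TwoFusion.orderOf_conj_eq g x

/-- The product of two distinct commuting involutions is an involution. -/
theorem order_mul_of_comm {a b : G} (ha : orderOf a = 2) (hb : orderOf b = 2) (hne : a ≠ b)
    (hc : Commute a b) : orderOf (a * b) = 2 := by
  apply order_of_sq
  · calc a * b * (a * b) = a * (b * a) * b := by group
      _ = a * (a * b) * b := by rw [hc.eq]
      _ = (a * a) * (b * b) := by group
      _ = 1 := by rw [inv_mul_self_of_order ha, inv_mul_self_of_order hb, one_mul]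
  · intro h
    apply hne
    have : a = a * b * b⁻¹ := by group
    rw [this, h, one_mul, inv_eq_of_order hb]

/-- An involution fixing the class of an involution commutes with it. -/
theorem fixed_comm (hA : AbHyp G) {w u : G} (hw : orderOf w = 2) (hu : orderOf u = 2)
    (h : Commute (w * u * w⁻¹) u) : Commute w u := by
  have hww := inv_mul_self_of_order hw
  have hwi := inv_eq_of_order hw
  by_cases hne : w * u * w⁻¹ = u
  · show w * u = u * w
    calc w * u = w * u * w⁻¹ * w := by group
      _ = u * w := by rw [hne]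
  · have ho : orderOf (w * u * w⁻¹) = 2 := by rw [order_conj, hu]
    have hz := order_mul_of_comm ho hu hne h
    have h1 : Commute w (w * u * w⁻¹ * u) := by
      show w * (w * u * w⁻¹ * u) = w * u * w⁻¹ * u * w
      rw [hwi]
      calc w * (w * u * w * u) = (w * w) * u * w * u := by group
        _ = u * w * u := by rw [hww, one_mul]
        _ = (u * w * u * w) * w := by
            calc u * w * u = u * w * u * (w * w) := by rw [hww, mul_one]
              _ = _ := by group
        _ = _ := by
            have : u * w * u * w = w * u * w * u := by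
              have h2 := h.eq
              rw [hwi] at h2
              calc u * w * u * w = u * (w * u * w) := by group
                _ = (w * u * w) * u := h2.symm
            rw [this]
    have h2 : Commute u (w * u * w⁻¹ * u) := by
      show u * (w * u * w⁻¹ * u) = w * u * w⁻¹ * u * u
      have h3 := h.eq
      rw [← mul_assoc, ← h3]
    exact hA.comm hz h1 h2

/-- Non-commuting involutions have a product of odd order. -/
theorem odd_mul_of_not_comm [Finite G] (hA : AbHyp G) {t u : G} (ht : orderOf t = 2) (hu : orderOf u = 2)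
    (h : ¬ Commute t u) : Odd (orderOf (t * u)) := by
  by_contra hodd
  rw [Nat.not_odd_iff_even] at hodd
  obtain ⟨k, hk⟩ := hodd
  have htt := inv_mul_self_of_order ht
  have huu := inv_mul_self_of_order hu
  have hpos : 0 < orderOf (t * u) := orderOf_pos _
  have hk0 : 0 < k := by omega
  set r := t * u with hr
  have hz : orderOf (r ^ k) = 2 := by
    have := orderOf_pow_orderOf_div (x := r) hpos.ne' (n := 2) ?_
    · rwa [show orderOf r / 2 = k by omega] at this
    · rw [hk]; exact ⟨k, by ring⟩
  have hinv : t * r * t⁻¹ = r⁻¹ := by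
    rw [inv_eq_of_order ht, hr, mul_inv_rev, inv_eq_of_order ht, inv_eq_of_order hu]
    calc t * (t * u) * t = (t * t) * u * t := by group
      _ = u * t := by rw [htt, one_mul]
  have hinv2 : u * r * u⁻¹ = r⁻¹ := by
    rw [inv_eq_of_order hu, hr, mul_inv_rev, inv_eq_of_order ht, inv_eq_of_order hu]
    calc u * (t * u) * u = u * t * (u * u) := by group
      _ = u * t := by rw [huu, mul_one]
  have hzi : (r ^ k)⁻¹ = r ^ k := inv_eq_of_order hz
  have c1 : Commute t (r ^ k) := by
    show t * r ^ k = r ^ k * t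
    have h3 : t * r ^ k * t⁻¹ = (t * r * t⁻¹) ^ k := by
      rw [conj_pow]
    rw [hinv, inv_pow, hzi] at h3
    calc t * r ^ k = t * r ^ k * t⁻¹ * t := by group
      _ = r ^ k * t := by rw [h3]
  have c2 : Commute u (r ^ k) := by
    show u * r ^ k = r ^ k * u
    have h3 : u * r ^ k * u⁻¹ = (u * r * u⁻¹) ^ k := by
      rw [conj_pow]
    rw [hinv2, inv_pow, hzi] at h3
    calc u * r ^ k = u * r ^ k * u⁻¹ * u := by group
      _ = r ^ k * u := by rw [h3]
  exact h (hA.comm hz c1 c2)

/-- The elements `v` with `v = 1` or `v` an involution commuting with `t`. -/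
def InV (t v : G) : Prop := v = 1 ∨ (orderOf v = 2 ∧ Commute v t)

theorem InV.one (t : G) : InV t 1 := Or.inl rfl

theorem InV.self {t : G} (ht : orderOf t = 2) : InV t t := Or.inr ⟨ht, Commute.refl t⟩

theorem InV.comm {t v : G} (h : InV t v) : Commute v t := by
  rcases h with rfl | ⟨-, h⟩
  · exact Commute.one_left t
  · exact h

theorem InV.sq {t v : G} (h : InV t v) : v * v = 1 := by
  rcases h with rfl | ⟨h, -⟩
  · simp
  · exact inv_mul_self_of_order h

theorem InV.inv_eq {t v : G} (h : InV t v) : v⁻¹ = v :=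
  inv_eq_of_mul_eq_one_left h.sq

theorem InV.mul (hA : AbHyp G) {t a b : G} (ht : orderOf t = 2) (ha : InV t a) (hb : InV t b) :
    InV t (a * b) := by
  rcases ha with rfl | ⟨ha, ha'⟩
  · simpa using hb
  rcases hb with rfl | ⟨hb, hb'⟩
  · rw [mul_one]
    exact Or.inr ⟨ha, ha'⟩
  by_cases hne : a = b
  · left
    rw [hne]
    exact inv_mul_self_of_order hb
  · right
    exact ⟨order_mul_of_comm ha hb hne (hA.comm ht ha' hb'), ha'.mul_left hb'⟩

theorem InV.conj {t v : G} (h : InV t v) (g : G) : InV (g * t * g⁻¹) (g * v * g⁻¹) := by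
  rcases h with rfl | ⟨h, h'⟩
  · left; group
  · right
    exact ⟨by rw [order_conj, h], conj_comm h' g⟩

/-- `V_t` acts semiregularly on the commuting classes other than that of `t`. -/
theorem semiregular (hA : AbHyp G) {t u v₁ v₂ : G} (ht : orderOf t = 2) (hu : orderOf u = 2)
    (htu : ¬ Commute t u) (h1 : InV t v₁) (h2 : InV t v₂)
    (h : Commute (v₁ * u * v₁⁻¹) (v₂ * u * v₂⁻¹)) : v₁ = v₂ := by
  have hw : InV t (v₂⁻¹ * v₁) := by
    rw [h2.inv_eq]
    exact InV.mul hA ht h2 h1
  have hc := conj_comm h v₂⁻¹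
  have e1 : v₂⁻¹ * (v₁ * u * v₁⁻¹) * v₂⁻¹⁻¹ = (v₂⁻¹ * v₁) * u * (v₂⁻¹ * v₁)⁻¹ := by group
  have e2 : v₂⁻¹ * (v₂ * u * v₂⁻¹) * v₂⁻¹⁻¹ = u := by group
  rw [e1, e2] at hc
  rcases hw with hw | ⟨hw, hw'⟩
  · have : v₁ = v₂ * (v₂⁻¹ * v₁) := by group
    rw [this, hw, mul_one]
  · exact absurd (hA.comm hw hw'.symm (fixed_comm hA hw hu hc).symm) htu

/-- The stabilizer of the commuting class of the involution `t`. -/
def stabPt (hA : AbHyp G) {t : G} (ht : orderOf t = 2) : Subgroup G where
  carrier := {g | Commute (g * t * g⁻¹) t}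
  mul_mem' := by
    intro a b ha hb
    simp only [Set.mem_setOf_eq] at ha hb ⊢
    have h1 := conj_comm hb a
    have e : a * b * t * (a * b)⁻¹ = a * (b * t * b⁻¹) * a⁻¹ := by group
    rw [e]
    exact hA.comm (by rw [order_conj, ht]) h1 ha.symm |>.symm.symm
  one_mem' := by
    simp only [Set.mem_setOf_eq]
    simp
  inv_mem' := by
    intro a ha
    simp only [Set.mem_setOf_eq] at ha ⊢
    have h1 := conj_comm ha a⁻¹
    have e1 : a⁻¹ * (a * t * a⁻¹) * a⁻¹⁻¹ = t := by group
    have e2 : a⁻¹ * t * a⁻¹⁻¹ = a⁻¹ * t * a := by group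
    rw [e1, e2] at h1
    rw [e2]
    exact h1.symm

theorem mem_stabPt {hA : AbHyp G} {t : G} {ht : orderOf t = 2} {g : G} :
    g ∈ stabPt hA ht ↔ Commute (g * t * g⁻¹) t := Iff.rfl

/-- Elements of the class stabilizer normalize the centralizer. -/
theorem conj_comm_of_stab (hA : AbHyp G) {t g x : G} (ht : orderOf t = 2) (hg : Commute (g * t * g⁻¹) t)
    (hx : Commute x t) : Commute (g * x * g⁻¹) t :=
  hA.comm (by rw [order_conj, ht]) (conj_comm hx g) hg.symm

/-- `AbHyp` with two non-commuting involutions and two distinct commuting ones. -/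
structure AbGood (G : Type*) [Group G] : Prop where
  ab : AbHyp G
  noncomm : ∃ t u : G, orderOf t = 2 ∧ orderOf u = 2 ∧ ¬ Commute t u
  klein : ∃ t u : G, orderOf t = 2 ∧ orderOf u = 2 ∧ t ≠ u ∧ Commute t u

/-- Squares of elements of involution centralizers commute with all involutions. -/
def AbP (G : Type*) [Group G] : Prop :=
  ∀ t : G, orderOf t = 2 → ∀ c : G, Commute c t → ∀ u : G, orderOf u = 2 → Commute (c * c) u

/-- `V_t` is transitive on the commuting classes other than that of `t`. -/
def AbReg (G : Type*) [Group G] : Prop :=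
  ∀ t u u' : G, orderOf t = 2 → orderOf u = 2 → orderOf u' = 2 → ¬ Commute t u → ¬ Commute t u' →
    ∃ v, InV t v ∧ Commute (v * u * v⁻¹) u'

/-- A generic fact: every involution fails to commute with some involution. -/
theorem AbGood.exists_not_comm (hG : AbGood G) {t : G} (ht : orderOf t = 2) :
    ∃ u : G, orderOf u = 2 ∧ ¬ Commute t u := by
  obtain ⟨a, b, ha, hb, hab⟩ := hG.noncomm
  by_contra hcon
  push Not at hcon
  exact hab (hG.ab.comm ht (hcon a ha).symm (hcon b hb).symm)

/-- An involution in a subgroup of odd order does not exist. -/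
theorem not_order_two_of_odd_card {K : Subgroup G} (hK : Odd (Nat.card K)) {x : G} (hx : x ∈ K) :
    orderOf x ≠ 2 := by
  intro h
  have h1 := orderOf_dvd_natCard (⟨x, hx⟩ : K)
  rw [Subgroup.orderOf_mk, h] at h1
  exact (Nat.not_even_iff_odd.mpr hK) (even_iff_two_dvd.mpr h1)

theorem odd_card_of_no_involution [Finite G] {K : Subgroup G} (h : ∀ x ∈ K, orderOf x ≠ 2) :
    Odd (Nat.card K) := by
  by_contra hc
  rw [Nat.not_odd_iff_even] at hc
  obtain ⟨x, hx⟩ := exists_prime_orderOf_dvd_card' (p := 2) (G := K) (even_iff_two_dvd.mp hc)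
  apply h x x.2
  rw [← hx, Subgroup.orderOf_coe]

/-- An element of odd order is a square, of a power of itself. -/
theorem exists_sq_root_of_odd {x : G} (hx : Odd (orderOf x)) :
    ∃ k : ℕ, (x ^ k) * (x ^ k) = x := by
  obtain ⟨m, hm⟩ := hx
  refine ⟨m + 1, ?_⟩
  rw [← pow_add]
  have : m + 1 + (m + 1) = orderOf x + 1 := by omega
  rw [this, pow_succ, pow_orderOf_eq_one, one_mul]

theorem eq_one_of_odd_of_mul_self {x : G} (hx : Odd (orderOf x)) (h : x * x = 1) : x = 1 := by
  by_contra hne
  have := order_of_sq h hne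
  rw [this] at hx
  exact absurd hx (by decide)

/-- An element of even order has an involution among its powers. -/
theorem exists_pow_order_two [Finite G] {x : G} (h : ¬ Odd (orderOf x)) : ∃ k : ℕ, orderOf (x ^ k) = 2 := by
  rw [Nat.not_odd_iff_even] at h
  obtain ⟨k, hk⟩ := h
  have hpos : 0 < orderOf x := orderOf_pos _
  refine ⟨k, ?_⟩
  have := orderOf_pow_orderOf_div (x := x) hpos.ne' (n := 2) (by rw [hk]; exact ⟨k, by ring⟩)
  rwa [show orderOf x / 2 = k by omega] at this

theorem AbHyp.subgroup (hA : AbHyp G) (X : Subgroup G) : AbHyp X := by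
  intro t ht
  have ht' : orderOf (t : G) = 2 := by rw [Subgroup.orderOf_coe, ht]
  refine ⟨⟨fun a b => ?_⟩⟩
  obtain ⟨a, ha⟩ := a
  obtain ⟨b, hb⟩ := b
  apply Subtype.ext
  apply Subtype.ext
  have ha' : Commute (a : G) (t : G) := congrArg Subtype.val (mem_centralizer_singleton_iff.mp ha)
  have hb' : Commute (b : G) (t : G) := congrArg Subtype.val (mem_centralizer_singleton_iff.mp hb)
  exact (hA.comm ht' ha' hb').eq

theorem mem_stabPt_of_order {hA : AbHyp G} {t i : G} {ht : orderOf t = 2} (hi : orderOf i = 2) :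
    i ∈ stabPt hA ht ↔ Commute i t := by
  rw [mem_stabPt]
  constructor
  · exact fixed_comm hA hi ht
  · intro h
    have e : i * t * i⁻¹ = t := by
      calc i * t * i⁻¹ = t * i * i⁻¹ := by rw [h.eq]
        _ = t := by group
    rw [e]

/-- The class stabilizer is strongly embedded. -/
theorem AbGood.stronglyEmbedded [Finite G] (hG : AbGood G) {t : G} (ht : orderOf t = 2) :
    Cfsg.IsStronglyEmbedded (stabPt hG.ab ht) := by
  have hA := hG.ab
  refine ⟨?_, ?_, ?_⟩
  · intro h
    obtain ⟨u, hu, htu⟩ := hG.exists_not_comm ht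
    have : u ∈ stabPt hA ht := h ▸ Subgroup.mem_top u
    exact htu ((mem_stabPt_of_order hu).mp this).symm
  · have h1 := orderOf_dvd_natCard (⟨t, (mem_stabPt_of_order ht).mpr (Commute.refl t)⟩ : stabPt hA ht)
    rw [Subgroup.orderOf_mk, ht] at h1
    exact even_iff_two_dvd.mpr h1
  · intro g hg
    apply odd_card_of_no_involution
    intro i hi hio
    apply hg
    have h1 : Commute i t := (mem_stabPt_of_order hio).mp hi.1
    have h2 : g⁻¹ * i * g ∈ stabPt hA ht := Cfsg.Agent.Lib.TwoFusion.mem_conj_map.mp hi.2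
    have h3 : Commute (g⁻¹ * i * g) t := by
      refine (mem_stabPt_of_order ?_).mp h2
      have := order_conj g⁻¹ i
      rw [inv_inv] at this
      rw [this, hio]
    have h4 := conj_comm h3 g
    have e : g * (g⁻¹ * i * g) * g⁻¹ = i := by group
    rw [e] at h4
    show Commute (g * t * g⁻¹) t
    exact hA.comm hio h4.symm h1.symm

/-- All involutions are conjugate. -/
theorem AbGood.isConj [Finite G] (hG : AbGood G) {a b : G} (ha : orderOf a = 2) (hb : orderOf b = 2) :
    IsConj a b := by
  obtain ⟨u, hu, hau⟩ := hG.exists_not_comm ha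
  have huH : u ∉ stabPt hG.ab ha := fun h => hau ((mem_stabPt_of_order hu).mp h).symm
  exact Cfsg.Agent.Lib.TwoFusion.isConj_of_involutions (hG.stronglyEmbedded ha) hu huH ha hb

/-- Every involution commutes with another involution. -/
theorem AbGood.exists_partner [Finite G] (hG : AbGood G) {t : G} (ht : orderOf t = 2) :
    ∃ t' : G, orderOf t' = 2 ∧ t' ≠ t ∧ Commute t' t := by
  obtain ⟨a, b, ha, hb, hab, hc⟩ := hG.klein
  obtain ⟨x, hx⟩ := isConj_iff.mp (hG.isConj ha ht)
  refine ⟨x * b * x⁻¹, by rw [order_conj, hb], ?_, ?_⟩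
  · intro h
    rw [← hx] at h
    exact hab (mul_left_cancel (mul_right_cancel h)).symm
  · rw [← hx]
    exact (conj_comm hc x).symm

end Basic

section Quot

variable {G Q : Type*} [Group G] [Group Q]

/-- A surjection with kernel of odd order centralizing all involutions. -/
structure OddKer (π : G →* Q) : Prop where
  surj : Function.Surjective π
  odd : Odd (Nat.card π.ker)
  comm : ∀ k ∈ π.ker, ∀ t : G, orderOf t = 2 → Commute k t

variable [Finite G] {π : G →* Q}

theorem OddKer.odd_order (h : OddKer π) {k : G} (hk : k ∈ π.ker) : Odd (orderOf k) := by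
  have h1 := orderOf_dvd_natCard (⟨k, hk⟩ : π.ker)
  rw [Subgroup.orderOf_mk] at h1
  exact Odd.of_dvd_nat h.odd h1

theorem OddKer.lift_sq (h : OddKer π) {y : Q} (hy : y * y = 1) : ∃ x : G, x * x = 1 ∧ π x = y := by
  obtain ⟨g, rfl⟩ := h.surj y
  obtain ⟨m, hm⟩ := h.odd
  set n := Nat.card π.ker with hn
  have hg : g * g ∈ π.ker := by
    rw [MonoidHom.mem_ker, map_mul, hy]
  refine ⟨g ^ n, ?_, ?_⟩
  · have h1 : (⟨g * g, hg⟩ : π.ker) ^ n = 1 := pow_card_eq_one'
    have h2 : (g * g) ^ n = 1 := congrArg Subtype.val h1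
    rw [← pow_add, ← two_mul, pow_mul, ← pow_two] at *
    simpa [pow_two] using h2
  · rw [map_pow, hm, pow_succ, pow_mul, pow_two, hy, one_pow, one_mul]

theorem OddKer.eq_of_sq (h : OddKer π) {a b : G} (ha : a * a = 1) (hb : b * b = 1) (hab : π a = π b) :
    a = b := by
  have hz : a⁻¹ * b ∈ π.ker := by
    rw [MonoidHom.mem_ker, map_mul, map_inv, hab, inv_mul_cancel]
  set z := a⁻¹ * b with hzd
  have hb' : b = a * z := by rw [hzd]; group
  have hca : Commute z a := by
    by_cases ha1 : a = 1
    · rw [ha1]; exact Commute.one_right z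
    · exact h.comm z hz a (order_of_sq ha ha1)
  have hzz : z * z = 1 := by
    have : (a * z) * (a * z) = (a * a) * (z * z) := by
      calc (a * z) * (a * z) = a * (z * a) * z := by group
        _ = a * (a * z) * z := by rw [hca.eq]
        _ = _ := by group
    rw [← hb', hb, ha, one_mul] at this
    exact this.symm
  have hz1 := eq_one_of_odd_of_mul_self (h.odd_order hz) hzz
  rw [hb', hz1, mul_one]

theorem OddKer.comm_of_image (h : OddKer π) {g t : G} (ht : t * t = 1) (hc : Commute (π g) (π t)) :
    Commute g t := by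
  have h1 : (g * t * g⁻¹) * (g * t * g⁻¹) = 1 := by
    calc (g * t * g⁻¹) * (g * t * g⁻¹) = g * (t * t) * g⁻¹ := by group
      _ = 1 := by rw [ht]; group
  have h2 : π (g * t * g⁻¹) = π t := by
    rw [map_mul, map_mul, map_inv, hc.eq]
    group
  have h3 := h.eq_of_sq h1 ht h2
  show g * t = t * g
  calc g * t = g * t * g⁻¹ * g := by group
    _ = t * g := by rw [h3]

theorem OddKer.order_image (h : OddKer π) {t : G} (ht : orderOf t = 2) : orderOf (π t) = 2 := by
  apply order_of_sq
  · rw [← map_mul, inv_mul_self_of_order ht, map_one]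
  · intro h1
    have : t ∈ π.ker := h1
    have h2 := h.odd_order this
    rw [ht] at h2
    exact absurd h2 (by decide)

theorem OddKer.abHyp (h : OddKer π) (hA : AbHyp G) : AbHyp Q := by
  intro y hy
  obtain ⟨t, ht, rfl⟩ := h.lift_sq (inv_mul_self_of_order hy)
  have hto : orderOf t = 2 := order_of_sq ht (by
    rintro rfl
    exact ne_one_of_order hy (map_one π))
  refine ⟨⟨fun a b => ?_⟩⟩
  obtain ⟨a, ha⟩ := a
  obtain ⟨b, hb⟩ := b
  obtain ⟨a', rfl⟩ := h.surj a
  obtain ⟨b', rfl⟩ := h.surj b
  apply Subtype.ext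
  have ha' := h.comm_of_image ht (mem_centralizer_singleton_iff.mp ha)
  have hb' := h.comm_of_image ht (mem_centralizer_singleton_iff.mp hb)
  have := (hA.comm hto ha' hb').eq
  show π a' * π b' = π b' * π a'
  rw [← map_mul, this, map_mul]

theorem OddKer.good (h : OddKer π) (hG : AbGood G) : AbGood Q where
  ab := h.abHyp hG.ab
  noncomm := by
    obtain ⟨t, u, ht, hu, htu⟩ := hG.noncomm
    refine ⟨π t, π u, h.order_image ht, h.order_image hu, fun hc => htu ?_⟩
    exact h.comm_of_image (inv_mul_self_of_order hu) hc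
  klein := by
    obtain ⟨t, u, ht, hu, hne, hc⟩ := hG.klein
    refine ⟨π t, π u, h.order_image ht, h.order_image hu, fun he => hne ?_, ?_⟩
    · exact h.eq_of_sq (inv_mul_self_of_order ht) (inv_mul_self_of_order hu) he
    · show π t * π u = π u * π t
      rw [← map_mul, hc.eq, map_mul]

theorem OddKer.abP_of_quot (h : OddKer π) (hP : AbP Q) : AbP G := by
  intro t ht c hc u hu
  apply h.comm_of_image (inv_mul_self_of_order hu)
  rw [map_mul]
  apply hP (π t) (h.order_image ht) (π c) _ (π u) (h.order_image hu)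
  show π c * π t = π t * π c
  rw [← map_mul, hc.eq, map_mul]

end Quot

section InvCent

variable {G : Type*} [Group G]

/-- The centralizer of the set of all involutions. -/
def invCent (G : Type*) [Group G] : Subgroup G := centralizer {t : G | orderOf t = 2}

theorem mem_invCent {x : G} : x ∈ invCent G ↔ ∀ t : G, orderOf t = 2 → Commute x t := by
  unfold invCent
  rw [mem_centralizer_iff]
  constructor
  · intro h t ht
    exact (h t ht).symm
  · intro h t ht
    exact (h t ht).symm

instance invCent_normal : (invCent G).Normal := by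
  constructor
  intro x hx g
  rw [mem_invCent] at hx ⊢
  intro t ht
  have h1 := hx (g⁻¹ * t * g) (by
    have := order_conj g⁻¹ t
    rw [inv_inv] at this
    rw [this, ht])
  have h2 := conj_comm h1 g
  have e : g * (g⁻¹ * t * g) * g⁻¹ = t := by group
  rwa [e] at h2

theorem AbGood.no_involution_invCent (hG : AbGood G) {x : G} (hx : x ∈ invCent G) : orderOf x ≠ 2 := by
  intro h
  obtain ⟨a, b, ha, hb, hab⟩ := hG.noncomm
  rw [mem_invCent] at hx
  exact hab (hG.ab.comm h (hx a ha).symm (hx b hb).symm)

theorem AbGood.odd_invCent [Finite G] (hG : AbGood G) : Odd (Nat.card (invCent G)) :=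
  odd_card_of_no_involution fun _ hx => hG.no_involution_invCent hx

theorem AbGood.oddKer_mk [Finite G] (hG : AbGood G) :
    OddKer (QuotientGroup.mk' (invCent G)) where
  surj := QuotientGroup.mk'_surjective _
  odd := by
    rw [QuotientGroup.ker_mk']
    exact hG.odd_invCent
  comm := by
    intro k hk t ht
    rw [QuotientGroup.ker_mk'] at hk
    exact mem_invCent.mp hk t ht

/-- `AbP` says exactly that the quotient by `invCent` satisfies the Zassenhaus hypothesis. -/
theorem AbGood.zass_quot [Finite G] (hG : AbGood G) (hP : AbP G) :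
    Cfsg.Agent.Lib.TwoFusion.ZassHyp (G ⧸ invCent G) := by
  have hK := hG.oddKer_mk
  intro y hy
  refine ⟨hK.abHyp hG.ab y hy, ?_⟩
  intro c hc
  obtain ⟨t, ht, rfl⟩ := hK.lift_sq (inv_mul_self_of_order hy)
  have hto : orderOf t = 2 := order_of_sq ht (by
    rintro rfl
    exact ne_one_of_order hy (map_one _))
  obtain ⟨c', rfl⟩ := hK.surj c
  have h1 := hK.comm_of_image ht (mem_centralizer_singleton_iff.mp hc)
  have h2 : c' * c' ∈ invCent G := mem_invCent.mpr (hP t hto c' h1)
  rw [pow_two, ← map_mul]
  exact (QuotientGroup.eq_one_iff _).mpr h2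

end InvCent

end Cfsg.Agent.Lib.TwoFusion.AbC
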