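import Mathlib
import Cfsg.Agent.Lib.Char.FSCount
import Cfsg.Agent.Lib.Char.Linear
import Cfsg.Agent.Lib.Char.Exceptional

/-!
# Characters of finite abelian groups as homomorphisms to `ℂˣ`
-/

set_option autoImplicit false
set_option linter.unusedSectionVars false

namespace Cfsg.Agent.Lib.TwoFusion.AbC

open Cfsg Cfsg.Agent.Lib.Char
open scoped ComplexConjugate

universe u

section

variable {A : Type u} [Group A]

/-- The complex-valued function of a homomorphism to `ℂˣ`. -/
def lc (θ : A →* ℂˣ) : A → ℂ := fun a => ((θ a : ℂˣ) : ℂ)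

@[simp] theorem lc_apply (θ : A →* ℂˣ) (a : A) : lc θ a = ((θ a : ℂˣ) : ℂ) := rfl

theorem lc_irr (θ : A →* ℂˣ) : IsIrrCharacter A (lc θ) := isIrrCharacter_of_monoidHom θ

theorem lc_injective : Function.Injective (lc : (A →* ℂˣ) → A → ℂ) := by
  intro θ θ' h
  ext a
  exact congrFun h a

theorem lc_mul (θ θ' : A →* ℂˣ) (a : A) : lc (θ * θ') a = lc θ a * lc θ' a := by
  simp [lc]

theorem lc_one_apply (a : A) : lc (1 : A →* ℂˣ) a = 1 := by
  simp [lc]

theorem lc_one : lc (1 : A →* ℂˣ) = fun _ => 1 := by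
  funext a
  exact lc_one_apply a

theorem lc_map_mul (θ : A →* ℂˣ) (a b : A) : lc θ (a * b) = lc θ a * lc θ b := by
  simp [lc]

theorem lc_map_one (θ : A →* ℂˣ) : lc θ 1 = 1 := by
  simp [lc]

variable [Fintype A]

theorem classInner_lc [DecidableEq (A →* ℂˣ)] (θ θ' : A →* ℂˣ) :
    classInner (lc θ) (lc θ') = if θ = θ' then 1 else 0 := by
  classical
  rw [classInner_irr (lc_irr θ) (lc_irr θ')]
  by_cases h : θ = θ'
  · rw [if_pos h, if_pos (congrArg lc h)]
  · rw [if_neg h, if_neg (fun h2 => h (lc_injective h2))]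

theorem norm_lc (θ : A →* ℂˣ) (a : A) : ‖lc θ a‖ = 1 := by
  have h1 : (lc θ a) ^ orderOf a = 1 := by
    have : (θ a) ^ orderOf a = 1 := by rw [← map_pow, pow_orderOf_eq_one, map_one]
    simpa [lc] using congrArg Units.val this
  exact Complex.norm_eq_one_of_pow_eq_one h1 (orderOf_pos a).ne'

theorem lc_inv (θ : A →* ℂˣ) (a : A) : lc θ⁻¹ a = conj (lc θ a) := by
  have h1 : lc θ⁻¹ a = (lc θ a)⁻¹ := by
    simp [lc]
  rw [h1, Complex.inv_eq_conj (norm_lc θ a)]

theorem lc_inv_fun (θ : A →* ℂˣ) : lc θ⁻¹ = fun a => conj (lc θ a) := funext (lc_inv θ)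

variable (hc : ∀ a b : A, a * b = b * a)

include hc

theorem finite_dual' : Finite (A →* ℂˣ) := by
  letI : CommGroup A := { (inferInstance : Group A) with mul_comm := hc }
  obtain ⟨e⟩ := CommGroup.monoidHom_mulEquiv_of_hasEnoughRootsOfUnity A ℂ
  exact Finite.of_equiv _ e.symm.toEquiv

theorem exists_lc_ne {a : A} (ha : a ≠ 1) : ∃ θ : A →* ℂˣ, θ a ≠ 1 := by
  letI : CommGroup A := { (inferInstance : Group A) with mul_comm := hc }
  exact CommGroup.exists_apply_ne_one_of_hasEnoughRootsOfUnity A ℂ ha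

theorem exists_lc_of_irr (χ : IrrCharacter A) : ∃ θ : A →* ℂˣ, (χ : A → ℂ) = lc θ := by
  have h := (comm_iff_irr_degree_one (G := A)).mp hc χ
  exact IsCharacter.exists_monoidHom (IsIrrCharacter.isCharacter χ.2) h

variable [Fintype (A →* ℂˣ)]

theorem bijective_lc_irr : Function.Bijective
    (fun θ : A →* ℂˣ => (⟨lc θ, lc_irr θ⟩ : IrrCharacter A)) := by
  constructor
  · intro θ θ' h
    exact lc_injective (congrArg Subtype.val h)
  · intro χ
    obtain ⟨θ, hθ⟩ := exists_lc_of_irr hc χ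
    exact ⟨θ, Subtype.ext hθ.symm⟩

theorem sum_irr_eq_sum_dual {M : Type*} [AddCommMonoid M] (F : (A → ℂ) → M) :
    ∑ χ : IrrCharacter A, F (χ : A → ℂ) = ∑ θ : A →* ℂˣ, F (lc θ) := by
  symm
  exact Function.Bijective.sum_comp (bijective_lc_irr hc) (fun χ : IrrCharacter A => F (χ : A → ℂ))

theorem isClassFunction_of_comm (f : A → ℂ) : IsClassFunction A f := by
  intro g h
  congr 1
  rw [hc h g]
  group

/-- Fourier inversion. -/
theorem fourier (f : A → ℂ) (a : A) : f a = ∑ θ : A →* ℂˣ, classInner f (lc θ) * lc θ a := by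
  have h := congrFun (classFunction_eq_sum f (isClassFunction_of_comm hc f)) a
  rw [h, Finset.sum_apply]
  have h2 := sum_irr_eq_sum_dual hc (fun χ : A → ℂ => classInner f χ * χ a)
  simpa using h2

theorem fsInd_lc [DecidableEq (A →* ℂˣ)] (θ : A →* ℂˣ) : fsInd (lc θ) = if θ * θ = 1 then 1 else 0 := by
  have h1 := classInner_lc (θ * θ) 1
  rw [lc_one] at h1
  unfold classInner at h1
  simp only [map_one, mul_one] at h1
  unfold fsInd
  have h2 : ∀ s : A, lc θ (s * s) = lc (θ * θ) s := by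
    intro s
    rw [lc_map_mul, lc_mul]
  simp only [h2]
  rw [h1]

/-- The number of square roots in terms of real characters. -/
theorem sqrtCount_eq_sum_dual [DecidableEq (A →* ℂˣ)] (a : A) :
    sqrtCount a = ∑ θ : A →* ℂˣ, if θ * θ = 1 then lc θ a else 0 := by
  rw [← sum_fsInd_mul_apply a]
  have h2 := sum_irr_eq_sum_dual hc (fun χ : A → ℂ => fsInd χ * χ a)
  rw [h2]
  refine Finset.sum_congr rfl fun θ _ => ?_
  rw [fsInd_lc hc]
  split_ifs <;> simp

end

end Cfsg.Agent.Lib.TwoFusion.AbC
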