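import Mathlib
import Cfsg.Agent.Lib.TwoFusion.AbBasic

/-!
# No odd-order group is transitive on the involutions in a regular situation

The set `𝕀` of involutions behaves like the involutions of `SL₂(q)`, and `W` has odd order.
-/

set_option autoImplicit false
set_option linter.unusedSectionVars false

namespace Cfsg.Agent.Lib.TwoFusion.AbC

open Subgroup

variable {G : Type*} [Group G] [Finite G]

theorem no_odd_transitive (hA : AbHyp G) (I : Set G) (hI : ∀ t ∈ I, orderOf t = 2)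
    (W : Subgroup G) (hW : Odd (Nat.card W))
    (hWI : ∀ w ∈ W, ∀ t ∈ I, w * t * w⁻¹ ∈ I)
    (htr : ∀ s ∈ I, ∀ t ∈ I, ∃ w ∈ W, w * s * w⁻¹ = t)
    (hcl : ∀ t ∈ I, ∀ t' : G, orderOf t' = 2 → Commute t' t → t' ∈ I)
    (hcj : ∀ a ∈ I, ∀ b ∈ I, a * b * a⁻¹ ∈ I)
    (hreg : ∀ t ∈ I, ∀ u ∈ I, ∀ u' ∈ I, ¬ Commute t u → ¬ Commute t u' →
      ∃ v, InV t v ∧ Commute (v * u * v⁻¹) u')
    {t t' u₀ : G} (ht : t ∈ I) (ht' : t' ∈ I) (hne : t ≠ t') (hc : Commute t t') (hu₀ : u₀ ∈ I)
    (htu₀ : ¬ Commute t u₀) : False := by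
  classical
  have hto := hI t ht
  have hu₀o := hI u₀ hu₀
  have htrans : ∀ {x y z : G}, orderOf y = 2 → Commute x y → Commute y z → Commute x z :=
    fun hy h1 h2 => hA.comm hy h1 h2.symm
  set S := stabPt hA hto with hS
  let Wt : Subgroup G := W ⊓ S
  have hconj_ne : ∀ e ∈ S, ∀ x : G, ¬ Commute t x → ¬ Commute t (e * x * e⁻¹) := by
    intro e he x hx h
    apply hx
    have h1 := conj_comm h e⁻¹
    have e2 : e⁻¹ * (e * x * e⁻¹) * e⁻¹⁻¹ = x := by group
    rw [e2] at h1
    have h2 : Commute (e⁻¹ * t * e⁻¹⁻¹) t := S.inv_mem he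
    exact htrans (by rw [order_conj, hto]) h2.symm h1
  -- the cocycle
  have hex : ∀ e : Wt, ∃ v, InV t v ∧ Commute (v * u₀ * v⁻¹) ((e : G) * u₀ * (e : G)⁻¹) := by
    intro e
    exact hreg t ht u₀ hu₀ _ (hWI _ e.2.1 _ hu₀) htu₀ (hconj_ne _ e.2.2 _ htu₀)
  choose c hcV hcC using hex
  -- transport along conjugation
  have hVconj : ∀ e : Wt, ∀ v, InV t v → InV t ((e : G) * v * (e : G)⁻¹) := by
    intro e v hv
    rcases hv with rfl | ⟨hv, hv'⟩
    · left; group
    · right
      exact ⟨by rw [order_conj, hv], conj_comm_of_stab hA hto e.2.2 hv'⟩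
  have hVo : ∀ v, InV t v → orderOf (v * u₀ * v⁻¹) = 2 := fun v _ => by rw [order_conj, hu₀o]
  -- the cocycle identity
  have hcoc : ∀ e f : Wt, c (e * f) = ((e : G) * c f * (e : G)⁻¹) * c e := by
    intro e f
    apply semiregular hA hto hu₀o htu₀ (hcV _) (InV.mul hA hto (hVconj e _ (hcV f)) (hcV e))
    have h1 : Commute (c (e * f) * u₀ * (c (e * f))⁻¹) ((e : G) * ((f : G) * u₀ * (f : G)⁻¹) * (e : G)⁻¹) := by
      have := hcC (e * f)
      have e1 : (((e * f : Wt) : G)) * u₀ * (((e * f : Wt) : G))⁻¹ = (e : G) * ((f : G) * u₀ * (f : G)⁻¹) * (e : G)⁻¹ := by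
        push_cast
        group
      rwa [e1] at this
    have h2 : Commute ((e : G) * ((f : G) * u₀ * (f : G)⁻¹) * (e : G)⁻¹)
        (((e : G) * c f * (e : G)⁻¹) * ((e : G) * u₀ * (e : G)⁻¹) * ((e : G) * c f * (e : G)⁻¹)⁻¹) := by
      have := conj_comm (hcC f) (e : G)
      have e1 : (e : G) * (c f * u₀ * (c f)⁻¹) * (e : G)⁻¹ =
          ((e : G) * c f * (e : G)⁻¹) * ((e : G) * u₀ * (e : G)⁻¹) * ((e : G) * c f * (e : G)⁻¹)⁻¹ := by group
      rw [e1] at this
      exact this.symm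
    have h3 : Commute (((e : G) * c f * (e : G)⁻¹) * ((e : G) * u₀ * (e : G)⁻¹) * ((e : G) * c f * (e : G)⁻¹)⁻¹)
        ((((e : G) * c f * (e : G)⁻¹) * c e) * u₀ * (((e : G) * c f * (e : G)⁻¹) * c e)⁻¹) := by
      have := conj_comm (hcC e) ((e : G) * c f * (e : G)⁻¹)
      have e1 : ((e : G) * c f * (e : G)⁻¹) * (c e * u₀ * (c e)⁻¹) * ((e : G) * c f * (e : G)⁻¹)⁻¹ =
          (((e : G) * c f * (e : G)⁻¹) * c e) * u₀ * (((e : G) * c f * (e : G)⁻¹) * c e)⁻¹ := by group
      rw [e1] at this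
      exact this.symm
    have ho1 : orderOf ((e : G) * ((f : G) * u₀ * (f : G)⁻¹) * (e : G)⁻¹) = 2 := by
      rw [order_conj, order_conj, hu₀o]
    have ho2 : orderOf (((e : G) * c f * (e : G)⁻¹) * ((e : G) * u₀ * (e : G)⁻¹) * ((e : G) * c f * (e : G)⁻¹)⁻¹) = 2 := by
      rw [order_conj, order_conj, hu₀o]
    exact htrans ho1 h1 (htrans ho2 h2 h3)
  -- the product, computed in the abelian group `C(t)`
  let _ : Fintype Wt := Fintype.ofFinite Wt
  have hcommA : ∀ a b : centralizer ({t} : Set G), a * b = b * a := fun a b =>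
    (hA t hto).is_comm.comm a b
  letI : CommGroup (centralizer ({t} : Set G)) := { (inferInstance : Group (centralizer ({t} : Set G))) with mul_comm := hcommA }
  let c' : Wt → centralizer ({t} : Set G) := fun e => ⟨c e, mem_centralizer_singleton_iff.mpr (hcV e).comm⟩
  let κ : Wt → centralizer ({t} : Set G) →* centralizer ({t} : Set G) := fun e =>
    { toFun := fun x => ⟨(e : G) * x * (e : G)⁻¹, mem_centralizer_singleton_iff.mpr
        (conj_comm_of_stab hA hto e.2.2 (mem_centralizer_singleton_iff.mp x.2))⟩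
      map_one' := by
        apply Subtype.ext
        simp
      map_mul' := fun x y => by
        apply Subtype.ext
        show (e : G) * ((x : G) * y) * (e : G)⁻¹ = ((e : G) * x * (e : G)⁻¹) * ((e : G) * y * (e : G)⁻¹)
        group }
  let P' : centralizer ({t} : Set G) := ∏ f : Wt, c' f
  have hoddWt : Odd (Fintype.card Wt) := by
    rw [← Nat.card_eq_fintype_card]
    have h1 : Nat.card Wt ∣ Nat.card W := Subgroup.card_dvd_of_le inf_le_left
    exact Odd.of_dvd_nat hW h1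
  have hPe : ∀ e : Wt, P' = κ e P' * c' e := by
    intro e
    have h1 : P' = ∏ f : Wt, c' (e * f) :=
      (Fintype.prod_equiv (Equiv.mulLeft e) (fun f => c' (e * f)) c' (fun f => rfl)).symm
    have h2 : ∀ f : Wt, c' (e * f) = κ e (c' f) * c' e := by
      intro f
      apply Subtype.ext
      exact hcoc e f
    have h3 : P' = κ e P' * (c' e) ^ Fintype.card Wt := by
      conv_lhs => rw [h1]
      simp only [h2]
      rw [Finset.prod_mul_distrib, Finset.prod_const, Finset.card_univ, map_prod]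
    have h4 : (c' e) ^ Fintype.card Wt = c' e := by
      obtain ⟨m, hm⟩ := hoddWt
      rw [hm, pow_succ, pow_mul]
      have : (c' e) ^ 2 = 1 := by
        apply Subtype.ext
        show c e ^ 2 = 1
        rw [pow_two]
        exact (hcV e).sq
      rw [this, one_pow, one_mul]
    rw [h4] at h3
    exact h3
  set P : G := (P' : G) with hPd
  have hPt : Commute P t := mem_centralizer_singleton_iff.mp P'.2
  have hPV : InV t P := by
    have : ∀ s : Finset Wt, InV t ((∏ f ∈ s, c' f : centralizer ({t} : Set G)) : G) := by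
      intro s
      induction s using Finset.induction_on with
      | empty => simpa using InV.one t
      | insert a s ha ih =>
        rw [Finset.prod_insert ha]
        exact InV.mul hA hto (hcV a) ih
    exact this Finset.univ
  have hPe' : ∀ e : Wt, P = ((e : G) * P * (e : G)⁻¹) * c e := fun e => congrArg Subtype.val (hPe e)
  set ustar := P * u₀ * P⁻¹ with hustar
  have hustar_o : orderOf ustar = 2 := by rw [hustar, order_conj, hu₀o]
  have hustar_I : ustar ∈ I := by
    rcases hPV with h | ⟨h, h'⟩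
    · rw [hustar, h]
      simpa using hu₀
    · exact hcj P (hcl t ht P h h') u₀ hu₀
  have hustar_ne : ¬ Commute t ustar := by
    intro h
    apply htu₀
    have h1 := conj_comm h P⁻¹
    have e1 : P⁻¹ * t * P⁻¹⁻¹ = t := by
      calc P⁻¹ * t * P⁻¹⁻¹ = P⁻¹ * (t * P) := by group
        _ = P⁻¹ * (P * t) := by rw [hPt.eq]
        _ = t := by group
    have e2 : P⁻¹ * ustar * P⁻¹⁻¹ = u₀ := by rw [hustar]; group
    rwa [e1, e2] at h1
  -- `Wt` fixes the class of `ustar`
  have hfix : ∀ e : Wt, Commute ((e : G) * ustar * (e : G)⁻¹) ustar := by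
    intro e
    have h1 := conj_comm (hcC e) ((e : G) * P * (e : G)⁻¹)
    have e1 : ((e : G) * P * (e : G)⁻¹) * ((e : G) * u₀ * (e : G)⁻¹) * ((e : G) * P * (e : G)⁻¹)⁻¹ =
        (e : G) * ustar * (e : G)⁻¹ := by rw [hustar]; group
    have e2 : ((e : G) * P * (e : G)⁻¹) * (c e * u₀ * (c e)⁻¹) * ((e : G) * P * (e : G)⁻¹)⁻¹ =
        (((e : G) * P * (e : G)⁻¹) * c e) * u₀ * (((e : G) * P * (e : G)⁻¹) * c e)⁻¹ := by group
    rw [e1, e2, ← hPe' e] at h1
    exact h1.symm
  obtain ⟨g, hgW, hg⟩ := htr t ht ustar hustar_I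
  -- conjugation by `g⁻¹` preserves `Wt`
  have hgW' : ∀ e : Wt, g⁻¹ * (e : G) * g ∈ Wt := by
    intro e
    refine ⟨W.mul_mem (W.mul_mem (W.inv_mem hgW) e.2.1) hgW, ?_⟩
    show Commute ((g⁻¹ * (e : G) * g) * t * (g⁻¹ * (e : G) * g)⁻¹) t
    have h1 := conj_comm (hfix e) g⁻¹
    have e1 : g⁻¹ * ((e : G) * ustar * (e : G)⁻¹) * g⁻¹⁻¹ = (g⁻¹ * (e : G) * g) * t * (g⁻¹ * (e : G) * g)⁻¹ := by
      rw [← hg]; group
    have e2 : g⁻¹ * ustar * g⁻¹⁻¹ = t := by
      rw [← hg]; group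
    rwa [e1, e2] at h1
  set u₂ := g * ustar * g⁻¹ with hu₂
  have hu₂o : orderOf u₂ = 2 := by rw [hu₂, order_conj, hustar_o]
  have hfix₂ : ∀ e : Wt, Commute ((e : G) * u₂ * (e : G)⁻¹) u₂ := by
    intro e
    have h1 := conj_comm (hfix ⟨_, hgW' e⟩) g
    have e1 : g * ((g⁻¹ * (e : G) * g) * ustar * (g⁻¹ * (e : G) * g)⁻¹) * g⁻¹ = (e : G) * u₂ * (e : G)⁻¹ := by
      rw [hu₂]; group
    exact e1 ▸ h1
  by_cases hcase : Commute t u₂
  · -- `g²` fixes the class of `t`, hence so does `g`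
    have hg2 : g * g ∈ Wt := by
      refine ⟨W.mul_mem hgW hgW, ?_⟩
      show Commute ((g * g) * t * (g * g)⁻¹) t
      have e1 : (g * g) * t * (g * g)⁻¹ = u₂ := by rw [hu₂, ← hg]; group
      rw [e1]
      exact hcase.symm
    have hgodd : Odd (orderOf g) := by
      have h1 := orderOf_dvd_natCard (⟨g, hgW⟩ : W)
      rw [Subgroup.orderOf_mk] at h1
      exact Odd.of_dvd_nat hW h1
    obtain ⟨m, hm⟩ := hgodd
    have hgm : g = (g * g) ^ (m + 1) := by
      rw [← pow_two, ← pow_mul]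
      have : 2 * (m + 1) = orderOf g + 1 := by omega
      rw [this, pow_succ, pow_orderOf_eq_one, one_mul]
    have hgS : g ∈ Wt := hgm ▸ Wt.pow_mem hg2 _
    have : Commute (g * t * g⁻¹) t := hgS.2
    rw [hg] at this
    exact hustar_ne this.symm
  · have hu₂I : u₂ ∈ I := hWI g hgW ustar hustar_I
    obtain ⟨v, hv, hvc⟩ := hreg t ht ustar hustar_I u₂ hu₂I hustar_ne hcase
    have hvo : orderOf (v * ustar * v⁻¹) = 2 := by rw [order_conj, hustar_o]
    -- `v` is fixed by `Wt`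
    have hvfix : ∀ e : Wt, (e : G) * v * (e : G)⁻¹ = v := by
      intro e
      apply semiregular hA hto hustar_o hustar_ne (hVconj e v hv) hv
      have h1 : Commute (((e : G) * v * (e : G)⁻¹) * ustar * ((e : G) * v * (e : G)⁻¹)⁻¹)
          ((e : G) * (v * ustar * v⁻¹) * (e : G)⁻¹) := by
        have h2 := conj_comm (hfix e) ((e : G) * v * (e : G)⁻¹)
        have e1 : ((e : G) * v * (e : G)⁻¹) * ((e : G) * ustar * (e : G)⁻¹) * ((e : G) * v * (e : G)⁻¹)⁻¹ =
            (e : G) * (v * ustar * v⁻¹) * (e : G)⁻¹ := by group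
        rw [e1] at h2
        exact h2.symm
      have h3 : Commute ((e : G) * (v * ustar * v⁻¹) * (e : G)⁻¹) ((e : G) * u₂ * (e : G)⁻¹) :=
        conj_comm hvc _
      have h4 := hfix₂ e
      have ho1 : orderOf ((e : G) * (v * ustar * v⁻¹) * (e : G)⁻¹) = 2 := by rw [order_conj, hvo]
      have ho2 : orderOf ((e : G) * u₂ * (e : G)⁻¹) = 2 := by rw [order_conj, hu₂o]
      have h5 := htrans ho1 h1 h3
      have h6 := htrans ho2 h5 h4
      exact htrans hu₂o h6 hvc.symm
    have hv1 : v = 1 := by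
      by_contra hv1
      rcases hv with h | ⟨hvo', hvt⟩
      · exact hv1 h
      have hvI : v ∈ I := hcl t ht v hvo' hvt
      -- pick `z ∈ {t, t'}` different from `v`
      obtain ⟨z, hzI, hzt, hzv⟩ : ∃ z ∈ I, Commute z t ∧ z ≠ v := by
        by_cases h : t = v
        · exact ⟨t', ht', hc.symm, fun h2 => hne (h.trans h2.symm)⟩
        · exact ⟨t, ht, Commute.refl t, h⟩
      obtain ⟨w, hwW, hw⟩ := htr v hvI z hzI
      have hwS : w ∈ Wt := by
        refine ⟨hwW, ?_⟩
        show Commute (w * t * w⁻¹) t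
        have h1 := conj_comm hvt w
        rw [hw] at h1
        exact htrans (hI z hzI) h1.symm hzt
      have := hvfix ⟨w, hwS⟩
      apply hzv
      rw [← hw]
      exact this
    rw [hv1] at hvc
    have h1 : Commute ustar u₂ := by simpa using hvc
    have h2 := conj_comm h1 g⁻¹
    have e1 : g⁻¹ * ustar * g⁻¹⁻¹ = t := by rw [← hg]; group
    have e2 : g⁻¹ * u₂ * g⁻¹⁻¹ = ustar := by rw [hu₂]; group
    rw [e1, e2] at h2
    exact hustar_ne h2

end Cfsg.Agent.Lib.TwoFusion.AbC
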