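import Mathlib
import Cfsg.Agent.Lib.TwoFusion.AbBasic

/-!
# Involution centralizers abelian: equivalence of `AbP` and `AbReg`
-/

set_option autoImplicit false
set_option linter.unusedSectionVars false

namespace Cfsg.Agent.Lib.TwoFusion.AbC

open Subgroup

section

variable {G : Type*} [Group G]

/-- Elements fixing all commuting classes of involutions. -/
def FixAll (g : G) : Prop := ∀ w : G, orderOf w = 2 → Commute (g * w * g⁻¹) w

theorem FixAll.inv (hA : AbHyp G) {g : G} (h : FixAll g) : FixAll g⁻¹ := by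
  intro w hw
  have h1 := h (g⁻¹ * w * g) (by
    have := order_conj g⁻¹ w
    rw [inv_inv] at this
    rw [this, hw])
  have e : g * (g⁻¹ * w * g) * g⁻¹ = w := by group
  rw [e] at h1
  have e2 : g⁻¹ * w * g⁻¹⁻¹ = g⁻¹ * w * g := by group
  rw [e2]
  exact h1.symm

theorem FixAll.mul (hA : AbHyp G) {g g' : G} (h : FixAll g) (h' : FixAll g') : FixAll (g * g') := by
  intro w hw
  have h1 := conj_comm (h' w hw) g
  have h2 := h w hw
  have e : g * g' * w * (g * g')⁻¹ = g * (g' * w * g'⁻¹) * g⁻¹ := by group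
  rw [e]
  exact hA.comm (by rw [order_conj, hw]) h1 h2.symm |>.symm.symm

theorem FixAll.conj (hA : AbHyp G) {g : G} (h : FixAll g) (x : G) : FixAll (x * g * x⁻¹) := by
  intro w hw
  have h1 := h (x⁻¹ * w * x) (by
    have := order_conj x⁻¹ w
    rw [inv_inv] at this
    rw [this, hw])
  have h2 := conj_comm h1 x
  have e1 : x * (g * (x⁻¹ * w * x) * g⁻¹) * x⁻¹ = x * g * x⁻¹ * w * (x * g * x⁻¹)⁻¹ := by group
  have e2 : x * (x⁻¹ * w * x) * x⁻¹ = w := by group
  rwa [e1, e2] at h2

/-- `FixAll` elements commute with all involutions. -/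
theorem FixAll.comm [Finite G] (hG : AbGood G) {g : G} (h : FixAll g) {w : G} (hw : orderOf w = 2) :
    Commute g w := by
  have hA := hG.ab
  -- no involution fixes all classes
  have hno : ∀ i : G, FixAll i → i * i = 1 → i = 1 := by
    intro i hi hii
    by_contra hne
    have hio := order_of_sq hii hne
    obtain ⟨a, ha, hna⟩ := hG.exists_not_comm hio
    exact hna (fixed_comm hA hio ha (hi a ha))
  set y := g * (w * g⁻¹ * w⁻¹) with hy
  have hyF : FixAll y := FixAll.mul hA h ((FixAll.inv hA h).conj hA w)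
  have hw2 := inv_mul_self_of_order hw
  have hwi := inv_eq_of_order hw
  have hc := h w hw
  have hy' : y = (g * w * g⁻¹) * w := by
    rw [hy, hwi]
    group
  have hyy : y * y = 1 := by
    rw [hy']
    have hg2 : (g * w * g⁻¹) * (g * w * g⁻¹) = 1 := by
      calc (g * w * g⁻¹) * (g * w * g⁻¹) = g * (w * w) * g⁻¹ := by group
        _ = 1 := by rw [hw2]; group
    calc (g * w * g⁻¹) * w * ((g * w * g⁻¹) * w) = (g * w * g⁻¹) * (w * (g * w * g⁻¹)) * w := by group
      _ = (g * w * g⁻¹) * ((g * w * g⁻¹) * w) * w := by rw [hc.eq]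
      _ = ((g * w * g⁻¹) * (g * w * g⁻¹)) * (w * w) := by group
      _ = 1 := by rw [hg2, hw2, one_mul]
  have hy1 := hno y hyF hyy
  rw [hy'] at hy1
  show g * w = w * g
  have h5 : g * w * g⁻¹ = w := by
    have : g * w * g⁻¹ = (g * w * g⁻¹) * w * w⁻¹ := by group
    rw [this, hy1, one_mul, hwi]
  calc g * w = g * w * g⁻¹ * g := by group
    _ = w * g := by rw [h5]

/-- `AbReg` implies `AbP`. -/
theorem abP_of_abReg [Finite G] (hG : AbGood G) (hR : AbReg G) : AbP G := by
  have hA := hG.ab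
  intro t ht c hc u hu
  obtain ⟨u₀, hu₀, htu₀⟩ := hG.exists_not_comm ht
  -- the image of `u₀` under `c`
  have hc' : orderOf (c * u₀ * c⁻¹) = 2 := by rw [order_conj, hu₀]
  have hnc : ¬ Commute t (c * u₀ * c⁻¹) := by
    intro h
    apply htu₀
    have h1 := conj_comm h c⁻¹
    have e1 : c⁻¹ * t * c⁻¹⁻¹ = t := by
      have := hc.eq
      calc c⁻¹ * t * c⁻¹⁻¹ = c⁻¹ * (t * c) := by group
        _ = c⁻¹ * (c * t) := by rw [hc.eq]
        _ = t := by group
    have e2 : c⁻¹ * (c * u₀ * c⁻¹) * c⁻¹⁻¹ = u₀ := by group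
    rwa [e1, e2] at h1
  obtain ⟨v, hv, hvc⟩ := hR t u₀ _ ht hu₀ hc' htu₀ hnc
  set c' := v⁻¹ * c with hc'd
  have hcc : Commute c' t := (hv.comm.inv_left).mul_left hc
  -- `c'` fixes the class of `u₀`
  have hfix0 : Commute (c' * u₀ * c'⁻¹) u₀ := by
    have h1 := conj_comm hvc v⁻¹
    have e1 : v⁻¹ * (v * u₀ * v⁻¹) * v⁻¹⁻¹ = u₀ := by group
    have e2 : v⁻¹ * (c * u₀ * c⁻¹) * v⁻¹⁻¹ = c' * u₀ * c'⁻¹ := by
      rw [hc'd]; group
    rw [e1, e2] at h1
    exact h1.symm
  -- hence all classes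
  have hF : FixAll c' := by
    intro w hw
    by_cases htw : Commute t w
    · have : Commute c' w := hA.comm ht hcc htw.symm
      have e : c' * w * c'⁻¹ = w := by
        calc c' * w * c'⁻¹ = w * c' * c'⁻¹ := by rw [this.eq]
          _ = w := by group
      rw [e]
    · obtain ⟨v₂, hv₂, hv₂c⟩ := hR t u₀ w ht hu₀ hw htu₀ htw
      set x := v₂ * u₀ * v₂⁻¹ with hx
      have hxo : orderOf x = 2 := by rw [hx, order_conj, hu₀]
      have hc'v : Commute c' v₂ := hA.comm ht hcc hv₂.comm
      have e1 : c' * x * c'⁻¹ = v₂ * (c' * u₀ * c'⁻¹) * v₂⁻¹ := by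
        rw [hx]
        calc c' * (v₂ * u₀ * v₂⁻¹) * c'⁻¹ = (c' * v₂) * u₀ * (c' * v₂)⁻¹ := by group
          _ = (v₂ * c') * u₀ * (v₂ * c')⁻¹ := by rw [hc'v.eq]
          _ = _ := by group
      have h2 : Commute (c' * x * c'⁻¹) x := by
        rw [e1, hx]
        exact conj_comm hfix0 v₂
      have h3 : Commute (c' * w * c'⁻¹) (c' * x * c'⁻¹) := (conj_comm hv₂c c').symm
      have h4 : Commute (c' * w * c'⁻¹) x := hA.comm (by rw [order_conj, hxo]) h3 h2.symm |>.symm.symm
      exact hA.comm hxo h4 hv₂c.symm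
  have hcomm := hF.comm hG hu
  have e : c * c = c' * c' := by
    have hvc' : Commute v c' := hA.comm ht hv.comm hcc
    have h1 : c = v * c' := by rw [hc'd]; group
    rw [h1]
    calc v * c' * (v * c') = v * (c' * v) * c' := by group
      _ = v * (v * c') * c' := by rw [hvc'.eq]
      _ = (v * v) * (c' * c') := by group
      _ = c' * c' := by rw [hv.sq, one_mul]
  rw [e]
  exact hcomm.mul_left hcomm

end

section

variable {G : Type*} [Group G] [Finite G]

/-- Two distinct involutions in a Sylow subgroup prevent it from being cyclic. -/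
theorem not_cyclic_of_two {T : Subgroup G} {a b : G} (ha : orderOf a = 2) (hb : orderOf b = 2)
    (haT : a ∈ T) (hbT : b ∈ T) (hne : a ≠ b) : ¬ IsCyclic T := by
  classical
  intro hc
  let _ := Fintype.ofFinite T
  have h1 := IsCyclic.card_orderOf_eq_totient (α := T) (d := 2) ?_
  · have h2 : ({(⟨a, haT⟩ : T), ⟨b, hbT⟩} : Finset T) ⊆ Finset.univ.filter (fun x : T => orderOf x = 2) := by
      intro x hx
      simp only [Finset.mem_insert, Finset.mem_singleton] at hx
      rcases hx with rfl | rfl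
      · simpa [Subgroup.orderOf_mk] using ha
      · simpa [Subgroup.orderOf_mk] using hb
    have h3 := Finset.card_le_card h2
    rw [h1, Finset.card_pair (fun h => hne (congrArg Subtype.val h))] at h3
    simp at h3
  · rw [Nat.card_eq_fintype_card.symm]
    have := orderOf_dvd_natCard (⟨a, haT⟩ : T)
    rwa [Subgroup.orderOf_mk, ha] at this

/-- `AbP` implies `AbReg`. -/
theorem abReg_of_abP (hG : AbGood G) (hP : AbP G) : AbReg G := by
  classical
  haveI : Fact (Nat.Prime 2) := ⟨Nat.prime_two⟩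
  have hA := hG.ab
  have hK := hG.oddKer_mk
  have hZ := hG.zass_quot hP
  set π := QuotientGroup.mk' (invCent G) with hπ
  intro t u u' ht hu hu' htu htu'
  set Q := G ⧸ invCent G with hQ
  have hto : orderOf (π t) = 2 := hK.order_image ht
  have huo : orderOf (π u) = 2 := hK.order_image hu
  have hu'o : orderOf (π u') = 2 := hK.order_image hu'
  -- a Sylow subgroup containing the image of `t`
  have hpt : IsPGroup 2 (zpowers (π t)) := by
    rw [IsPGroup.iff_card, Nat.card_zpowers, hto]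
    exact ⟨1, by norm_num⟩
  obtain ⟨T, hT⟩ := hpt.exists_le_sylow
  have htT : π t ∈ (T : Subgroup Q) := hT (mem_zpowers _)
  have hTcent : centralizer ({π t} : Set Q) = T := centralizer_eq_of_mem hZ hto htT
  have hne : ¬ (Commute (π t) (π u)) := fun h => htu (hK.comm_of_image (inv_mul_self_of_order hu) h)
  have hne' : ¬ (Commute (π t) (π u')) := fun h => htu' (hK.comm_of_image (inv_mul_self_of_order hu') h)
  have hnn : ¬ (T : Subgroup Q).Normal := by
    intro hn
    apply hne
    have hpu : IsPGroup 2 (zpowers (π u)) := by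
      rw [IsPGroup.iff_card, Nat.card_zpowers, huo]
      exact ⟨1, by norm_num⟩
    obtain ⟨T', hT'⟩ := hpu.exists_le_sylow
    have h1 : (T' : Subgroup Q) = T := by
      haveI := Sylow.unique_of_normal T hn
      rw [Subsingleton.elim T' T]
    have h2 : π u ∈ (T : Subgroup Q) := h1 ▸ hT' (mem_zpowers _)
    exact sylow_comm hZ htT h2
  have hSE := isStronglyEmbedded_NT hZ hnn
  obtain ⟨u₁, hu₁, hu₁H⟩ := exists_involution_outside hZ hnn
  have hnc : ¬ IsCyclic (T : Subgroup Q) := by
    -- a commuting distinct pair: conjugate the Klein pair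
    obtain ⟨a, b, ha, hb, hab, hcab⟩ := hG.klein
    obtain ⟨x, hx⟩ := isConj_iff.mp (isConj_of_involutions hSE hu₁ hu₁H (hK.order_image ha) hto)
    have h1 : orderOf (x * π b * x⁻¹) = 2 := by rw [order_conj, hK.order_image hb]
    have h2 : Commute (x * π b * x⁻¹) (π t) := by
      rw [← hx]
      apply conj_comm
      show π b * π a = π a * π b
      rw [← map_mul, hcab.eq.symm, map_mul]
    have h3 : x * π b * x⁻¹ ∈ (T : Subgroup Q) := by
      rw [← hTcent]
      exact mem_centralizer_singleton_iff.mpr h2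
    refine not_cyclic_of_two hto h1 htT h3 ?_
    intro he
    apply hab
    apply hK.eq_of_sq (inv_mul_self_of_order ha) (inv_mul_self_of_order hb)
    rw [← hx] at he
    exact mul_left_cancel (mul_right_cancel he)
  -- the points of `u`, `u'`
  obtain ⟨x, hx⟩ := isConj_iff.mp (isConj_of_involutions hSE hu₁ hu₁H hto huo)
  obtain ⟨x', hx'⟩ := isConj_iff.mp (isConj_of_involutions hSE hu₁ hu₁H hto hu'o)
  have hnotin : ∀ y : Q, y * π t * y⁻¹ = π u → (QuotientGroup.mk y : Q ⧸ NT T) ≠ QuotientGroup.mk 1 := by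
    intro y hy h1
    have h2 : y ∈ NT T := mk_eq_mk_one_iff.mp h1
    have h3 : y * π t * y⁻¹ ∈ (T : Subgroup Q) := conj_mem_T h2 htT
    rw [hy] at h3
    exact hne (sylow_comm hZ htT h3)
  have hnotin' : ∀ y : Q, y * π t * y⁻¹ = π u' → (QuotientGroup.mk y : Q ⧸ NT T) ≠ QuotientGroup.mk 1 := by
    intro y hy h1
    have h2 : y ∈ NT T := mk_eq_mk_one_iff.mp h1
    have h3 : y * π t * y⁻¹ ∈ (T : Subgroup Q) := conj_mem_T h2 htT
    rw [hy] at h3
    exact hne' (sylow_comm hZ htT h3)
  obtain ⟨vb, ⟨hvbT, hvbx⟩, -⟩ := T_regular hZ hnc hnn (hnotin x hx) (hnotin' x' hx')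
  -- the relation in `Q`
  have hn : x'⁻¹ * (vb * x) ∈ NT T := by
    have h1 : (QuotientGroup.mk (vb * x) : Q ⧸ NT T) = QuotientGroup.mk x' := hvbx
    exact (QuotientGroup.eq.mp h1.symm)
  have hcomm : Commute (vb * π u * vb⁻¹) (π u') := by
    have h1 := conj_mem_T hn htT
    have hc := sylow_comm hZ h1 htT
    have h2 := conj_comm (show Commute _ _ from hc) x'
    have e1 : x' * (x'⁻¹ * (vb * x) * π t * (x'⁻¹ * (vb * x))⁻¹) * x'⁻¹ = vb * (x * π t * x⁻¹) * vb⁻¹ := by group
    rw [e1, hx, hx'] at h2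
    exact h2
  -- lift
  have hvb2 : vb * vb = 1 := by
    have := sylow_sq hZ hvbT
    rwa [pow_two] at this
  obtain ⟨v, hvv, hvπ⟩ := hK.lift_sq hvb2
  refine ⟨v, ?_, ?_⟩
  · by_cases hv1 : v = 1
    · exact Or.inl hv1
    · refine Or.inr ⟨order_of_sq hvv hv1, ?_⟩
      apply hK.comm_of_image (inv_mul_self_of_order ht)
      rw [hvπ]
      exact sylow_comm hZ hvbT htT
  · apply hK.comm_of_image (inv_mul_self_of_order hu')
    have : π (v * u * v⁻¹) = vb * π u * vb⁻¹ := by
      rw [map_mul, map_mul, map_inv, hvπ]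
    rw [this]
    exact hcomm

end

end Cfsg.Agent.Lib.TwoFusion.AbC
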