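import Mathlib
import Cfsg.Agent.Lib.TwoFusion.AbBasic
import Cfsg.Agent.Lib.TwoFusion.AbReg
import Cfsg.Agent.Lib.TwoFusion.AbNoOdd

/-!
# Involution centralizers abelian: the case where the centralizers are not T.I.
-/

set_option autoImplicit false
set_option linter.unusedSectionVars false

namespace Cfsg.Agent.Lib.TwoFusion.AbC

open Subgroup

variable {G : Type*} [Group G] [Finite G]

/-- A midpoint of two involutions, commuting with everything commuting with both. -/
theorem exists_mid_comm {t b : G} (ht : orderOf t = 2) (hb : orderOf b = 2)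
    (hodd : Odd (orderOf (t * b))) : ∃ i : G, orderOf i = 2 ∧ i * t * i = b ∧
      ∀ y : G, Commute y t → Commute y b → Commute y i := by
  have ht2 : t * t = 1 := inv_mul_self_of_order ht
  have hti : t⁻¹ = t := inv_eq_of_order ht
  set r := t * b with hr
  have hinv : t * r * t⁻¹ = r⁻¹ := by
    rw [hti, hr]
    have : (t * b)⁻¹ = b * t := by
      rw [mul_inv_rev, inv_eq_of_order hb, hti]
    rw [this]
    calc t * (t * b) * t = (t * t) * b * t := by group
      _ = b * t := by rw [ht2, one_mul]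
  obtain ⟨k, hk⟩ := exists_sq_root_of_odd hodd
  set s := r ^ k with hs
  have hsinv : t * s * t⁻¹ = s⁻¹ := by
    rw [hs, ← conj_pow, hinv, inv_pow]
  have hsodd : Odd (orderOf s) := by
    have : orderOf s ∣ orderOf r := orderOf_pow_dvd k
    exact Odd.of_dvd_nat hodd this
  have hi : (t * s) * (t * s) = 1 := by
    have h1 : t * s * t = s⁻¹ := by rwa [hti] at hsinv
    calc (t * s) * (t * s) = (t * s * t) * s := by group
      _ = 1 := by rw [h1, inv_mul_cancel]
  refine ⟨t * s, ?_, ?_, ?_⟩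
  · apply order_of_sq hi
    intro h1
    have h2 : s = t := by
      have : s = t⁻¹ * (t * s) := by group
      rw [this, h1, mul_one, hti]
    rw [h2, ht] at hsodd
    exact absurd hsodd (by decide)
  · calc t * s * t * (t * s) = t * s * (t * t) * s := by group
      _ = t * (s * s) := by rw [ht2]; group
      _ = t * r := by rw [hk]
      _ = (t * t) * b := by rw [hr]; group
      _ = b := by rw [ht2, one_mul]
  · intro y h1 h2
    have h3 : Commute y r := h1.mul_right h2
    exact h1.mul_right (h3.pow_right k)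

/-- An involution cannot invert a nontrivial element of odd order commuting with an involution. -/
theorem sq_eq_one_of_inverted (hA : AbHyp G) {w t₁ y : G} (hw : orderOf w = 2) (ht₁ : orderOf t₁ = 2)
    (hinv : w * y * w⁻¹ = y⁻¹) (hy : Commute y t₁) : y * y = 1 := by
  have hww := inv_mul_self_of_order hw
  have hwi := inv_eq_of_order hw
  have hfin : ∀ x : G, Commute x t₁ → x * y * x⁻¹ = y⁻¹ → y * y = 1 := by
    intro x hx hxi
    have hc : Commute x y := hA.comm ht₁ hx hy
    have e : x * y * x⁻¹ = y := by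
      calc x * y * x⁻¹ = y * x * x⁻¹ := by rw [hc.eq]
        _ = y := by group
    rw [e] at hxi
    calc y * y = y * y⁻¹ := by rw [← hxi]
      _ = 1 := by group
  set t₂ := w * t₁ * w⁻¹ with ht₂
  have ht₂o : orderOf t₂ = 2 := by rw [ht₂, order_conj, ht₁]
  have hy2 : Commute y t₂ := by
    have h1 := conj_comm hy w
    rw [hinv] at h1
    have := h1.inv_left
    rwa [inv_inv] at this
  by_cases hc : Commute t₁ t₂
  · have h1 : Commute w t₁ := fixed_comm hA hw ht₁ hc.symm
    exact hfin w h1 hinv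
  · have hodd := odd_mul_of_not_comm hA ht₁ ht₂o hc
    obtain ⟨i, hi, hit, hic⟩ := exists_mid_comm ht₁ ht₂o hodd
    have hiy := hic y hy hy2
    have hii := inv_mul_self_of_order hi
    have hii' := inv_eq_of_order hi
    apply hfin (w * i)
    · show w * i * t₁ = t₁ * (w * i)
      have h1 : i * t₁ = t₂ * i := by
        calc i * t₁ = i * t₁ * (i * i) := by rw [hii, mul_one]
          _ = (i * t₁ * i) * i := by group
          _ = t₂ * i := by rw [hit]
      calc w * i * t₁ = w * (i * t₁) := by group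
        _ = w * (t₂ * i) := by rw [h1]
        _ = (w * t₂) * i := by group
        _ = (t₁ * w) * i := by
            rw [ht₂, hwi]
            congr 1
            calc w * (w * t₁ * w) = (w * w) * t₁ * w := by group
              _ = t₁ * w := by rw [hww, one_mul]
        _ = t₁ * (w * i) := by group
    · have e : i * y * i⁻¹ = y := by
        calc i * y * i⁻¹ = y * i * i⁻¹ := by rw [hiy.symm.eq]
          _ = y := by group
      calc w * i * y * (w * i)⁻¹ = w * (i * y * i⁻¹) * w⁻¹ := by group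
        _ = w * y * w⁻¹ := by rw [e]
        _ = y⁻¹ := hinv

/-- The centralizer of `b` is again a good group, when `b` centralizes two non-commuting involutions. -/
theorem good_centralizer (hG : AbGood G) {b t u : G} (ht : orderOf t = 2) (hu : orderOf u = 2)
    (htu : ¬ Commute t u) (hbt : Commute b t) (hbu : Commute b u) :
    AbGood (centralizer ({b} : Set G)) where
  ab := hG.ab.subgroup _
  noncomm := by
    refine ⟨⟨t, mem_centralizer_singleton_iff.mpr hbt.symm⟩, ⟨u, mem_centralizer_singleton_iff.mpr hbu.symm⟩,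
      by rw [Subgroup.orderOf_mk, ht], by rw [Subgroup.orderOf_mk, hu], ?_⟩
    intro h
    exact htu (congrArg Subtype.val h)
  klein := by
    obtain ⟨t', ht', hne, hc⟩ := hG.exists_partner ht
    have hbt' : Commute t' b := hG.ab.comm ht hc hbt
    refine ⟨⟨t, mem_centralizer_singleton_iff.mpr hbt.symm⟩, ⟨t', mem_centralizer_singleton_iff.mpr hbt'⟩,
      by rw [Subgroup.orderOf_mk, ht], by rw [Subgroup.orderOf_mk, ht'], ?_, ?_⟩
    · intro h
      exact hne (congrArg Subtype.val h).symm
    · apply Subtype.ext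
      exact hc.symm.eq

/-- The non-T.I. case is impossible when `G` is generated by involutions and has trivial center. -/
theorem nonTI_false (hG : AbGood G) (hgen : closure {t : G | orderOf t = 2} = ⊤)
    (hZ : ∀ x : G, (∀ t : G, orderOf t = 2 → Commute x t) → x = 1)
    {b t u : G} (hb1 : b ≠ 1) (ht : orderOf t = 2) (hu : orderOf u = 2)
    (htu : ¬ Commute t u) (hbt : Commute b t) (hbu : Commute b u)
    (hP : AbP (centralizer ({b} : Set G))) : False := by
  classical
  have hA := hG.ab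
  have hXG := good_centralizer hG ht hu htu hbt hbu
  have hRX := abReg_of_abP hXG hP
  set X := centralizer ({b} : Set G) with hXd
  have hmemX : ∀ {x : G}, Commute x b → x ∈ X := fun h => mem_centralizer_singleton_iff.mpr h.symm.symm
  let I : Set G := {w | orderOf w = 2 ∧ Commute w b}
  have htI : t ∈ I := ⟨ht, hbt.symm⟩
  have huI : u ∈ I := ⟨hu, hbu.symm⟩
  -- the relation on `I`
  have hcb : ∀ {t₁ c : G}, t₁ ∈ I → Commute c t₁ → Commute c b := fun {t₁ c} h1 hc =>
    hA.comm h1.1 hc h1.2.symm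
  have hstar : ∀ {t₁ u₁ c : G}, t₁ ∈ I → u₁ ∈ I → Commute c t₁ → Commute (c * c) u₁ := by
    intro t₁ u₁ c h1 h2 hc
    have h3 := hP ⟨t₁, hmemX h1.2⟩ (by rw [Subgroup.orderOf_mk, h1.1]) ⟨c, hmemX (hcb h1 hc)⟩
      (Subtype.ext hc.eq) ⟨u₁, hmemX h2.2⟩ (by rw [Subgroup.orderOf_mk, h2.1])
    exact congrArg Subtype.val h3
  have hodd : ∀ {t₁ c : G}, t₁ ∈ I → Commute c t₁ → Odd (orderOf (c * c)) := by
    intro t₁ c h1 hc
    by_contra h
    obtain ⟨k, hk⟩ := exists_pow_order_two h
    have h2 : ∀ {u₁ : G}, u₁ ∈ I → Commute ((c * c) ^ k) u₁ := fun h3 => (hstar h1 h3 hc).pow_left k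
    exact htu (hA.comm hk (h2 htI).symm (h2 huI).symm)
  -- equality of the square sets
  have hsq : ∀ {t₁ t₂ c : G}, t₁ ∈ I → t₂ ∈ I → Commute c t₁ → ∃ d, Commute d t₂ ∧ c * c = d * d := by
    intro t₁ t₂ c h1 h2 hc
    obtain ⟨k, hk⟩ := exists_sq_root_of_odd (hodd h1 hc)
    exact ⟨(c * c) ^ k, (hstar h1 h2 hc).pow_left k, hk.symm⟩
  -- the subgroup of squares
  let B : Subgroup G :=
    { carrier := {x | ∃ c, Commute c t ∧ x = c * c}
      mul_mem' := by
        rintro _ _ ⟨c, hc, rfl⟩ ⟨d, hd, rfl⟩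
        refine ⟨c * d, hc.mul_left hd, ?_⟩
        have hcd := hA.comm ht hc hd
        calc c * c * (d * d) = c * (c * d) * d := by group
          _ = c * (d * c) * d := by rw [hcd.eq]
          _ = c * d * (c * d) := by group
      one_mem' := ⟨1, Commute.one_left t, by simp⟩
      inv_mem' := by
        rintro _ ⟨c, hc, rfl⟩
        exact ⟨c⁻¹, hc.inv_left, by group⟩ }
  have hBmem : ∀ {t₁ x : G}, t₁ ∈ I → (x ∈ B ↔ ∃ c, Commute c t₁ ∧ x = c * c) := by
    intro t₁ x h1
    constructor
    · rintro ⟨c, hc, rfl⟩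
      obtain ⟨d, hd, e⟩ := hsq htI h1 hc
      exact ⟨d, hd, e⟩
    · rintro ⟨c, hc, rfl⟩
      obtain ⟨d, hd, e⟩ := hsq h1 htI hc
      exact ⟨d, hd, e⟩
  have hBcomm : ∀ {t₁ x : G}, t₁ ∈ I → x ∈ B → Commute x t₁ := by
    rintro t₁ _ h1 ⟨c, hc, rfl⟩
    exact hstar htI h1 hc
  have hBodd : ∀ {x : G}, x ∈ B → Odd (orderOf x) := by
    rintro _ ⟨c, hc, rfl⟩
    exact hodd htI hc
  have hbB : b ∈ B := by
    have hbodd : Odd (orderOf b) := by
      by_contra h
      obtain ⟨k, hk⟩ := exists_pow_order_two h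
      exact htu (hA.comm hk (hbt.pow_left k).symm (hbu.pow_left k).symm)
    obtain ⟨k, hk⟩ := exists_sq_root_of_odd hbodd
    exact ⟨b ^ k, hbt.pow_left k, hk.symm⟩
  -- the normalizer
  set K := normalizer ((B : Subgroup G) : Set G) with hKd
  have hIK : ∀ {w : G}, w ∈ I → w ∈ K := by
    intro w hw
    rw [hKd, mem_normalizer_iff]
    intro x
    have hx : ∀ y ∈ B, w * y * w⁻¹ = y := fun y h => by
      calc w * y * w⁻¹ = y * w * w⁻¹ := by rw [(hBcomm hw h).symm.eq]
        _ = y := by group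
    constructor
    · intro h
      rw [hx x h]
      exact h
    · intro h
      have e1 := hx _ h
      have e2 : x = w * x * w⁻¹ := by
        calc x = w⁻¹ * (w * x * w⁻¹) * w := by group
          _ = w⁻¹ * (w * (w * x * w⁻¹) * w⁻¹) * w := by rw [e1]
          _ = w * x * w⁻¹ := by group
      rw [e2]
      exact h
  have hKI : ∀ {w : G}, orderOf w = 2 → w ∈ K → w ∈ I := by
    intro w hw hwK
    have hB : ∀ x ∈ B, Commute w x := by
      intro x hx
      have h1 : w * x * w⁻¹ ∈ B := (mem_normalizer_iff.mp hwK x).mp hx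
      set y := x⁻¹ * (w * x * w⁻¹) with hy
      have hyB : y ∈ B := B.mul_mem (B.inv_mem hx) h1
      have hinv : w * y * w⁻¹ = y⁻¹ := by
        have hwi := inv_eq_of_order hw
        have hww := inv_mul_self_of_order hw
        rw [hy, hwi]
        calc w * (x⁻¹ * (w * x * w)) * w = (w * x⁻¹ * w) * x * (w * w) := by group
          _ = (w * x⁻¹ * w) * x := by rw [hww]; group
          _ = (x⁻¹ * (w * x * w))⁻¹ := by
              have : (w * x⁻¹ * w) = (w * x * w)⁻¹ := by
                rw [mul_inv_rev, mul_inv_rev, hwi]; group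
              rw [this]; group
      have hyy := sq_eq_one_of_inverted hA hw ht hinv (hBcomm htI hyB)
      have hy1 := eq_one_of_odd_of_mul_self (hBodd hyB) hyy
      have h2 : w * x * w⁻¹ = x := by
        have : w * x * w⁻¹ = x * y := by rw [hy]; group
        rw [this, hy1, mul_one]
      show w * x = x * w
      calc w * x = w * x * w⁻¹ * w := by group
        _ = x * w := by rw [h2]
    exact ⟨hw, hB b hbB⟩
  have hSE : Cfsg.IsStronglyEmbedded K := by
    refine ⟨?_, ?_, ?_⟩
    · intro h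
      apply hb1
      apply hZ
      intro w hw
      have : w ∈ I := hKI hw (h ▸ mem_top w)
      exact this.2.symm
    · have h1 := orderOf_dvd_natCard (⟨t, hIK htI⟩ : K)
      rw [Subgroup.orderOf_mk, ht] at h1
      exact even_iff_two_dvd.mpr h1
    · intro g hg
      apply odd_card_of_no_involution
      intro i hi hio
      apply hg
      have h1 : i ∈ I := hKI hio hi.1
      have h2 : g⁻¹ * i * g ∈ K := Cfsg.Agent.Lib.TwoFusion.mem_conj_map.mp hi.2
      have hio' : orderOf (g⁻¹ * i * g) = 2 := by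
        have := order_conj g⁻¹ i
        rw [inv_inv] at this
        rw [this, hio]
      have h3 : g⁻¹ * i * g ∈ I := hKI hio' h2
      rw [hKd, mem_normalizer_iff]
      intro x
      constructor
      · intro hx
        obtain ⟨c, hc, rfl⟩ := (hBmem h3).mp hx
        refine (hBmem h1).mpr ⟨g * c * g⁻¹, ?_, by group⟩
        have := conj_comm hc g
        have e : g * (g⁻¹ * i * g) * g⁻¹ = i := by group
        rwa [e] at this
      · intro hx
        obtain ⟨c, hc, hce⟩ := (hBmem h1).mp hx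
        refine (hBmem h3).mpr ⟨g⁻¹ * c * g, ?_, ?_⟩
        · have := conj_comm hc g⁻¹
          have e : g⁻¹ * c * g⁻¹⁻¹ = g⁻¹ * c * g := by group
          have e' : g⁻¹ * i * g⁻¹⁻¹ = g⁻¹ * i * g := by group
          rwa [e, e'] at this
        · calc x = g⁻¹ * (g * x * g⁻¹) * g := by group
            _ = g⁻¹ * (c * c) * g := by rw [hce]
            _ = _ := by group
  -- an involution outside `K`
  obtain ⟨u₀, hu₀, hu₀K⟩ : ∃ u₀ : G, orderOf u₀ = 2 ∧ u₀ ∉ K := by
    by_contra hcon
    push Not at hcon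
    apply hSE.1
    rw [eq_top_iff, ← hgen, closure_le]
    intro w hw
    exact hcon w hw
  obtain ⟨t', ht', hne, hc⟩ := hG.exists_partner ht
  have ht'I : t' ∈ I := ⟨ht', hA.comm ht hc hbt⟩
  refine no_odd_transitive hA I (fun w hw => hw.1) (K ⊓ K.map (MulAut.conj u₀).toMonoidHom)
    (hSE.2.2 u₀ hu₀K) ?_ ?_ ?_ ?_ ?_ htI ht'I hne.symm hc.symm huI htu
  · intro w hw t₁ ht₁
    refine hKI (by rw [order_conj, ht₁.1]) (K.mul_mem (K.mul_mem hw.1 (hIK ht₁)) (K.inv_mem hw.1))
  · intro s hs t₁ ht₁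
    obtain ⟨d, hd1, hd2, -, hd4⟩ := Cfsg.Agent.Lib.TwoFusion.exists_conj_inverted hSE hu₀ hu₀K hs.1 (hIK hs) ht₁.1 (hIK ht₁)
    exact ⟨d, ⟨hd1, Cfsg.Agent.Lib.TwoFusion.mem_conj_map.mpr hd2⟩, hd4⟩
  · intro t₁ ht₁ t₂ ht₂ hc₂
    exact ⟨ht₂, hA.comm ht₁.1 hc₂ ht₁.2.symm⟩
  · intro a ha c hc₂
    refine ⟨by rw [order_conj, hc₂.1], ?_⟩
    exact (ha.2.mul_left hc₂.2).mul_left ha.2.inv_left
  · intro t₁ ht₁ u₁ hu₁ u₂ hu₂ h1 h2
    have h3 := hRX ⟨t₁, hmemX ht₁.2⟩ ⟨u₁, hmemX hu₁.2⟩ ⟨u₂, hmemX hu₂.2⟩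
      (by rw [Subgroup.orderOf_mk, ht₁.1]) (by rw [Subgroup.orderOf_mk, hu₁.1]) (by rw [Subgroup.orderOf_mk, hu₂.1])
      (fun h => h1 (congrArg Subtype.val h)) (fun h => h2 (congrArg Subtype.val h))
    obtain ⟨v, hv, hvc⟩ := h3
    refine ⟨(v : G), ?_, congrArg Subtype.val hvc⟩
    rcases hv with h | ⟨h, h'⟩
    · left
      rw [h]
      rfl
    · right
      exact ⟨by rw [← Subgroup.orderOf_coe] at h; exact h, congrArg Subtype.val h'⟩

end Cfsg.Agent.Lib.TwoFusion.AbC
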