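import Mathlib
import Cfsg.Agent.Lib.TwoFusion.AbBasic
import Cfsg.Agent.Lib.TwoFusion.AbDual

/-!
# Induction from an abelian T.I. subgroup

`A` is a commutative subgroup of `G`, `H` its normalizer, with `A` T.I. in `G`.
Inner products of functions induced from `A`, in terms of the conjugation action of `H` on the dual.
-/

set_option autoImplicit false
set_option linter.unusedSectionVars false

namespace Cfsg.Agent.Lib.TwoFusion.AbC

open Cfsg Cfsg.Agent.Lib.Char
open scoped ComplexConjugate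

universe u

variable {G : Type u} [Group G]

/-- `A` commutative and T.I. with normalizer `H`. -/
structure TIPair (A H : Subgroup G) : Prop where
  comm : ∀ a b : A, a * b = b * a
  le : A ≤ H
  conj_mem : ∀ h ∈ H, ∀ a ∈ A, h⁻¹ * a * h ∈ A
  ti : ∀ x : G, ∀ a ∈ A, x⁻¹ * a * x ∈ A → a ≠ 1 → x ∈ H

variable {A H : Subgroup G} (P : TIPair A H)

/-- Conjugation on `A`. -/
def cjHom (h : H) : A →* A where
  toFun a := ⟨(h : G)⁻¹ * a * h, P.conj_mem h h.2 a a.2⟩
  map_one' := by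
    apply Subtype.ext
    simp
  map_mul' a b := by
    apply Subtype.ext
    show (h : G)⁻¹ * (a * b) * h = ((h : G)⁻¹ * a * h) * ((h : G)⁻¹ * b * h)
    group

theorem cjHom_coe (h : H) (a : A) : ((cjHom P h a : A) : G) = (h : G)⁻¹ * a * h := rfl

/-- Conjugation on the dual. -/
def cjD (h : H) (θ : A →* ℂˣ) : A →* ℂˣ := θ.comp (cjHom P h)

theorem cjD_apply (h : H) (θ : A →* ℂˣ) (a : A) : cjD P h θ a = θ (cjHom P h a) := rfl

theorem lc_cjD (h : H) (θ : A →* ℂˣ) (a : A) : lc (cjD P h θ) a = lc θ (cjHom P h a) := rfl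

theorem cjD_mul (h h' : H) (θ : A →* ℂˣ) : cjD P (h * h') θ = cjD P h (cjD P h' θ) := by
  ext a
  simp only [cjD_apply]
  have e : cjHom P (h * h') a = cjHom P h' (cjHom P h a) := by
    apply Subtype.ext
    show ((h * h' : H) : G)⁻¹ * a * ((h * h' : H) : G) = (h' : G)⁻¹ * ((h : G)⁻¹ * a * h) * h'
    push_cast
    group
  rw [e]

theorem cjD_one (θ : A →* ℂˣ) : cjD P 1 θ = θ := by
  ext a
  simp only [cjD_apply]
  have e : cjHom P 1 a = a := by
    apply Subtype.ext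
    show ((1 : H) : G)⁻¹ * a * ((1 : H) : G) = a
    simp
  rw [e]

theorem cjD_inv (h : H) (θ : A →* ℂˣ) : cjD P h θ⁻¹ = (cjD P h θ)⁻¹ := by
  ext a
  simp [cjD_apply]

theorem cjD_mul_hom (h : H) (θ θ' : A →* ℂˣ) : cjD P h (θ * θ') = cjD P h θ * cjD P h θ' := by
  ext a
  simp [cjD_apply]

/-- Elements of `A` act trivially on the dual. -/
theorem cjD_of_mem (h : H) (hA : (h : G) ∈ A) (θ : A →* ℂˣ) : cjD P h θ = θ := by
  ext a
  simp only [cjD_apply]
  have e : cjHom P h a = a := by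
    apply Subtype.ext
    show (h : G)⁻¹ * a * h = a
    have := P.comm a ⟨h, hA⟩
    have h2 : (a : G) * h = h * a := congrArg Subtype.val this
    rw [mul_assoc, h2]
    group
  rw [e]

variable [Fintype G] [Fintype A] [Fintype H]

omit [Fintype A] in
theorem sum_G_eq_sum_H (ψ : A → ℂ) (a : A) (ha : a ≠ 1) :
    ∑ x : G, extendByZero A ψ (x⁻¹ * a * x) = ∑ h : H, ψ (cjHom P h a) := by
  classical
  have h1 : ∀ x : G, x ∉ H → extendByZero A ψ (x⁻¹ * a * x) = 0 := by
    intro x hx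
    apply extendByZero_of_notMem
    intro hmem
    exact hx (P.ti x a a.2 hmem (fun h => ha (Subtype.ext h)))
  have h2 : ∑ x : G, extendByZero A ψ (x⁻¹ * a * x) =
      ∑ x ∈ Finset.univ.filter (· ∈ H), extendByZero A ψ (x⁻¹ * a * x) := by
    symm
    apply Finset.sum_subset (Finset.subset_univ _)
    intro x _ hx
    exact h1 x (by simpa using hx)
  rw [h2]
  have h3 : ∑ x ∈ Finset.univ.filter (· ∈ H), extendByZero A ψ (x⁻¹ * a * x) =
      ∑ h : H, extendByZero A ψ ((h : G)⁻¹ * a * h) := Finset.sum_subtype _ (by simp) _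
  rw [h3]
  refine Finset.sum_congr rfl fun h _ => ?_
  exact extendByZero_coe A ψ (cjHom P h a)

omit [Fintype A] in
theorem ind_apply_of_ne (ψ : A → ℂ) (a : A) (ha : a ≠ 1) :
    indFun A ψ a = (Nat.card A : ℂ)⁻¹ * ∑ h : H, ψ (cjHom P h a) := by
  rw [indFun_apply, sum_G_eq_sum_H P ψ a ha]

theorem ti_inner (φ ψ : A → ℂ) (hφ : φ 1 = 0) :
    classInner (indFun A φ) (indFun A ψ) =
      (Nat.card A : ℂ)⁻¹ * ∑ h : H, classInner φ (fun a => ψ (cjHom P h a)) := by
  rw [classInner_indFun_left A φ _ (isClassFunction_indFun A ψ)]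
  simp only [classInner]
  have h1 : ∀ a : A, φ a * conj (indFun A ψ a) =
      φ a * ((Nat.card A : ℂ)⁻¹ * ∑ h : H, conj (ψ (cjHom P h a))) := by
    intro a
    by_cases ha : a = 1
    · rw [ha, hφ, zero_mul, zero_mul]
    · rw [ind_apply_of_ne P ψ a ha, map_mul, map_inv₀, map_natCast, map_sum]
  simp only [h1]
  rw [← Finset.mul_sum]
  congr 1
  simp only [Finset.mul_sum]
  rw [Finset.sum_comm]
  refine Finset.sum_congr rfl fun h _ => Finset.sum_congr rfl fun a _ => ?_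
  ring

/-- The double-coset multiplicities. -/
noncomputable def JJ (θ₁ θ₂ : A →* ℂˣ) : ℂ :=
  (Nat.card A : ℂ)⁻¹ * ∑ h : H, classInner (lc θ₁) (lc (cjD P h θ₂))

theorem ind_inner (θ₁ θ₁' θ₂ : A →* ℂˣ) :
    classInner (indFun A (lc θ₁) - indFun A (lc θ₁')) (indFun A (lc θ₂)) = JJ P θ₁ θ₂ - JJ P θ₁' θ₂ := by
  rw [← indFun_sub, ti_inner P (lc θ₁ - lc θ₁') (lc θ₂) (by simp)]
  unfold JJ
  rw [← mul_sub, ← Finset.sum_sub_distrib]
  congr 1
  refine Finset.sum_congr rfl fun h _ => ?_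
  rw [classInner_sub_left]
  rfl

/-- A count for the multiplicities. -/
theorem JJ_eq_card (θ₁ θ₂ : A →* ℂˣ) [DecidableEq (A →* ℂˣ)] :
    JJ P θ₁ θ₂ = (Nat.card A : ℂ)⁻¹ * ((Finset.univ.filter (fun h : H => θ₁ = cjD P h θ₂)).card : ℂ) := by
  unfold JJ
  congr 1
  simp only [classInner_lc]
  rw [Finset.sum_boole]

theorem JJ_eq_zero {θ₁ θ₂ : A →* ℂˣ} (h : ∀ h : H, θ₁ ≠ cjD P h θ₂) : JJ P θ₁ θ₂ = 0 := by
  classical
  rw [JJ_eq_card]
  have : (Finset.univ.filter (fun h : H => θ₁ = cjD P h θ₂)) = ∅ := by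
    ext x
    simp [h x]
  rw [this]
  simp

theorem JJ_nonneg (θ₁ θ₂ : A →* ℂˣ) : ∃ r : ℝ, 0 ≤ r ∧ JJ P θ₁ θ₂ = (r : ℂ) := by
  classical
  refine ⟨(Nat.card A : ℝ)⁻¹ * ((Finset.univ.filter (fun h : H => θ₁ = cjD P h θ₂)).card : ℝ), by positivity, ?_⟩
  rw [JJ_eq_card]
  push_cast
  rfl

/-- Cardinality of the fibres. -/
theorem card_filter_cjD {θ : A →* ℂˣ} (hfree : ∀ h : H, cjD P h θ = θ → (h : G) ∈ A) (h₀ : H) [DecidableEq (A →* ℂˣ)] :
    (Finset.univ.filter (fun h : H => cjD P h₀ θ = cjD P h θ)).card = Nat.card A := by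
  classical
  rw [← Fintype.card_subtype, ← Nat.card_eq_fintype_card]
  symm
  apply Nat.card_congr
  refine Equiv.ofBijective (fun a : A => ⟨h₀ * ⟨a, P.le a.2⟩, ?_⟩) ⟨?_, ?_⟩
  · rw [cjD_mul, cjD_of_mem P ⟨a, P.le a.2⟩ a.2]
  · intro a b hab
    have h1 : h₀ * (⟨a, P.le a.2⟩ : H) = h₀ * ⟨b, P.le b.2⟩ := congrArg Subtype.val hab
    have h2 := mul_left_cancel h1
    exact Subtype.ext (congrArg (fun x : H => (x : G)) h2)
  · rintro ⟨h, hh⟩
    have h1 : cjD P (h₀⁻¹ * h) θ = θ := by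
      rw [cjD_mul, ← hh, ← cjD_mul, inv_mul_cancel, cjD_one]
    have h2 := hfree _ h1
    refine ⟨⟨_, h2⟩, ?_⟩
    apply Subtype.ext
    apply Subtype.ext
    show (h₀ : G) * ((h₀⁻¹ * h : H) : G) = h
    push_cast
    group

theorem JJ_eq_one {θ : A →* ℂˣ} (hfree : ∀ h : H, cjD P h θ = θ → (h : G) ∈ A) (h₀ : H) :
    JJ P (cjD P h₀ θ) θ = 1 := by
  classical
  rw [JJ_eq_card, card_filter_cjD P hfree h₀]
  have : (Nat.card A : ℂ) ≠ 0 := by exact_mod_cast Nat.card_pos.ne'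
  field_simp

theorem JJ_self_of_free {θ : A →* ℂˣ} (hfree : ∀ h : H, cjD P h θ = θ → (h : G) ∈ A) :
    JJ P θ θ = 1 := by
  have := JJ_eq_one P hfree 1
  rwa [cjD_one] at this

/-- `JJ θ θ ≥ 1`. -/
theorem JJ_self_ge (θ : A →* ℂˣ) : ∃ r : ℝ, 1 ≤ r ∧ JJ P θ θ = (r : ℂ) := by
  classical
  refine ⟨(Nat.card A : ℝ)⁻¹ * ((Finset.univ.filter (fun h : H => θ = cjD P h θ)).card : ℝ), ?_, ?_⟩
  · have hpos : (0 : ℝ) < (Nat.card A : ℝ) := by exact_mod_cast Nat.card_pos
    have hle : Nat.card A ≤ (Finset.univ.filter (fun h : H => θ = cjD P h θ)).card := by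
      rw [← Fintype.card_subtype, ← Nat.card_eq_fintype_card]
      apply Nat.card_le_card_of_injective (fun a : A => (⟨⟨a, P.le a.2⟩, (cjD_of_mem P _ a.2 θ).symm⟩ :
        {h : H // θ = cjD P h θ}))
      intro a b hab
      have h1 : ((⟨a, P.le a.2⟩ : H)) = ⟨b, P.le b.2⟩ := congrArg Subtype.val hab
      exact Subtype.ext (congrArg (fun x : H => (x : G)) h1)
    have hle' : (Nat.card A : ℝ) ≤ ((Finset.univ.filter (fun h : H => θ = cjD P h θ)).card : ℝ) := by
      exact_mod_cast hle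
    rw [inv_mul_eq_div, le_div_iff₀ hpos]
    linarith
  · rw [JJ_eq_card]
    push_cast
    rfl

omit [Fintype A] [Fintype H] in
/-- Conjugate characters induce the same function. -/
theorem ind_cjD (h : H) (θ : A →* ℂˣ) : indFun A (lc (cjD P h θ)) = indFun A (lc θ) := by
  funext g
  simp only [indFun_apply]
  congr 1
  have h1 : ∀ y : G, extendByZero A (lc (cjD P h θ)) y = extendByZero A (lc θ) ((h : G)⁻¹ * y * h) := by
    intro y
    by_cases hy : y ∈ A
    · rw [extendByZero_of_mem A _ hy, extendByZero_of_mem A _ (P.conj_mem h h.2 y hy)]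
      rfl
    · rw [extendByZero_of_notMem A _ hy, extendByZero_of_notMem A]
      intro hmem
      apply hy
      have := P.conj_mem h⁻¹ (H.inv_mem h.2) _ hmem
      have e : (h : G)⁻¹⁻¹ * ((h : G)⁻¹ * y * h) * (h : G)⁻¹ = y := by
        group
      rwa [e] at this
  simp only [h1]
  refine Fintype.sum_equiv (Equiv.mulRight (h : G)) _ _ fun x => ?_
  congr 1
  simp only [Equiv.coe_mulRight]
  group

omit [Fintype A] [Fintype H] in
/-- Conjugation of functions. -/
theorem ind_conj (ψ : A → ℂ) : indFun A (fun a => conj (ψ a)) = fun g => conj (indFun A ψ g) := by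
  funext g
  simp only [indFun_apply, map_mul, map_inv₀, map_natCast, map_sum]
  congr 1
  refine Finset.sum_congr rfl fun x _ => ?_
  by_cases hy : x⁻¹ * g * x ∈ A
  · rw [extendByZero_of_mem A _ hy, extendByZero_of_mem A _ hy]
  · rw [extendByZero_of_notMem A _ hy, extendByZero_of_notMem A _ hy, map_zero]

omit [Fintype H] in
theorem ind_inv (θ : A →* ℂˣ) : indFun A (lc θ⁻¹) = fun g => conj (indFun A (lc θ) g) := by
  rw [lc_inv_fun, ind_conj]

omit [Fintype G] [Fintype A] [Fintype H] in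
/-- A general fibre count. -/
theorem card_eq_mul_image {Γ X : Type*} [Group Γ] [Fintype Γ] [DecidableEq X] (n : ℕ) (f : Γ → X)
    (hf : ∀ h₀ : Γ, (Finset.univ.filter (fun h => f h = f h₀)).card = n) :
    Fintype.card Γ = n * (Finset.univ.image f).card := by
  rw [← Finset.card_univ, Finset.card_eq_sum_card_image f Finset.univ]
  rw [Finset.sum_congr rfl (g := fun _ => n)]
  · rw [Finset.sum_const, smul_eq_mul, mul_comm]
  · intro b hb
    obtain ⟨h₀, -, rfl⟩ := Finset.mem_image.mp hb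
    exact hf h₀

end Cfsg.Agent.Lib.TwoFusion.AbC
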