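import Mathlib
import Cfsg.Agent.Lib.TwoFusion.AbTI1

/-!
# The T.I. case: the number of square roots as an induced character
-/

set_option autoImplicit false
set_option linter.unusedSectionVars false

namespace Cfsg.Agent.Lib.TwoFusion.AbC

open Cfsg Cfsg.Agent.Lib.Char Subgroup
open scoped ComplexConjugate

universe u

variable {G : Type u} [Group G]

/-- The hypotheses of the T.I. case. -/
structure TIData (G : Type u) [Group G] (t₀ : G) : Prop where
  good : AbGood G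
  ht₀ : orderOf t₀ = 2
  gen : closure {t : G | orderOf t = 2} = ⊤
  ti : ∀ t u b : G, orderOf t = 2 → orderOf u = 2 → ¬ Commute t u → Commute b t → Commute b u → b = 1

/-- The centralizer of the base involution. -/
abbrev AAA (t₀ : G) : Subgroup G := centralizer ({t₀} : Set G)

variable {t₀ : G} (D : TIData G t₀)

/-- The class stabilizer of the base involution. -/
abbrev HHH : Subgroup G := stabPt D.good.ab D.ht₀

theorem mem_AAA {x : G} : x ∈ AAA t₀ ↔ Commute x t₀ :=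
  mem_centralizer_singleton_iff

theorem TIData.pair : TIPair (AAA t₀) (HHH D) where
  comm := fun a b => (D.good.ab t₀ D.ht₀).is_comm.comm a b
  le := by
    intro a ha
    have h := mem_AAA.mp ha
    show Commute (a * t₀ * a⁻¹) t₀
    have e : a * t₀ * a⁻¹ = t₀ := by
      calc a * t₀ * a⁻¹ = t₀ * a * a⁻¹ := by rw [h.eq]
        _ = t₀ := by group
    rw [e]
  conj_mem := by
    intro h hh a ha
    have h1 : h⁻¹ ∈ HHH D := inv_mem hh
    have h2 : Commute (h⁻¹ * t₀ * h⁻¹⁻¹) t₀ := h1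
    have := conj_comm_of_stab D.good.ab D.ht₀ h2 (mem_AAA.mp ha)
    rw [inv_inv] at this
    exact mem_AAA.mpr this
  ti := by
    intro x a ha hx ha1
    by_contra hxH
    have hxH' : ¬ Commute (x * t₀ * x⁻¹) t₀ := hxH
    apply ha1
    refine D.ti t₀ (x * t₀ * x⁻¹) a D.ht₀ (by rw [order_conj, D.ht₀]) (fun h => hxH' h.symm) (mem_AAA.mp ha) ?_
    have h1 := conj_comm (mem_AAA.mp hx) x
    have e : x * (x⁻¹ * a * x) * x⁻¹ = a := by group
    rwa [e] at h1

/-- `H/A` has no involutions. -/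
theorem mem_AAA_of_sq {h : G} (hh : h ∈ HHH D) (h2 : h * h ∈ AAA t₀) : h ∈ AAA t₀ := by
  have hA := D.good.ab
  have ht := D.ht₀
  have hc : Commute (h * t₀ * h⁻¹) t₀ := hh
  have h3 : Commute (h * h) t₀ := mem_AAA.mp h2
  have hback : h * (h * t₀ * h⁻¹) * h⁻¹ = t₀ := by
    calc h * (h * t₀ * h⁻¹) * h⁻¹ = (h * h) * t₀ * (h * h)⁻¹ := by group
      _ = t₀ * (h * h) * (h * h)⁻¹ := by rw [h3.eq]
      _ = t₀ := by group
  apply mem_AAA.mpr
  by_cases hne : h * t₀ * h⁻¹ = t₀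
  · show h * t₀ = t₀ * h
    calc h * t₀ = h * t₀ * h⁻¹ * h := by group
      _ = t₀ * h := by rw [hne]
  · have ho : orderOf (h * t₀ * h⁻¹) = 2 := by rw [order_conj, ht]
    have hz := order_mul_of_comm ho ht hne hc
    have h4 : Commute h (h * t₀ * h⁻¹ * t₀) := by
      show h * (h * t₀ * h⁻¹ * t₀) = h * t₀ * h⁻¹ * t₀ * h
      have e1 : h * (h * t₀ * h⁻¹ * t₀) * h⁻¹ = (h * (h * t₀ * h⁻¹) * h⁻¹) * (h * t₀ * h⁻¹) := by group
      rw [hback] at e1
      have e2 : h * (h * t₀ * h⁻¹ * t₀) * h⁻¹ = h * t₀ * h⁻¹ * t₀ := by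
        rw [e1]
        exact hc.symm.eq
      calc h * (h * t₀ * h⁻¹ * t₀) = h * (h * t₀ * h⁻¹ * t₀) * h⁻¹ * h := by group
        _ = _ := by rw [e2]
    have h5 : Commute t₀ (h * t₀ * h⁻¹ * t₀) := (hc.symm.mul_right (Commute.refl t₀))
    exact hA.comm hz h4 h5

/-- Powers of `2` into `A` descend. -/
theorem mem_AAA_of_pow {h : G} (hh : h ∈ HHH D) (r : ℕ) (h2 : h ^ (2 ^ r) ∈ AAA t₀) : h ∈ AAA t₀ := by
  induction r with
  | zero => simpa using h2
  | succ r ih =>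
    apply ih
    apply mem_AAA_of_sq D (pow_mem hh _)
    rw [← pow_add, ← two_mul, ← pow_succ']
    exact h2

/-- Elements of `H` have an odd power in `A`. -/
theorem exists_odd_pow_mem [Finite G] {h : G} (hh : h ∈ HHH D) : ∃ n : ℕ, Odd n ∧ h ^ n ∈ AAA t₀ := by
  obtain ⟨r, m, hm, e⟩ := Nat.exists_eq_two_pow_mul_odd (orderOf_pos h).ne'
  refine ⟨m, hm, mem_AAA_of_pow D (pow_mem hh _) r ?_⟩
  rw [← pow_mul, mul_comm, ← e, pow_orderOf_eq_one]
  exact one_mem _

section Dual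

variable [Fintype G] [Fintype (AAA t₀)] [Fintype (HHH D)]

/-- `2`-elements of `A`. -/
def Is2 (s : AAA t₀) : Prop := ∃ k : ℕ, s ^ (2 ^ k) = 1

/-- Characters nontrivial on the `2`-elements. -/
def Fam (θ : AAA t₀ →* ℂˣ) : Prop := ∃ s : AAA t₀, Is2 s ∧ θ s ≠ 1

include D in
theorem Is2.mul {s s' : AAA t₀} (h : Is2 s) (h' : Is2 s') : Is2 (s * s') := by
  obtain ⟨k, hk⟩ := h
  obtain ⟨k', hk'⟩ := h'
  have hc : Commute s s' := (D.pair).comm s s'
  refine ⟨k + k', ?_⟩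
  have e1 : s ^ (2 ^ (k + k')) = 1 := by rw [pow_add, pow_mul, hk, one_pow]
  have e2 : s' ^ (2 ^ (k + k')) = 1 := by rw [add_comm, pow_add, pow_mul, hk', one_pow]
  rw [hc.mul_pow, e1, e2, one_mul]

theorem Is2.inv {s : AAA t₀} (h : Is2 s) : Is2 s⁻¹ := by
  obtain ⟨k, hk⟩ := h
  exact ⟨k, by rw [inv_pow, hk, inv_one]⟩

theorem Is2.cj {s : AAA t₀} (h : Is2 s) (x : HHH D) : Is2 (cjHom D.pair x s) := by
  obtain ⟨k, hk⟩ := h
  exact ⟨k, by rw [← map_pow, hk, map_one]⟩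

/-- An element of `H` fixing a nontrivial `2`-element lies in `A`. -/
theorem mem_of_fix_is2 {s : AAA t₀} (h : Is2 s) (hs : s ≠ 1) (x : HHH D)
    (hx : cjHom D.pair x s = s) : (x : G) ∈ AAA t₀ := by
  have hA := D.good.ab
  obtain ⟨k, hk⟩ := h
  have hcoe : (s : G) ^ (2 ^ k) = 1 := by
    have := congrArg Subtype.val hk
    simpa using this
  have hnotodd : ¬ Odd (orderOf (s : G)) := by
    intro hodd
    have h1 : orderOf (s : G) ∣ 2 ^ k := orderOf_dvd_of_pow_eq_one hcoe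
    have h2 : Nat.Coprime (orderOf (s : G)) (2 ^ k) := (Nat.Coprime.pow_right k (Nat.coprime_two_right.mpr hodd))
    have h3 : orderOf (s : G) = 1 := Nat.Coprime.eq_one_of_dvd h2 h1
    exact hs (Subtype.ext (orderOf_eq_one_iff.mp h3))
  obtain ⟨j, hj⟩ := exists_pow_order_two hnotodd
  have hxs : Commute (x : G)⁻¹ (s : G) := by
    have h1 : (x : G)⁻¹ * s * x = s := congrArg Subtype.val hx
    show (x : G)⁻¹ * s = s * (x : G)⁻¹
    calc (x : G)⁻¹ * s = (x : G)⁻¹ * s * x * (x : G)⁻¹ := by group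
      _ = s * (x : G)⁻¹ := by rw [h1]
  have hxz : Commute (x : G) ((s : G) ^ j) := (hxs.inv_left.pow_right j).symm.symm |> fun h => by simpa using h
  have htz : Commute t₀ ((s : G) ^ j) := ((mem_AAA.mp s.2).symm.pow_right j)
  exact mem_AAA.mpr (hA.comm hj hxz htz)

/-- The free action on `Fam`. -/
theorem free_of_fam {θ : AAA t₀ →* ℂˣ} (hθ : Fam (t₀ := t₀) θ) (x : HHH D) (hx : cjD D.pair x θ = θ) :
    (x : G) ∈ AAA t₀ := by
  by_contra hxA
  obtain ⟨s₀, hs₀, hθs₀⟩ := hθ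
  let S := {s : AAA t₀ // Is2 s}
  let φ : S → S := fun s => ⟨s.1⁻¹ * cjHom D.pair x s.1, (Is2.mul D (Is2.inv s.2) (Is2.cj D s.2 x))⟩
  have hinj : Function.Injective φ := by
    intro a b hab
    have h1 : a.1⁻¹ * cjHom D.pair x a.1 = b.1⁻¹ * cjHom D.pair x b.1 := congrArg Subtype.val hab
    set w := a.1 * b.1⁻¹ with hw
    have hwfix : cjHom D.pair x w = w := by
      rw [hw, map_mul, map_inv]
      have h2 := (D.pair).comm
      have h3 : cjHom D.pair x a.1 = a.1 * (a.1⁻¹ * cjHom D.pair x a.1) := by group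
      have h4 : cjHom D.pair x b.1 = b.1 * (b.1⁻¹ * cjHom D.pair x b.1) := by group
      rw [h3, h4, h1]
      rw [mul_inv_rev]
      group
    by_contra hne
    have hw1 : w ≠ 1 := by
      intro h
      apply hne
      apply Subtype.ext
      rw [hw, mul_inv_eq_one] at h
      exact h
    exact hxA (mem_of_fix_is2 D (Is2.mul D a.2 (Is2.inv b.2)) hw1 x hwfix)
  have hsurj : Function.Surjective φ := Finite.injective_iff_surjective.mp hinj
  obtain ⟨s₁, hs₁⟩ := hsurj ⟨s₀, hs₀⟩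
  have h1 : s₁.1⁻¹ * cjHom D.pair x s₁.1 = s₀ := congrArg Subtype.val hs₁
  apply hθs₀
  rw [← h1, map_mul, map_inv]
  have h2 : θ (cjHom D.pair x s₁.1) = θ s₁.1 := by
    have := congrArg (fun ψ : AAA t₀ →* ℂˣ => ψ s₁.1) hx
    simpa [cjD_apply] using this
  rw [h2, inv_mul_cancel]

/-- Real nontrivial characters are in the family. -/
theorem fam_of_real {θ : AAA t₀ →* ℂˣ} (h2 : θ * θ = 1) (h1 : θ ≠ 1) : Fam (t₀ := t₀) θ := by
  obtain ⟨a, ha⟩ : ∃ a, θ a ≠ 1 := by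
    by_contra hcon
    push Not at hcon
    apply h1
    ext a
    simp [hcon a]
  obtain ⟨r, m, hm, e⟩ := Nat.exists_eq_two_pow_mul_odd (orderOf_pos a).ne'
  refine ⟨a ^ m, ⟨r, ?_⟩, ?_⟩
  · rw [← pow_mul, mul_comm, ← e, pow_orderOf_eq_one]
  · rw [map_pow]
    obtain ⟨n, hn⟩ := hm
    have h3 : θ a * θ a = 1 := by
      have := congrArg (fun ψ : AAA t₀ →* ℂˣ => ψ a) h2
      simpa using this
    rw [hn, pow_succ, pow_mul, pow_two, h3, one_pow, one_mul]
    exact ha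

theorem cjD_eq_self_of_not_fam {μ : AAA t₀ →* ℂˣ} (h : ¬ Fam (t₀ := t₀) μ) (x : HHH D) :
    ¬ Fam (t₀ := t₀) (cjD D.pair x μ) := by
  rintro ⟨s, hs, hμ⟩
  exact h ⟨_, Is2.cj D hs x, hμ⟩

/-- A general count of fibres. -/
theorem card_filter_of_iff {Γ X : Type*} [Group Γ] [Fintype Γ] [DecidableEq X] (K : Subgroup Γ)
    (f : Γ → X) (hf : ∀ h₀ h, f h = f h₀ ↔ h₀⁻¹ * h ∈ K) (h₀ : Γ) :
    (Finset.univ.filter (fun h => f h = f h₀)).card = Nat.card K := by
  classical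
  rw [← Fintype.card_subtype, ← Nat.card_eq_fintype_card]
  symm
  apply Nat.card_congr
  refine Equiv.ofBijective (fun a : K => ⟨h₀ * a, ?_⟩) ⟨?_, ?_⟩
  · rw [hf]
    simp
  · intro a b hab
    have h1 : h₀ * (a : Γ) = h₀ * b := congrArg Subtype.val hab
    exact Subtype.ext (mul_left_cancel h1)
  · rintro ⟨h, hh⟩
    refine ⟨⟨_, (hf h₀ h).mp hh⟩, ?_⟩
    apply Subtype.ext
    show h₀ * (h₀⁻¹ * h) = h
    group

/-- The base involution is conjugate to each involution of `A` under `H`. -/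
theorem exists_conj_H {x : G} (hx : orderOf x = 2) (hxA : x ∈ AAA t₀) : ∃ h ∈ HHH D, h * t₀ * h⁻¹ = x := by
  have hSE := D.good.stronglyEmbedded D.ht₀
  obtain ⟨u, hu, htu⟩ := D.good.exists_not_comm D.ht₀
  have huH : u ∉ HHH D := fun h => htu ((mem_stabPt_of_order hu).mp h).symm
  obtain ⟨d, hd, -, -, hd4⟩ := Cfsg.Agent.Lib.TwoFusion.exists_conj_inverted hSE hu huH D.ht₀
    ((mem_stabPt_of_order D.ht₀).mpr (Commute.refl t₀)) hx ((mem_stabPt_of_order hx).mpr (mem_AAA.mp hxA))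
  exact ⟨d, hd, hd4⟩

theorem card_subgroupOf_AAA : Nat.card ((AAA t₀).subgroupOf (HHH D)) = Nat.card (AAA t₀) :=
  Nat.card_congr (Subgroup.subgroupOfEquivOfLe (D.pair).le).toEquiv

variable [DecidableEq (AAA t₀)]

/-- `|H| = |A| (q - 1)`, with `q` the number of solutions of `x² = 1` in `A`. -/
theorem card_HHH : Fintype.card (HHH D) =
    Nat.card (AAA t₀) * ((Finset.univ.filter (fun x : AAA t₀ => x * x = 1)).erase 1).card := by
  classical
  let f : HHH D → AAA t₀ := fun h => ⟨(h : G) * t₀ * (h : G)⁻¹, mem_AAA.mpr h.2⟩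
  have hf : ∀ h₀ h : HHH D, f h = f h₀ ↔ h₀⁻¹ * h ∈ (AAA t₀).subgroupOf (HHH D) := by
    intro h₀ h
    rw [Subgroup.mem_subgroupOf, mem_AAA]
    constructor
    · intro e
      have e1 : (h : G) * t₀ * (h : G)⁻¹ = (h₀ : G) * t₀ * (h₀ : G)⁻¹ := congrArg Subtype.val e
      show ((h₀ : G)⁻¹ * h) * t₀ = t₀ * ((h₀ : G)⁻¹ * h)
      calc ((h₀ : G)⁻¹ * h) * t₀ = (h₀ : G)⁻¹ * ((h : G) * t₀ * (h : G)⁻¹) * h := by group
        _ = (h₀ : G)⁻¹ * ((h₀ : G) * t₀ * (h₀ : G)⁻¹) * h := by rw [e1]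
        _ = t₀ * ((h₀ : G)⁻¹ * h) := by group
    · intro e
      apply Subtype.ext
      have e2 : ((h₀ : G)⁻¹ * h) * t₀ = t₀ * ((h₀ : G)⁻¹ * h) := e
      show (h : G) * t₀ * (h : G)⁻¹ = (h₀ : G) * t₀ * (h₀ : G)⁻¹
      calc (h : G) * t₀ * (h : G)⁻¹ = (h₀ : G) * (((h₀ : G)⁻¹ * h) * t₀) * (h : G)⁻¹ := by group
        _ = (h₀ : G) * (t₀ * ((h₀ : G)⁻¹ * h)) * (h : G)⁻¹ := by rw [e2]
        _ = _ := by group
  have h1 := card_eq_mul_image (Nat.card (AAA t₀)) f (fun h₀ => by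
    rw [card_filter_of_iff _ f hf h₀, card_subgroupOf_AAA])
  rw [h1]
  congr 2
  ext x
  simp only [Finset.mem_image, Finset.mem_univ, true_and, Finset.mem_erase, Finset.mem_filter]
  constructor
  · rintro ⟨h, rfl⟩
    constructor
    · intro h1
      have h2 : (h : G) * t₀ * (h : G)⁻¹ = 1 := congrArg Subtype.val h1
      have h3 : t₀ = 1 := by
        have : t₀ = (h : G)⁻¹ * ((h : G) * t₀ * (h : G)⁻¹) * h := by group
        rw [this, h2]
        group
      exact ne_one_of_order D.ht₀ h3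
    · apply Subtype.ext
      show ((h : G) * t₀ * (h : G)⁻¹) * ((h : G) * t₀ * (h : G)⁻¹) = 1
      have := inv_mul_self_of_order D.ht₀
      calc ((h : G) * t₀ * (h : G)⁻¹) * ((h : G) * t₀ * (h : G)⁻¹) = (h : G) * (t₀ * t₀) * (h : G)⁻¹ := by group
        _ = 1 := by rw [this]; group
  · rintro ⟨hx1, hx2⟩
    have hxo : orderOf (x : G) = 2 := order_of_sq (congrArg Subtype.val hx2) (fun h => hx1 (Subtype.ext h))
    obtain ⟨h, hh, e⟩ := exists_conj_H D hxo x.2
    exact ⟨⟨h, hh⟩, Subtype.ext e⟩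

variable [Fintype (AAA t₀ →* ℂˣ)] [DecidableEq (AAA t₀ →* ℂˣ)]

include D in
/-- The number of real characters of `A`. -/
theorem card_real_dual : (Finset.univ.filter (fun θ : AAA t₀ →* ℂˣ => θ * θ = 1)).card =
    (Finset.univ.filter (fun x : AAA t₀ => x * x = 1)).card := by
  have h := sqrtCount_eq_sum_dual (D.pair).comm (1 : AAA t₀)
  have h1 : sqrtCount (1 : AAA t₀) = ((Finset.univ.filter (fun x : AAA t₀ => x * x = 1)).card : ℂ) := by
    unfold sqrtCount
    rw [Nat.card_eq_fintype_card, Fintype.card_subtype]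
  rw [h1] at h
  simp only [lc_map_one] at h
  rw [Finset.sum_boole] at h
  exact_mod_cast h.symm

/-- The orbit of a real nontrivial character is the set of all of them. -/
theorem image_cjD {ξ : AAA t₀ →* ℂˣ} (h2 : ξ * ξ = 1) (h1 : ξ ≠ 1) :
    Finset.univ.image (fun h : HHH D => cjD D.pair h ξ) =
      (Finset.univ.filter (fun θ : AAA t₀ →* ℂˣ => θ * θ = 1)).erase 1 := by
  classical
  have hfree := free_of_fam D (fam_of_real h2 h1)
  have hf : ∀ h₀ h : HHH D, (fun h : HHH D => cjD D.pair h ξ) h = (fun h : HHH D => cjD D.pair h ξ) h₀ ↔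
      h₀⁻¹ * h ∈ (AAA t₀).subgroupOf (HHH D) := by
    intro h₀ h
    rw [Subgroup.mem_subgroupOf]
    constructor
    · intro e
      apply hfree
      simp only at e
      rw [cjD_mul, e, ← cjD_mul, inv_mul_cancel, cjD_one]
    · intro e
      have h3 := cjD_of_mem D.pair (h₀⁻¹ * h) e ξ
      simp only
      calc cjD D.pair h ξ = cjD D.pair (h₀ * (h₀⁻¹ * h)) ξ := by group
        _ = cjD D.pair h₀ ξ := by rw [cjD_mul, h3]
  have hc := card_eq_mul_image (Nat.card (AAA t₀)) (fun h : HHH D => cjD D.pair h ξ) (fun h₀ => by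
    rw [card_filter_of_iff _ _ hf h₀, card_subgroupOf_AAA])
  have hH := card_HHH D
  have hpos : 0 < Nat.card (AAA t₀) := Nat.card_pos
  have h3 : (Finset.univ.image (fun h : HHH D => cjD D.pair h ξ)).card =
      ((Finset.univ.filter (fun x : AAA t₀ => x * x = 1)).erase 1).card := by
    apply Nat.eq_of_mul_eq_mul_left hpos
    rw [← hc, hH]
  apply Finset.eq_of_subset_of_card_le
  · intro θ hθ
    obtain ⟨h, -, rfl⟩ := Finset.mem_image.mp hθ
    simp only [Finset.mem_erase, Finset.mem_filter, Finset.mem_univ, true_and]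
    constructor
    · intro h4
      apply h1
      have h5 : cjD D.pair h⁻¹ (cjD D.pair h ξ) = ξ := by
        rw [← cjD_mul, inv_mul_cancel, cjD_one]
      rw [h4] at h5
      rw [← h5]
      ext a
      simp [cjD_apply]
    · rw [← cjD_mul_hom, h2]
      ext a
      simp [cjD_apply]
  · rw [h3]
    have e1 : (1 : AAA t₀) ∈ Finset.univ.filter (fun x : AAA t₀ => x * x = 1) := by simp
    have e2 : (1 : AAA t₀ →* ℂˣ) ∈ Finset.univ.filter (fun θ : AAA t₀ →* ℂˣ => θ * θ = 1) := by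
      rw [Finset.mem_filter]
      refine ⟨Finset.mem_univ _, ?_⟩
      ext a
      simp
    rw [Finset.card_erase_of_mem e1, Finset.card_erase_of_mem e2, card_real_dual D]

/-- Sum over `H` of a function of the conjugates of `ξ`. -/
theorem sum_cjD {ξ : AAA t₀ →* ℂˣ} (h2 : ξ * ξ = 1) (h1 : ξ ≠ 1) (F : (AAA t₀ →* ℂˣ) → ℂ) :
    ∑ h : HHH D, F (cjD D.pair h ξ) = (Nat.card (AAA t₀) : ℂ) *
      ∑ θ ∈ (Finset.univ.filter (fun θ : AAA t₀ →* ℂˣ => θ * θ = 1)).erase 1, F θ := by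
  classical
  have hfree := free_of_fam D (fam_of_real h2 h1)
  rw [Finset.sum_comp F (fun h : HHH D => cjD D.pair h ξ), image_cjD D h2 h1, Finset.mul_sum]
  refine Finset.sum_congr rfl fun θ hθ => ?_
  rw [← image_cjD D h2 h1] at hθ
  obtain ⟨h₀, -, rfl⟩ := Finset.mem_image.mp hθ
  have h3 : (Finset.univ.filter (fun h : HHH D => cjD D.pair h ξ = cjD D.pair h₀ ξ)).card = Nat.card (AAA t₀) := by
    have := card_filter_cjD D.pair hfree h₀
    rw [← this]
    congr 1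
    ext h
    simp only [Finset.mem_filter, Finset.mem_univ, true_and]
    exact eq_comm
  rw [h3, nsmul_eq_mul]

end Dual

end Cfsg.Agent.Lib.TwoFusion.AbC
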