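import Mathlib
import Cfsg.Agent.Lib.TwoFusion.AbTI2

/-!
# The T.I. case: `#√g - 1` is induced from a real linear character of `A`
-/

set_option autoImplicit false
set_option linter.unusedSectionVars false

namespace Cfsg.Agent.Lib.TwoFusion.AbC

open Cfsg Cfsg.Agent.Lib.Char Subgroup
open scoped ComplexConjugate

universe u

variable {G : Type u} [Group G] {t₀ : G} (D : TIData G t₀)
variable [Fintype G] [Fintype (AAA t₀)] [Fintype (HHH D)]

include D in
/-- Square roots of nontrivial elements of `A` lie in `A`. -/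
theorem sqrtCount_G_eq_A (a : AAA t₀) (ha : a ≠ 1) : sqrtCount (a : G) = sqrtCount a := by
  unfold sqrtCount
  congr 1
  symm
  apply Nat.card_congr
  refine Equiv.ofBijective (fun x : {x : AAA t₀ // x * x = a} => ⟨(x.1 : G), congrArg Subtype.val x.2⟩) ⟨?_, ?_⟩
  · intro x y h
    apply Subtype.ext
    apply Subtype.ext
    exact congrArg (fun z : {u : G // u * u = (a : G)} => (z : G)) h
  · rintro ⟨u, hu⟩
    have h1 : u⁻¹ * a * u = a := by
      rw [← hu]
      group
    have h2 : u ∈ HHH D := (D.pair).ti u a a.2 (by rw [h1]; exact a.2) (fun h => ha (Subtype.ext h))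
    have h3 : u * u ∈ AAA t₀ := by rw [hu]; exact a.2
    have h4 := mem_AAA_of_sq D h2 h3
    exact ⟨⟨⟨u, h4⟩, Subtype.ext hu⟩, Subtype.ext rfl⟩

include D in
/-- An element not conjugate into `A` has a unique square root. -/
theorem sqrtCount_eq_one {g : G} (hg : ∀ x : G, x⁻¹ * g * x ∉ AAA t₀) : sqrtCount g = 1 := by
  have hnoinv : ∀ t : G, orderOf t = 2 → ¬ Commute g t := by
    intro t ht hc
    obtain ⟨x, hx⟩ := isConj_iff.mp (D.good.isConj D.ht₀ ht)
    apply hg x
    apply mem_AAA.mpr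
    have h1 := conj_comm hc x⁻¹
    have e : x⁻¹ * t * x⁻¹⁻¹ = t₀ := by
      rw [← hx]
      group
    rw [e] at h1
    have e2 : x⁻¹ * g * x⁻¹⁻¹ = x⁻¹ * g * x := by group
    rwa [e2] at h1
  have hodd : ∀ y : G, Commute y g → Odd (orderOf y) := by
    intro y hy
    by_contra h
    obtain ⟨k, hk⟩ := exists_pow_order_two h
    exact hnoinv _ hk (hy.pow_left k).symm
  unfold sqrtCount
  have : Nat.card {u : G // u * u = g} = 1 := by
    rw [Nat.card_eq_one_iff_unique]
    constructor
    · constructor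
      rintro ⟨u, hu⟩ ⟨v, hv⟩
      apply Subtype.ext
      have hcu : Commute u g := by
        rw [← hu]
        exact (Commute.refl u).mul_right (Commute.refl u)
      have hcv : Commute v g := by
        rw [← hv]
        exact (Commute.refl v).mul_right (Commute.refl v)
      have hform : ∀ w : G, w * w = g → Commute w g → ∃ n : ℕ, w = g ^ n := by
        intro w hw hcw
        obtain ⟨m, hm⟩ := hodd w hcw
        refine ⟨m + 1, ?_⟩
        rw [← hw, ← pow_two, ← pow_mul]
        have e1 : 2 * (m + 1) = orderOf w + 1 := by omega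
        rw [e1, pow_succ, pow_orderOf_eq_one, one_mul]
      obtain ⟨n, hn⟩ := hform u hu hcu
      obtain ⟨n', hn'⟩ := hform v hv hcv
      have huv : Commute u v := by
        rw [hn, hn']
        exact Commute.pow_pow (Commute.refl g) n n'
      have h1 : (u * v⁻¹) * (u * v⁻¹) = 1 := by
        calc (u * v⁻¹) * (u * v⁻¹) = (u * u) * (v * v)⁻¹ := by
              rw [mul_inv_rev]
              have := huv.inv_right.eq
              calc u * v⁻¹ * (u * v⁻¹) = u * (v⁻¹ * u) * v⁻¹ := by group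
                _ = u * (u * v⁻¹) * v⁻¹ := by rw [this]
                _ = _ := by group
          _ = 1 := by rw [hu, hv]; group
      have h2 : Commute (u * v⁻¹) g := hcu.mul_left hcv.inv_left
      have h3 := eq_one_of_odd_of_mul_self (hodd _ h2) h1
      exact mul_inv_eq_one.mp h3
    · obtain ⟨k, hk⟩ := exists_sq_root_of_odd (hodd g (Commute.refl g))
      exact ⟨⟨g ^ k, hk⟩⟩
  rw [this]
  simp

include D in
/-- The number of involutions is the index of `A`. -/
theorem sqrtCount_one : sqrtCount (1 : G) = 1 + ((AAA t₀).index : ℂ) := by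
  classical
  let f : G → G := fun x => x * t₀ * x⁻¹
  have hf : ∀ x₀ x : G, f x = f x₀ ↔ x₀⁻¹ * x ∈ AAA t₀ := by
    intro x₀ x
    rw [mem_AAA]
    constructor
    · intro e
      have e1 : x * t₀ * x⁻¹ = x₀ * t₀ * x₀⁻¹ := e
      show (x₀⁻¹ * x) * t₀ = t₀ * (x₀⁻¹ * x)
      calc (x₀⁻¹ * x) * t₀ = x₀⁻¹ * (x * t₀ * x⁻¹) * x := by group
        _ = x₀⁻¹ * (x₀ * t₀ * x₀⁻¹) * x := by rw [e1]
        _ = t₀ * (x₀⁻¹ * x) := by group
    · intro e
      have e2 : (x₀⁻¹ * x) * t₀ = t₀ * (x₀⁻¹ * x) := e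
      show x * t₀ * x⁻¹ = x₀ * t₀ * x₀⁻¹
      calc x * t₀ * x⁻¹ = x₀ * ((x₀⁻¹ * x) * t₀) * x⁻¹ := by group
        _ = x₀ * (t₀ * (x₀⁻¹ * x)) * x⁻¹ := by rw [e2]
        _ = _ := by group
  have h1 := card_eq_mul_image (Nat.card (AAA t₀)) f (fun h₀ => card_filter_of_iff _ f hf h₀)
  have h2 : Finset.univ.image f = (Finset.univ.filter (fun u : G => u * u = 1)).erase 1 := by
    ext u
    simp only [Finset.mem_image, Finset.mem_univ, true_and, Finset.mem_erase, Finset.mem_filter]
    constructor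
    · rintro ⟨x, rfl⟩
      have hne := ne_one_of_order D.ht₀
      have htt := inv_mul_self_of_order D.ht₀
      constructor
      · intro h
        apply hne
        have : t₀ = x⁻¹ * (x * t₀ * x⁻¹) * x := by group
        rw [this]
        show x⁻¹ * (f x) * x = 1
        rw [h]
        group
      · show (x * t₀ * x⁻¹) * (x * t₀ * x⁻¹) = 1
        calc (x * t₀ * x⁻¹) * (x * t₀ * x⁻¹) = x * (t₀ * t₀) * x⁻¹ := by group
          _ = 1 := by rw [htt]; group
    · rintro ⟨h1, h2⟩
      obtain ⟨x, hx⟩ := isConj_iff.mp (D.good.isConj D.ht₀ (order_of_sq h2 h1))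
      exact ⟨x, hx⟩
  have h3 : (Finset.univ.filter (fun u : G => u * u = 1)).card = 1 + (AAA t₀).index := by
    have hmem : (1 : G) ∈ Finset.univ.filter (fun u : G => u * u = 1) := by simp
    have h4 := Finset.card_erase_add_one hmem
    rw [← h2] at h4
    have h5 : Nat.card (AAA t₀) * (AAA t₀).index = Nat.card G := Subgroup.card_mul_index _
    have h6 : (Finset.univ.image f).card = (AAA t₀).index := by
      apply Nat.eq_of_mul_eq_mul_left (Nat.card_pos (α := AAA t₀))
      rw [← h1, h5, Nat.card_eq_fintype_card]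
    rw [← h4, h6, add_comm]
  unfold sqrtCount
  rw [Nat.card_eq_fintype_card, Fintype.card_subtype, h3]
  push_cast
  rfl

variable [DecidableEq (AAA t₀)] [Fintype (AAA t₀ →* ℂˣ)] [DecidableEq (AAA t₀ →* ℂˣ)]

include D in
/-- The key identity: the number of square roots minus one is induced from `ξ`. -/
theorem sqrt_eq_ind {ξ : AAA t₀ →* ℂˣ} (h2 : ξ * ξ = 1) (h1 : ξ ≠ 1) (g : G) :
    sqrtCount g - 1 = indFun (AAA t₀) (lc ξ) g := by
  by_cases hg : ∀ x : G, x⁻¹ * g * x ∉ AAA t₀
  · rw [sqrtCount_eq_one D hg, sub_self, indFun_apply]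
    symm
    apply mul_eq_zero_of_right
    apply Finset.sum_eq_zero
    intro x _
    exact extendByZero_of_notMem _ _ (hg x)
  · push Not at hg
    obtain ⟨x, hx⟩ := hg
    have e1 : sqrtCount g = sqrtCount (x⁻¹ * g * x) := by
      have := isClassFunction_sqrtCount (G := G) g x⁻¹
      rw [inv_inv] at this
      exact this.symm
    have e2 : indFun (AAA t₀) (lc ξ) g = indFun (AAA t₀) (lc ξ) (x⁻¹ * g * x) := by
      have := isClassFunction_indFun (AAA t₀) (lc ξ) g x⁻¹
      rw [inv_inv] at this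
      exact this.symm
    rw [e1, e2]
    set a : AAA t₀ := ⟨x⁻¹ * g * x, hx⟩ with ha
    show sqrtCount (a : G) - 1 = indFun (AAA t₀) (lc ξ) (a : G)
    by_cases ha1 : a = 1
    · rw [ha1]
      show sqrtCount (1 : G) - 1 = indFun (AAA t₀) (lc ξ) 1
      rw [sqrtCount_one D, indFun_one, lc_map_one]
      ring
    · rw [sqrtCount_G_eq_A D a ha1, sqrtCount_eq_sum_dual (D.pair).comm, ind_apply_of_ne D.pair _ a ha1]
      have h3 := sum_cjD D h2 h1 (fun θ => lc θ a)
      have h4 : ∑ h : HHH D, lc ξ (cjHom D.pair h a) = ∑ h : HHH D, lc (cjD D.pair h ξ) a := rfl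
      rw [h4, h3]
      have hpos : (Nat.card (AAA t₀) : ℂ) ≠ 0 := by exact_mod_cast Nat.card_pos.ne'
      rw [← mul_assoc, inv_mul_cancel₀ hpos, one_mul]
      rw [← Finset.sum_filter]
      have hmem : (1 : AAA t₀ →* ℂˣ) ∈ Finset.univ.filter (fun θ : AAA t₀ →* ℂˣ => θ * θ = 1) := by
        rw [Finset.mem_filter]
        refine ⟨Finset.mem_univ _, ?_⟩
        ext a
        simp
      rw [← Finset.add_sum_erase _ _ hmem, lc_one_apply]
      ring

end Cfsg.Agent.Lib.TwoFusion.AbC
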