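import Mathlib
import Cfsg.Agent.Lib.TwoFusion.AbTI3

/-!
# The T.I. case: the irreducible constituents of the induced characters
-/

set_option autoImplicit false
set_option linter.unusedSectionVars false

namespace Cfsg.Agent.Lib.TwoFusion.AbC

open Cfsg Cfsg.Agent.Lib.Char Subgroup
open scoped ComplexConjugate

universe u

variable {G : Type u} [Group G] {t₀ : G}

section Gen

variable [Fintype G]

/-- Conjugation and the inner product. -/
theorem classInner_conj_conj (f h : G → ℂ) :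
    classInner (fun g => conj (f g)) (fun g => conj (h g)) = conj (classInner f h) := by
  simp only [classInner, map_mul, map_inv₀, map_natCast, map_sum]

/-- The complex conjugate irreducible character. -/
noncomputable def conjIrr (χ : IrrCharacter G) : IrrCharacter G :=
  ⟨fun g => conj ((χ : G → ℂ) g), IsIrrCharacter.conj χ.2⟩

theorem conjIrr_coe (χ : IrrCharacter G) : (conjIrr χ : G → ℂ) = fun g => conj ((χ : G → ℂ) g) := rfl

/-- The trivial irreducible character. -/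
noncomputable def oneIrr : IrrCharacter G := ⟨fun _ => 1, isIrrCharacter_one⟩

theorem hom_inv_eq_of_mul_self {A : Type*} [Group A] {ξ : A →* ℂˣ} (h : ξ * ξ = 1) : ξ⁻¹ = ξ := by
  ext a
  have h1 : ξ a * ξ a = 1 := by simpa using congrArg (fun ψ : A →* ℂˣ => ψ a) h
  have h2 : (ξ a)⁻¹ = ξ a := inv_eq_of_mul_eq_one_left h1
  simp [h2]

theorem hom_mul_self_of_inv {A : Type*} [Group A] {θ : A →* ℂˣ} (h : θ⁻¹ * θ⁻¹ = 1) : θ * θ = 1 := by
  ext a
  have h1 : (θ a)⁻¹ * (θ a)⁻¹ = 1 := by simpa using congrArg (fun ψ : A →* ℂˣ => ψ a) h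
  have h2 : θ a * θ a = 1 := by
    have := congrArg (fun z => z⁻¹) h1
    simpa using this
  simp [h2]

theorem ne_zero_of_nat {n : ℕ} (h : (n : ℂ) = -1) : False := by
  have h1 : ((n : ℂ)).re = (-1 : ℂ).re := congrArg Complex.re h
  simp at h1
  have h2 : (0 : ℝ) ≤ (n : ℝ) := Nat.cast_nonneg n
  linarith

end Gen

variable (D : TIData G t₀)
variable [Fintype G] [Fintype (AAA t₀)] [Fintype (HHH D)] [DecidableEq (AAA t₀)]
  [Fintype (AAA t₀ →* ℂˣ)] [DecidableEq (AAA t₀ →* ℂˣ)]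

/-- Induced characters from `A`. -/
noncomputable abbrev IndA (θ : AAA t₀ →* ℂˣ) : G → ℂ := indFun (AAA t₀) (lc θ)

theorem isCharacter_IndA (θ : AAA t₀ →* ℂˣ) : IsCharacter G (IndA θ) :=
  isCharacter_indFun _ (IsIrrCharacter.isCharacter (lc_irr θ))

theorem IndA_one (θ : AAA t₀ →* ℂˣ) : IndA θ (1 : G) = ((AAA t₀).index : ℂ) := by
  rw [IndA, indFun_one, lc_map_one, mul_one]

theorem inner_IndA_one (θ : AAA t₀ →* ℂˣ) :
    classInner (IndA θ) (fun _ : G => (1 : ℂ)) = if θ = 1 then 1 else 0 := by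
  rw [IndA, classInner_indFun_left (AAA t₀) (lc θ) _ (fun _ _ => rfl)]
  have := classInner_lc θ 1
  rw [lc_one] at this
  exact this

theorem cjD_one_hom (h : HHH D) : cjD D.pair h (1 : AAA t₀ →* ℂˣ) = 1 := by
  ext a
  simp [cjD_apply]

theorem cjD_eq_one {h : HHH D} {μ : AAA t₀ →* ℂˣ} (hμ : cjD D.pair h μ = 1) : μ = 1 := by
  have h5 : cjD D.pair h⁻¹ (cjD D.pair h μ) = μ := by
    rw [← cjD_mul, inv_mul_cancel, cjD_one]
  rw [hμ, cjD_one_hom] at h5
  exact h5.symm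

theorem JJ_real_left {θ ξ : AAA t₀ →* ℂˣ} (hθ : θ * θ ≠ 1) (hξ : ξ * ξ = 1) : JJ D.pair θ ξ = 0 := by
  apply JJ_eq_zero
  rintro h rfl
  apply hθ
  rw [← cjD_mul_hom, hξ, cjD_one_hom]

theorem JJ_real_right {θ ξ : AAA t₀ →* ℂˣ} (hθ : θ * θ ≠ 1) (hξ : ξ * ξ = 1) : JJ D.pair ξ θ = 0 := by
  apply JJ_eq_zero
  rintro h rfl
  apply hθ
  rw [← cjD_mul_hom] at hξ
  exact cjD_eq_one D hξ

theorem JJ_fam_nonfam {θ μ : AAA t₀ →* ℂˣ} (hθ : Fam (t₀ := t₀) θ) (hμ : ¬ Fam (t₀ := t₀) μ) :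
    JJ D.pair θ μ = 0 := by
  apply JJ_eq_zero
  rintro h rfl
  exact cjD_eq_self_of_not_fam D hμ h hθ

variable {ξ : AAA t₀ →* ℂˣ} (hξ2 : ξ * ξ = 1) (hξ1 : ξ ≠ 1)

include D hξ2 hξ1

theorem IndA_real_eq : (fun g => conj (IndA ξ g)) = (IndA ξ : G → ℂ) := by
  have h1 : ξ⁻¹ = ξ := hom_inv_eq_of_mul_self hξ2
  have h2 := ind_inv ξ
  rw [h1] at h2
  exact h2.symm

theorem mult_eq (χ : IrrCharacter G) :
    classInner (IndA ξ) (χ : G → ℂ) = fsInd (χ : G → ℂ) - classInner (fun _ : G => (1 : ℂ)) (χ : G → ℂ) := by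
  have h1 : (IndA ξ : G → ℂ) = sqrtCount - fun _ : G => (1 : ℂ) := by
    funext g
    exact (sqrt_eq_ind D hξ2 hξ1 g).symm
  rw [h1, classInner_sub_left, classInner_sqrtCount χ.2]

theorem mult_eq_fs {χ : IrrCharacter G} (hχ : (χ : G → ℂ) ≠ fun _ => 1) :
    classInner (IndA ξ) (χ : G → ℂ) = fsInd (χ : G → ℂ) := by
  rw [mult_eq D hξ2 hξ1, classInner_irr_of_ne isIrrCharacter_one χ.2 (Ne.symm hχ), sub_zero]

theorem mult_one : classInner (IndA ξ) (fun _ : G => (1 : ℂ)) = 0 := by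
  rw [inner_IndA_one, if_neg hξ1]

theorem mult_cases (χ : IrrCharacter G) :
    classInner (IndA ξ) (χ : G → ℂ) = 0 ∨ classInner (IndA ξ) (χ : G → ℂ) = 1 := by
  by_cases hχ : (χ : G → ℂ) = fun _ => 1
  · left
    rw [hχ]
    exact mult_one D hξ2 hξ1
  · obtain ⟨n, hn⟩ := IsCharacter.classInner_nat (isCharacter_IndA (t₀ := t₀) ξ) (IsIrrCharacter.isCharacter χ.2)
    have h1 := mult_eq_fs D hξ2 hξ1 hχ
    rcases fsInd_trichotomy χ.2 with h | h | h
    · left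
      rw [h1, h]
    · right
      rw [h1, h]
    · rw [h1, h] at hn
      exact (ne_zero_of_nat hn.symm).elim

theorem ne_one_of_mult {χ : IrrCharacter G} (h : classInner (IndA ξ) (χ : G → ℂ) = 1) :
    (χ : G → ℂ) ≠ fun _ => 1 := by
  intro h2
  rw [h2, mult_one D hξ2 hξ1] at h
  exact zero_ne_one h

theorem conj_eq_of_mult {χ : IrrCharacter G} (h : classInner (IndA ξ) (χ : G → ℂ) = 1) :
    (conjIrr χ : G → ℂ) = χ := by
  have h1 := mult_eq_fs D hξ2 hξ1 (ne_one_of_mult D hξ2 hξ1 h)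
  have h2 : fsInd (χ : G → ℂ) ≠ 0 := by
    rw [← h1, h]
    exact one_ne_zero
  funext g
  rw [conjIrr_coe]
  exact Complex.conj_eq_iff_im.mpr (im_eq_zero_of_fsInd_ne_zero χ.2 h2 g)

theorem conj_ne_of_mult_zero {χ : IrrCharacter G} (h : classInner (IndA ξ) (χ : G → ℂ) = 0)
    (h1 : (χ : G → ℂ) ≠ fun _ => 1) : (conjIrr χ : G → ℂ) ≠ χ := by
  have h2 := mult_eq_fs D hξ2 hξ1 h1
  rw [h] at h2
  obtain ⟨s, hs⟩ := (fsInd_eq_zero_iff χ.2).mp h2.symm
  intro h3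
  apply hs
  have := congrFun h3 s
  rw [conjIrr_coe] at this
  exact Complex.conj_eq_iff_im.mp this

theorem mult_conj (χ : IrrCharacter G) :
    classInner (IndA ξ) (conjIrr χ : G → ℂ) = classInner (IndA ξ) (χ : G → ℂ) := by
  have h1 := classInner_conj_conj (IndA ξ : G → ℂ) (χ : G → ℂ)
  rw [IndA_real_eq D hξ2 hξ1] at h1
  rw [conjIrr_coe, h1]
  rcases mult_cases D hξ2 hξ1 χ with h | h <;> rw [h] <;> simp

theorem mult_symm (χ : IrrCharacter G) :
    classInner (χ : G → ℂ) (IndA ξ) = classInner (IndA ξ) (χ : G → ℂ) := by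
  rw [classInner_conj_symm]
  rcases mult_cases D hξ2 hξ1 χ with h | h <;> rw [h] <;> simp

omit hξ2 hξ1 D in
/-- The decomposition of `θ^G - ξ^G`. -/
structure Decomp (ξ θ : AAA t₀ →* ℂˣ) (a c : IrrCharacter G) : Prop where
  eq : (IndA θ - IndA ξ : G → ℂ) = (a : G → ℂ) - (c : G → ℂ)
  ma : classInner (IndA ξ) (a : G → ℂ) = 0
  mc : classInner (IndA ξ) (c : G → ℂ) = 1
  ane : (a : G → ℂ) ≠ fun _ => 1

theorem exists_decomp {θ : AAA t₀ →* ℂˣ} (hθ : Fam (t₀ := t₀) θ) (hθ2 : θ * θ ≠ 1) :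
    ∃ a c : IrrCharacter G, Decomp ξ θ a c := by
  have hξF : Fam (t₀ := t₀) ξ := fam_of_real hξ2 hξ1
  have hJ1 := JJ_real_left D hθ2 hξ2
  have hJ2 := JJ_real_right D hθ2 hξ2
  have hJ3 := JJ_self_of_free D.pair (free_of_fam D hθ)
  have hJ4 := JJ_self_of_free D.pair (free_of_fam D hξF)
  have hgen : IsGeneralizedCharacter G (IndA θ - IndA ξ : G → ℂ) :=
    ⟨_, _, isCharacter_IndA θ, isCharacter_IndA ξ, rfl⟩
  have hnorm : classInner (IndA θ - IndA ξ : G → ℂ) (IndA θ - IndA ξ : G → ℂ) = 2 := by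
    rw [classInner_sub_right, IndA, IndA, ind_inner D.pair, ind_inner D.pair, hJ1, hJ2, hJ3, hJ4]
    norm_num
  have h1 : (IndA θ - IndA ξ : G → ℂ) 1 = 0 := by
    rw [Pi.sub_apply, IndA_one, IndA_one, sub_self]
  obtain ⟨a, c, hne, hf⟩ := exists_irr_sub_of_norm_two hgen hnorm h1
  have h2 : classInner (IndA θ - IndA ξ : G → ℂ) (IndA ξ : G → ℂ) = -1 := by
    rw [IndA, IndA, ind_inner D.pair, hJ1, hJ4]
    norm_num
  rw [hf, classInner_sub_left, mult_symm D hξ2 hξ1, mult_symm D hξ2 hξ1] at h2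
  have hma : classInner (IndA ξ) (a : G → ℂ) = 0 ∧ classInner (IndA ξ) (c : G → ℂ) = 1 := by
    rcases mult_cases D hξ2 hξ1 a with ha | ha <;> rcases mult_cases D hξ2 hξ1 c with hc | hc
    · rw [ha, hc] at h2; norm_num at h2
    · exact ⟨ha, hc⟩
    · rw [ha, hc] at h2; norm_num at h2
    · rw [ha, hc] at h2; norm_num at h2
  refine ⟨a, c, hf, hma.1, hma.2, ?_⟩
  intro ha1
  have h3 : classInner (IndA θ - IndA ξ : G → ℂ) (fun _ : G => (1 : ℂ)) = 0 := by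
    have hθ1 : θ ≠ 1 := by
      rintro rfl
      apply hθ2
      ext a
      simp
    rw [classInner_sub_left, inner_IndA_one, inner_IndA_one, if_neg hθ1, if_neg hξ1, sub_zero]
  rw [hf, classInner_sub_left, ha1, classInner_irr_self isIrrCharacter_one,
    classInner_irr_of_ne c.2 isIrrCharacter_one (ne_one_of_mult D hξ2 hξ1 hma.2), sub_zero] at h3
  exact one_ne_zero h3

theorem Decomp.conj_eq {θ : AAA t₀ →* ℂˣ} {a c : IrrCharacter G} (h : Decomp ξ θ a c) :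
    (IndA θ⁻¹ - IndA ξ : G → ℂ) = (conjIrr a : G → ℂ) - (c : G → ℂ) := by
  funext g
  have h1 : conj ((c : G → ℂ) g) = (c : G → ℂ) g := congrFun (conj_eq_of_mult D hξ2 hξ1 h.mc) g
  have h2 := congrFun h.eq g
  simp only [Pi.sub_apply] at h2 ⊢
  have h3 : IndA θ⁻¹ g = conj (IndA θ g) := congrFun (ind_inv θ) g
  have h4 : IndA ξ g = conj (IndA ξ g) := (congrFun (IndA_real_eq D hξ2 hξ1) g).symm
  rw [h3, h4, ← map_sub, h2, map_sub, h1]
  rfl

/-- The constituent `c` is the same for all non-real members of the family. -/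
theorem Decomp.unique_c {θ θ' : AAA t₀ →* ℂˣ} {a c a' c' : IrrCharacter G} (hθ2 : θ * θ ≠ 1)
    (hθ2' : θ' * θ' ≠ 1) (h : Decomp ξ θ a c) (h' : Decomp ξ θ' a' c') : c = c' := by
  by_contra hne
  have hne' : (c : G → ℂ) ≠ c' := fun h2 => hne (Subtype.ext h2)
  have hξF : Fam (t₀ := t₀) ξ := fam_of_real hξ2 hξ1
  have hJ4 := JJ_self_of_free D.pair (free_of_fam D hξF)
  have hJ1 := JJ_real_left D hθ2 hξ2
  have hJ2 := JJ_real_right D hθ2' hξ2
  have hinv2 : θ'⁻¹ * θ'⁻¹ ≠ 1 := by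
    intro h2
    exact hθ2' (hom_mul_self_of_inv h2)
  have hJ2' := JJ_real_right D hinv2 hξ2
  -- the two inner products
  obtain ⟨r, hr, er⟩ := JJ_nonneg D.pair θ θ'
  obtain ⟨r', hr', er'⟩ := JJ_nonneg D.pair θ θ'⁻¹
  have hA1 : classInner (IndA θ - IndA ξ : G → ℂ) (IndA θ' - IndA ξ : G → ℂ) = r + 1 := by
    rw [classInner_sub_right, IndA, IndA, IndA, ind_inner D.pair, ind_inner D.pair, hJ1, hJ2, hJ4, er]
    ring
  have hA2 : classInner (IndA θ - IndA ξ : G → ℂ) (IndA θ'⁻¹ - IndA ξ : G → ℂ) = r' + 1 := by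
    rw [classInner_sub_right, IndA, IndA, IndA, ind_inner D.pair, ind_inner D.pair, hJ1, hJ2', hJ4, er']
    ring
  -- the constituents
  have hneq : ∀ x y : IrrCharacter G, classInner (IndA ξ) (x : G → ℂ) = 0 →
      classInner (IndA ξ) (y : G → ℂ) = 1 → (x : G → ℂ) ≠ y := by
    intro x y hx hy he
    rw [he, hy] at hx
    exact one_ne_zero hx
  have hm : classInner (IndA ξ) (conjIrr a' : G → ℂ) = 0 := by
    rw [mult_conj D hξ2 hξ1, h'.ma]
  have hex : ∀ (z : IrrCharacter G), classInner (IndA ξ) (z : G → ℂ) = 0 → ∀ s : ℝ, 0 ≤ s →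
      classInner ((a : G → ℂ) - (c : G → ℂ)) ((z : G → ℂ) - (c' : G → ℂ)) = s + 1 → a = z := by
    intro z hz s hs he
    rw [classInner_sub_left, classInner_sub_right, classInner_sub_right,
      classInner_irr_of_ne a.2 c'.2 (hneq a c' h.ma h'.mc),
      classInner_irr_of_ne c.2 z.2 (hneq z c hz h.mc).symm,
      classInner_irr_of_ne c.2 c'.2 hne', classInner_irr a.2 z.2] at he
    by_contra hz2
    rw [if_neg (fun h3 => hz2 (Subtype.ext h3))] at he
    have h4 := congrArg Complex.re he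
    simp at h4
    linarith
  rw [h.eq, h'.eq] at hA1
  rw [h.eq, h'.conj_eq D hξ2 hξ1] at hA2
  have h5 := hex a' h'.ma r hr hA1
  have h6 := hex (conjIrr a') hm r' hr' hA2
  apply conj_ne_of_mult_zero D hξ2 hξ1 h'.ma h'.ane
  rw [← h6, h5]

end Cfsg.Agent.Lib.TwoFusion.AbC
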