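import Mathlib
import Cfsg.Agent.Lib.TwoFusion.AbTI4

/-!
# The T.I. case: conclusion

If the involution centralizers are abelian and T.I. and `G` is generated by its involutions
(with two non-commuting and two distinct commuting involutions), then these centralizers are
elementary abelian.
-/

set_option autoImplicit false
set_option linter.unusedSectionVars false

namespace Cfsg.Agent.Lib.TwoFusion.AbC

open Cfsg Cfsg.Agent.Lib.Char Subgroup
open scoped ComplexConjugate

universe u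

variable {G : Type u} [Group G] {t₀ : G} (D : TIData G t₀)
variable [Fintype G] [Fintype (AAA t₀)] [Fintype (HHH D)] [DecidableEq (AAA t₀)]
  [Fintype (AAA t₀ →* ℂˣ)] [DecidableEq (AAA t₀ →* ℂˣ)]

include D in
/-- An irreducible character with an involution in its kernel is trivial. -/
theorem irr_trivial_of_ker (χ : IrrCharacter G) {z : G} (hz : orderOf z = 2)
    (h : (χ : G → ℂ) z = (χ : G → ℂ) 1) : (χ : G → ℂ) = fun _ => 1 := by
  classical
  have hc : IsCharacter G (χ : G → ℂ) := IsIrrCharacter.isCharacter χ.2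
  have hker : z ∈ charKer (χ : G → ℂ) := (mem_charKer hc).mpr h
  have hN := charKer_normal hc
  have hall : charKer (χ : G → ℂ) = ⊤ := by
    rw [eq_top_iff, ← D.gen, closure_le]
    intro w hw
    obtain ⟨x, hx⟩ := isConj_iff.mp (D.good.isConj hz hw)
    rw [← hx]
    exact hN.conj_mem z hker x
  have hval : ∀ g : G, (χ : G → ℂ) g = (χ : G → ℂ) 1 := fun g =>
    (mem_charKer hc).mp (hall ▸ mem_top g)
  have h1 : classInner (χ : G → ℂ) (fun _ => 1) = (χ : G → ℂ) 1 := by
    unfold classInner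
    simp only [hval, map_one, mul_one, Finset.sum_const, Finset.card_univ, nsmul_eq_mul]
    rw [← Nat.card_eq_fintype_card]
    have : (Nat.card G : ℂ) ≠ 0 := by exact_mod_cast Nat.card_pos.ne'
    field_simp
  rw [classInner_irr χ.2 isIrrCharacter_one] at h1
  by_contra hne
  rw [if_neg hne] at h1
  exact (IsIrrCharacter.apply_one_ne_zero χ.2) h1.symm

include D in
/-- A criterion from Fourier inversion on `A`. -/
theorem apply_eq_of_coef (F : AAA t₀ → ℂ) (x : AAA t₀)
    (h : ∀ θ : AAA t₀ →* ℂˣ, classInner F (lc θ) ≠ 0 → lc θ x = 1) : F x = F 1 := by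
  rw [fourier (D.pair).comm F x, fourier (D.pair).comm F 1]
  refine Finset.sum_congr rfl fun θ _ => ?_
  rw [lc_map_one]
  by_cases h0 : classInner F (lc θ) = 0
  · rw [h0, zero_mul, zero_mul]
  · rw [h θ h0]

include D in
/-- Frobenius reciprocity in our notation. -/
theorem coef_eq_inner (χ : IrrCharacter G) (θ : AAA t₀ →* ℂˣ) :
    classInner (fun a : AAA t₀ => (χ : G → ℂ) a) (lc θ) = classInner (χ : G → ℂ) (IndA θ) :=
  (classInner_indFun_right (AAA t₀) (lc θ) (χ : G → ℂ)
    (IsCharacter.isClassFunction (IsIrrCharacter.isCharacter χ.2))).symm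

theorem not_fam_apply {θ : AAA t₀ →* ℂˣ} (h : ¬ Fam (t₀ := t₀) θ) {s : AAA t₀} (hs : Is2 s) : θ s = 1 := by
  by_contra hne
  exact h ⟨s, hs, hne⟩

theorem lc_eq_one_of {θ : AAA t₀ →* ℂˣ} {s : AAA t₀} (h : θ s = 1) : lc θ s = 1 := by
  simp [lc, h]

include D in
/-- Every nontrivial irreducible character has a constituent in the family on `A`. -/
theorem exists_constituent (χ : IrrCharacter G) (hχ : (χ : G → ℂ) ≠ fun _ => 1) :
    ∃ θ : AAA t₀ →* ℂˣ, Fam (t₀ := t₀) θ ∧ classInner (χ : G → ℂ) (IndA θ) ≠ 0 := by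
  by_contra hcon
  push Not at hcon
  have ht : Is2 (⟨t₀, mem_AAA.mpr (Commute.refl t₀)⟩ : AAA t₀) := by
    refine ⟨1, ?_⟩
    apply Subtype.ext
    show t₀ ^ (2 ^ 1) = 1
    rw [pow_one, ← D.ht₀, pow_orderOf_eq_one]
  have h1 := apply_eq_of_coef D (fun a : AAA t₀ => (χ : G → ℂ) a) ⟨t₀, mem_AAA.mpr (Commute.refl t₀)⟩ (by
    intro θ hθ
    rw [coef_eq_inner D] at hθ
    by_contra hne
    apply hθ
    apply hcon
    exact ⟨_, ht, fun h => hne (lc_eq_one_of h)⟩)
  exact hχ (irr_trivial_of_ker D χ D.ht₀ h1)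

variable {ξ : AAA t₀ →* ℂˣ} (hξ2 : ξ * ξ = 1) (hξ1 : ξ ≠ 1)

include D hξ2 hξ1

/-- All non-real irreducible characters occur in the decompositions. -/
theorem exists_decomp_of_nonreal (χ : IrrCharacter G) (hχ : (χ : G → ℂ) ≠ fun _ => 1)
    (hm : classInner (IndA ξ) (χ : G → ℂ) = 0) :
    ∃ θ c, Fam (t₀ := t₀) θ ∧ θ * θ ≠ 1 ∧ Decomp ξ θ χ c := by
  classical
  obtain ⟨θ, hF, hc⟩ := exists_constituent D χ hχ
  have hmχ : classInner (χ : G → ℂ) (IndA ξ) = 0 := by rw [mult_symm D hξ2 hξ1, hm]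
  by_cases hθ : θ * θ = 1
  · exfalso
    have hθ1 : θ ≠ 1 := by
      rintro rfl
      obtain ⟨s, -, hs⟩ := hF
      exact hs rfl
    have hmem : θ ∈ Finset.univ.image (fun h : HHH D => cjD D.pair h ξ) := by
      rw [image_cjD D hξ2 hξ1]
      simp [hθ1, hθ]
    obtain ⟨h, -, e⟩ := Finset.mem_image.mp hmem
    apply hc
    rw [IndA, ← e, ind_cjD D.pair]
    exact hmχ
  · obtain ⟨a, c, hd⟩ := exists_decomp D hξ2 hξ1 hF hθ
    have h1 : (IndA θ : G → ℂ) = IndA ξ + ((a : G → ℂ) - (c : G → ℂ)) := by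
      rw [← hd.eq]
      abel
    rw [h1, classInner_add_right, hmχ, zero_add, classInner_sub_right] at hc
    have hne : (χ : G → ℂ) ≠ c := by
      intro he
      rw [he, hd.mc] at hm
      exact one_ne_zero hm
    rw [classInner_irr_of_ne χ.2 c.2 hne, sub_zero] at hc
    have he : (χ : G → ℂ) = a := by
      by_contra hne2
      exact hc (classInner_irr_of_ne χ.2 a.2 hne2)
    have he' : χ = a := Subtype.ext he
    rw [he']
    exact ⟨θ, c, hF, hθ, hd⟩

/-- The `2`-elements of `A` have order at most two. -/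
theorem two_elements_sq {s : AAA t₀} (hs : Is2 s) : s * s = 1 := by
  classical
  by_contra hss
  obtain ⟨θ₁, hθ₁⟩ := exists_lc_ne (D.pair).comm hss
  have hF₁ : Fam (t₀ := t₀) θ₁ := by
    refine ⟨s, hs, fun h => hθ₁ ?_⟩
    rw [map_mul, h, one_mul]
  have hnr : θ₁ * θ₁ ≠ 1 := by
    intro h
    apply hθ₁
    rw [map_mul]
    simpa using congrArg (fun ψ : AAA t₀ →* ℂˣ => ψ s) h
  obtain ⟨a₁, c₁, hd₁⟩ := exists_decomp D hξ2 hξ1 hF₁ hnr
  have hc1 : (c₁ : G → ℂ) ((s * s : AAA t₀) : G) = (c₁ : G → ℂ) ((1 : AAA t₀) : G) := by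
    apply apply_eq_of_coef D (fun a : AAA t₀ => (c₁ : G → ℂ) a) (s * s)
    intro θ hθ
    by_cases hθF : Fam (t₀ := t₀) θ
    · by_cases hθr : θ * θ = 1
      · have := congrArg (fun ψ : AAA t₀ →* ℂˣ => ψ s) hθr
        apply lc_eq_one_of
        rw [map_mul]
        simpa using this
      · exfalso
        apply hθ
        rw [coef_eq_inner D]
        obtain ⟨a', c', hd'⟩ := exists_decomp D hξ2 hξ1 hθF hθr
        have hcc : c₁ = c' := Decomp.unique_c D hξ2 hξ1 hnr hθr hd₁ hd'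
        have h1 : (IndA θ : G → ℂ) = IndA ξ + ((a' : G → ℂ) - (c' : G → ℂ)) := by
          rw [← hd'.eq]
          abel
        rw [h1, classInner_add_right, classInner_sub_right, hcc, mult_symm D hξ2 hξ1, hd'.mc,
          classInner_irr_self c'.2]
        have hne : (c' : G → ℂ) ≠ a' := by
          intro he
          have := hd'.ma
          rw [← he, hd'.mc] at this
          exact one_ne_zero this
        rw [classInner_irr_of_ne c'.2 a'.2 hne]
        ring
    · apply lc_eq_one_of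
      rw [map_mul, not_fam_apply hθF hs, one_mul]
  have hc2 : (c₁ : G → ℂ) (((s : G) * s)) = (c₁ : G → ℂ) 1 := hc1
  have hsG : (s : G) * s ≠ 1 := fun h => hss (Subtype.ext h)
  have hpow : ¬ Odd (orderOf ((s : G) * s)) := by
    obtain ⟨k, hk⟩ := hs
    have hcoe : (s : G) ^ (2 ^ k) = 1 := by
      have := congrArg Subtype.val hk
      simpa using this
    intro hodd
    have h1 : ((s : G) * s) ^ (2 ^ k) = 1 := by
      rw [← pow_two, ← pow_mul, mul_comm, pow_mul, hcoe, one_pow]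
    have h2 : orderOf ((s : G) * s) ∣ 2 ^ k := orderOf_dvd_of_pow_eq_one h1
    have h3 : Nat.Coprime (orderOf ((s : G) * s)) (2 ^ k) := Nat.Coprime.pow_right k (Nat.coprime_two_right.mpr hodd)
    have h4 := Nat.Coprime.eq_one_of_dvd h3 h2
    exact hsG (orderOf_eq_one_iff.mp h4)
  obtain ⟨j, hj⟩ := exists_pow_order_two hpow
  have hker : (s : G) * s ∈ charKer (c₁ : G → ℂ) := (mem_charKer (IsIrrCharacter.isCharacter c₁.2)).mpr hc2
  have hz : ((s : G) * s) ^ j ∈ charKer (c₁ : G → ℂ) := pow_mem hker j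
  have h5 := (mem_charKer (IsIrrCharacter.isCharacter c₁.2)).mp hz
  exact ne_one_of_mult D hξ2 hξ1 hd₁.mc (irr_trivial_of_ker D c₁ hj h5)

omit hξ2 hξ1 in
/-- If `μ⁻¹` is conjugate to `μ` under `H`, then `μ` is real. -/
theorem real_of_conj_inv {μ : AAA t₀ →* ℂˣ} {h : HHH D} (he : μ = cjD D.pair h μ⁻¹) : μ * μ = 1 := by
  have hA := D.pair
  have h1 : cjD D.pair h μ = μ⁻¹ := by
    have he' := he
    rw [cjD_inv] at he'
    ext a
    have h0 := congrArg (fun ψ : AAA t₀ →* ℂˣ => ψ a) he'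
    simp only [MonoidHom.inv_apply] at h0 ⊢
    rw [h0, inv_inv]
  have h2 : cjD D.pair (h * h) μ = μ := by
    rw [cjD_mul, h1, ← he]
  obtain ⟨n, hn, hnA⟩ := exists_odd_pow_mem D h.2
  obtain ⟨m, hm⟩ := hn
  have h3 : ∀ k : ℕ, cjD D.pair ((h * h) ^ k) μ = μ := by
    intro k
    induction k with
    | zero => rw [pow_zero, cjD_one]
    | succ k ih => rw [pow_succ, cjD_mul, h2, ih]
  have h4 : (h * h) ^ (m + 1) = h ^ n * h := by
    rw [← pow_two, ← pow_mul, hm]
    rw [show 2 * (m + 1) = 2 * m + 1 + 1 by ring, pow_succ]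
  have h5 := h3 (m + 1)
  rw [h4, cjD_mul, cjD_of_mem D.pair (h ^ n) (by
    have : ((h ^ n : HHH D) : G) = (h : G) ^ n := by push_cast; rfl
    rw [this]
    exact hnA), h1] at h5
  -- `μ⁻¹ = μ`
  ext a
  have h6 := congrArg (fun ψ : AAA t₀ →* ℂˣ => ψ a) h5
  simp only [MonoidHom.inv_apply] at h6
  simp only [MonoidHom.mul_apply, MonoidHom.one_apply]
  have h7 : μ a * μ a = 1 := by
    calc μ a * μ a = μ a * (μ a)⁻¹ := by rw [h6]
      _ = 1 := mul_inv_cancel _
  rw [h7]

/-- `A` has no nontrivial elements of odd order. -/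
theorem odd_elements_trivial {b : AAA t₀} (hb : Odd (orderOf b)) : b = 1 := by
  classical
  by_contra hb1
  obtain ⟨θ₁, hθ₁⟩ := exists_lc_ne (D.pair).comm hb1
  set N := 2 ^ Nat.card (AAA t₀) with hN
  let μ : AAA t₀ →* ℂˣ := θ₁ ^ N
  have hμapp : ∀ x, μ x = θ₁ x ^ N := fun x => by simp [μ]
  have hμF : ¬ Fam (t₀ := t₀) μ := by
    rintro ⟨s, ⟨k, hk⟩, hs⟩
    apply hs
    rw [hμapp, ← map_pow]
    have h1 : orderOf s ∣ 2 ^ k := orderOf_dvd_of_pow_eq_one hk
    obtain ⟨j, -, hj⟩ := (Nat.dvd_prime_pow Nat.prime_two).mp h1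
    have h2 : 2 ^ j ∣ Nat.card (AAA t₀) := by
      rw [← hj]
      exact orderOf_dvd_natCard s
    have h3 : 2 ^ j ≤ Nat.card (AAA t₀) := Nat.le_of_dvd Nat.card_pos h2
    have h4 : j ≤ Nat.card (AAA t₀) := le_trans (Nat.lt_two_pow_self).le h3
    have h5 : s ^ N = 1 := by
      apply orderOf_dvd_iff_pow_eq_one.mp
      rw [hj, hN]
      exact pow_dvd_pow 2 h4
    rw [h5, map_one]
  have hμinvF : ¬ Fam (t₀ := t₀) μ⁻¹ := by
    rintro ⟨s, hs, hne⟩
    apply hne
    have := not_fam_apply hμF hs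
    simp [this]
  have hcop : Nat.Coprime (2 * N) (orderOf b) := by
    rw [hN, ← pow_succ']
    exact Nat.Coprime.pow_left _ (Nat.coprime_two_left.mpr hb)
  have hnr : μ * μ ≠ 1 := by
    intro h
    obtain ⟨m, hm⟩ := exists_pow_eq_self_of_coprime hcop
    apply hθ₁
    rw [← hm, map_pow, map_pow]
    have h1 := congrArg (fun ψ : AAA t₀ →* ℂˣ => ψ b) h
    simp only [MonoidHom.mul_apply, MonoidHom.one_apply, hμapp] at h1
    have h2 : θ₁ b ^ (2 * N) = 1 := by
      rw [two_mul, pow_add]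
      exact h1
    rw [h2, one_pow]
  have hinv2 : μ⁻¹ * μ⁻¹ ≠ 1 := fun h => hnr (hom_mul_self_of_inv h)
  have hξF : Fam (t₀ := t₀) ξ := fam_of_real hξ2 hξ1
  set f : G → ℂ := IndA μ - IndA μ⁻¹ with hf
  have hf0 : f = 0 := by
    apply classFunction_eq_zero_of_orthogonal
    · exact IsClassFunction.sub (isClassFunction_indFun _ _) (isClassFunction_indFun _ _)
    · intro χ hχ
      -- real characters
      have hreal : ∀ x : IrrCharacter G, (conjIrr x : G → ℂ) = x → classInner f (x : G → ℂ) = 0 := by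
        intro x hx
        have h1 : classInner (IndA μ⁻¹) (x : G → ℂ) = conj (classInner (IndA μ) (x : G → ℂ)) := by
          have h2 := classInner_conj_conj (IndA μ : G → ℂ) (x : G → ℂ)
          have h3 : (fun g => conj (x.1 g)) = (x : G → ℂ) := hx
          rw [← h2, h3]
          congr 1
          exact ind_inv μ
        obtain ⟨n, hn⟩ := IsCharacter.classInner_nat (isCharacter_IndA (t₀ := t₀) μ) (IsIrrCharacter.isCharacter x.2)
        rw [hf, classInner_sub_left, h1, hn]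
        simp
      set χ' : IrrCharacter G := ⟨χ, hχ⟩ with hχ'
      by_cases h1 : (χ : G → ℂ) = fun _ => 1
      · apply hreal χ'
        funext g
        show conj (χ g) = χ g
        rw [h1]
        simp
      · rcases mult_cases D hξ2 hξ1 χ' with hm | hm
        · obtain ⟨θ, c, hθF, hθ, hd⟩ := exists_decomp_of_nonreal D hξ2 hξ1 χ' h1 hm
          have h2 : classInner (IndA θ - IndA ξ : G → ℂ) f = 0 := by
            rw [hf, classInner_sub_right, IndA, IndA, IndA, ind_inner D.pair, ind_inner D.pair,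
              JJ_fam_nonfam D hθF hμF, JJ_fam_nonfam D hξF hμF, JJ_fam_nonfam D hθF hμinvF,
              JJ_fam_nonfam D hξF hμinvF]
            ring
          rw [hd.eq, classInner_sub_left] at h2
          have h3 : classInner (c : G → ℂ) f = 0 := by
            rw [classInner_conj_symm, hreal c (conj_eq_of_mult D hξ2 hξ1 hd.mc), map_zero]
          rw [h3, sub_zero] at h2
          show classInner f χ = 0
          rw [classInner_conj_symm]
          have h4 : classInner χ f = 0 := h2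
          rw [h4, map_zero]
        · apply hreal χ'
          exact conj_eq_of_mult D hξ2 hξ1 hm
  have hJ1 : JJ D.pair μ⁻¹ μ = 0 := by
    apply JJ_eq_zero
    intro h he
    apply hnr
    apply real_of_conj_inv D (h := h)
    rw [cjD_inv, ← he]
    ext a
    simp
  have hJ2 : JJ D.pair μ μ⁻¹ = 0 := by
    apply JJ_eq_zero
    intro h he
    exact hnr (real_of_conj_inv D he)
  obtain ⟨r, hr, er⟩ := JJ_self_ge D.pair μ
  obtain ⟨r', hr', er'⟩ := JJ_self_ge D.pair μ⁻¹
  have h5 : classInner f f = ((r + r' : ℝ) : ℂ) := by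
    conv_lhs => rw [hf]
    rw [classInner_sub_right, IndA, IndA, ind_inner D.pair, ind_inner D.pair, hJ1, hJ2, er, er']
    push_cast
    ring
  rw [hf0] at h5
  have h6 : classInner (0 : G → ℂ) 0 = 0 := classInner_zero_left _
  rw [h6] at h5
  have h7 : ((r + r' : ℝ)) = 0 := by exact_mod_cast h5.symm
  linarith

/-- All elements of `A` have square one. -/
theorem all_sq_eq_one (c : AAA t₀) : c * c = 1 := by
  obtain ⟨r, m, hm, e⟩ := Nat.exists_eq_two_pow_mul_odd (orderOf_pos c).ne'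
  have h1 : (c ^ (2 ^ r)) ^ m = 1 := by
    rw [← pow_mul, ← e, pow_orderOf_eq_one]
  have h2 : Odd (orderOf (c ^ (2 ^ r))) := Odd.of_dvd_nat hm (orderOf_dvd_of_pow_eq_one h1)
  have h3 := odd_elements_trivial D hξ2 hξ1 h2
  exact two_elements_sq D hξ2 hξ1 ⟨r, h3⟩

omit D hξ2 hξ1

end Cfsg.Agent.Lib.TwoFusion.AbC

namespace Cfsg.Agent.Lib.TwoFusion.AbC

open Cfsg Cfsg.Agent.Lib.Char Subgroup

universe v

/-- **The T.I. case.** -/
theorem ti_main {G : Type v} [Group G] [Finite G] {t₀ : G} (D : TIData G t₀) {c : G} (hc : Commute c t₀) :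
    c * c = 1 := by
  classical
  let _ : Fintype G := Fintype.ofFinite G
  let _ : Fintype (AAA t₀) := Fintype.ofFinite _
  let _ : Fintype (HHH D) := Fintype.ofFinite _
  haveI hfin : Finite (AAA t₀ →* ℂˣ) := finite_dual' (D.pair).comm
  let _ : Fintype (AAA t₀ →* ℂˣ) := Fintype.ofFinite _
  -- a real nontrivial character
  have h1 : 1 < (Finset.univ.filter (fun θ : AAA t₀ →* ℂˣ => θ * θ = 1)).card := by
    rw [card_real_dual D]
    have hx : (⟨t₀, mem_AAA.mpr (Commute.refl t₀)⟩ : AAA t₀) ∈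
        Finset.univ.filter (fun x : AAA t₀ => x * x = 1) := by
      rw [Finset.mem_filter]
      refine ⟨Finset.mem_univ _, Subtype.ext (inv_mul_self_of_order D.ht₀)⟩
    have hy : (1 : AAA t₀) ∈ Finset.univ.filter (fun x : AAA t₀ => x * x = 1) := by simp
    refine Finset.one_lt_card.mpr ⟨_, hx, _, hy, ?_⟩
    intro h
    exact ne_one_of_order D.ht₀ (congrArg Subtype.val h)
  obtain ⟨ξ, hξ, hξ1⟩ := Finset.exists_mem_ne h1 (1 : AAA t₀ →* ℂˣ)
  have hξ2 : ξ * ξ = 1 := (Finset.mem_filter.mp hξ).2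
  have := all_sq_eq_one D hξ2 hξ1 (⟨c, mem_AAA.mpr hc⟩ : AAA t₀)
  exact congrArg Subtype.val this

end Cfsg.Agent.Lib.TwoFusion.AbC
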