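import Mathlib
import Cfsg.Agent.Lib.TwoFusion.AbNonTI
import Cfsg.Agent.Lib.TwoFusion.AbTI5

/-!
# Finite groups with abelian involution centralizers: the inductive theorem
-/

set_option autoImplicit false
set_option linter.unusedSectionVars false

namespace Cfsg.Agent.Lib.TwoFusion.AbC

open Subgroup

universe u

theorem card_lt_of_ne_top' {G : Type u} [Group G] [Finite G] {K : Subgroup G} (hK : K ≠ ⊤) :
    Nat.card K < Nat.card G := by
  have h1 := Subgroup.one_lt_index_of_ne_top hK
  have h2 := Subgroup.card_mul_index K
  have h3 : 0 < Nat.card K := Nat.card_pos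
  nlinarith

/-- Passing `AbReg` from the subgroup generated by the involutions to the whole group. -/
theorem abReg_of_closure {G : Type u} [Group G] {K : Subgroup G} (hK : ∀ t : G, orderOf t = 2 → t ∈ K)
    (hR : AbReg K) : AbReg G := by
  intro t u u' ht hu hu' h1 h2
  obtain ⟨v, hv, hvc⟩ := hR ⟨t, hK t ht⟩ ⟨u, hK u hu⟩ ⟨u', hK u' hu'⟩
    (by rw [Subgroup.orderOf_mk, ht]) (by rw [Subgroup.orderOf_mk, hu]) (by rw [Subgroup.orderOf_mk, hu'])
    (fun h => h1 (congrArg Subtype.val h)) (fun h => h2 (congrArg Subtype.val h))
  refine ⟨(v : G), ?_, congrArg Subtype.val hvc⟩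
  rcases hv with h | ⟨h, h'⟩
  · left
    rw [h]
    rfl
  · right
    exact ⟨by rw [← Subgroup.orderOf_coe] at h; exact h, congrArg Subtype.val h'⟩

theorem good_of_closure {G : Type u} [Group G] (hG : AbGood G) {K : Subgroup G}
    (hK : ∀ t : G, orderOf t = 2 → t ∈ K) : AbGood K where
  ab := hG.ab.subgroup K
  noncomm := by
    obtain ⟨t, u, ht, hu, h⟩ := hG.noncomm
    exact ⟨⟨t, hK t ht⟩, ⟨u, hK u hu⟩, by rw [Subgroup.orderOf_mk, ht], by rw [Subgroup.orderOf_mk, hu],
      fun h2 => h (congrArg Subtype.val h2)⟩
  klein := by
    obtain ⟨t, u, ht, hu, hne, h⟩ := hG.klein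
    exact ⟨⟨t, hK t ht⟩, ⟨u, hK u hu⟩, by rw [Subgroup.orderOf_mk, ht], by rw [Subgroup.orderOf_mk, hu],
      fun h2 => hne (congrArg Subtype.val h2), Subtype.ext h.eq⟩

/-- **Main inductive theorem.** In a good group, squares of elements of involution centralizers
centralize all involutions. -/
theorem abP_of_good : ∀ (n : ℕ) (G : Type u) [Group G] [Finite G], Nat.card G = n → AbGood G → AbP G := by
  intro n
  induction n using Nat.strong_induction_on with
  | _ n ih =>
    intro G _ _ hn hG
    have hA := hG.ab
    by_cases hZ : invCent G = ⊥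
    · have hZ' : ∀ x : G, (∀ t : G, orderOf t = 2 → Commute x t) → x = 1 := by
        intro x hx
        have : x ∈ invCent G := mem_invCent.mpr hx
        rwa [hZ, Subgroup.mem_bot] at this
      by_cases hN : closure {t : G | orderOf t = 2} = ⊤
      · by_cases hTI : ∀ t u b : G, orderOf t = 2 → orderOf u = 2 → ¬ Commute t u → Commute b t →
            Commute b u → b = 1
        · intro t ht c hc u hu
          have D : TIData G t := ⟨hG, ht, hN, hTI⟩
          rw [ti_main D hc]
          exact Commute.one_left u
        · push Not at hTI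
          obtain ⟨t, u, b, ht, hu, htu, hbt, hbu, hb1⟩ := hTI
          exfalso
          have hX : centralizer ({b} : Set G) ≠ ⊤ := by
            intro h
            apply hb1
            apply hZ'
            intro w _
            have : w ∈ centralizer ({b} : Set G) := h ▸ mem_top w
            exact (mem_centralizer_singleton_iff.mp this).symm
          have hlt := card_lt_of_ne_top' hX
          have hgood := good_centralizer hG ht hu htu hbt hbu
          have hP := ih _ (hn ▸ hlt) (centralizer ({b} : Set G)) rfl hgood
          exact nonTI_false hG hN hZ' hb1 ht hu htu hbt hbu hP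
      · have hK : ∀ t : G, orderOf t = 2 → t ∈ closure {t : G | orderOf t = 2} :=
          fun t ht => subset_closure ht
        have hlt := card_lt_of_ne_top' hN
        have hgood := good_of_closure hG hK
        have hP := ih _ (hn ▸ hlt) (closure {t : G | orderOf t = 2}) rfl hgood
        exact abP_of_abReg hG (abReg_of_closure hK (abReg_of_abP hgood hP))
    · -- quotient by the centralizer of the involutions
      have hK := hG.oddKer_mk
      have hgood := hK.good hG
      have hlt : Nat.card (G ⧸ invCent G) < Nat.card G := by
        have h1 := Subgroup.card_eq_card_quotient_mul_card_subgroup (invCent G)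
        have h2 : 1 < Nat.card (invCent G) := by
          rw [Finite.one_lt_card_iff_nontrivial]
          exact (Subgroup.nontrivial_iff_ne_bot _).mpr hZ
        have h3 : 0 < Nat.card (G ⧸ invCent G) := Nat.card_pos
        nlinarith
      exact hK.abP_of_quot (ih _ (hn ▸ hlt) (G ⧸ invCent G) rfl hgood)

end Cfsg.Agent.Lib.TwoFusion.AbC
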