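import Mathlib
import Cfsg.Agent.Lib.TwoFusion.AbBasic

/-!
# Central extensions of `SL₂(F)`, `F` of characteristic two, with odd kernel split

More precisely: extensions with odd kernel centralizing the involutions.
-/

set_option autoImplicit false
set_option linter.unusedSectionVars false

namespace Cfsg.Agent.Lib.TwoFusion.AbC

open Matrix Subgroup

variable {F : Type*} [Field F]

local notation "SLF" => SpecialLinearGroup (Fin 2) F

section Mat

theorem coeM_mul (a b : SLF) : ((a * b : SLF) : Matrix (Fin 2) (Fin 2) F) = (a : Matrix (Fin 2) (Fin 2) F) * (b : Matrix (Fin 2) (Fin 2) F) := rfl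

theorem coeM_one : ((1 : SLF) : Matrix (Fin 2) (Fin 2) F) = 1 := rfl

theorem sl_ext {a b : SLF} (h : ∀ i j, (a : Matrix (Fin 2) (Fin 2) F) i j = (b : Matrix (Fin 2) (Fin 2) F) i j) : a = b :=
  Subtype.ext (Matrix.ext h)

/-- Diagonal elements, indexed by units. -/
noncomputable def slH (a : Fˣ) : SLF := slDiag (a : F) a.ne_zero

theorem coe_slTrans (t : F) : ((slTrans t : SLF) : Matrix (Fin 2) (Fin 2) F) = !![1, t; 0, 1] := rfl

theorem coe_slH (a : Fˣ) : ((slH a : SLF) : Matrix (Fin 2) (Fin 2) F) = !![(a : F), 0; 0, ((a⁻¹ : Fˣ) : F)] := by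
  show !![(a : F), 0; 0, (a : F)⁻¹] = _
  simp

variable (h2 : (2 : F) = 0)

include h2 in
theorem add_self_two (t : F) : t + t = 0 := by
  rw [← two_mul, h2, zero_mul]

theorem coe_slU : ((slInv h2 : SLF) : Matrix (Fin 2) (Fin 2) F) = !![0, 1; 1, 0] := rfl

theorem slTrans_mul (s t : F) : (slTrans s * slTrans t : SLF) = slTrans (s + t) := by
  apply sl_ext
  intro i j
  rw [coeM_mul, coe_slTrans, coe_slTrans, coe_slTrans]
  fin_cases i <;> fin_cases j <;> simp [Matrix.mul_apply, Fin.sum_univ_two, add_comm]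

theorem slTrans_zero : (slTrans (0 : F) : SLF) = 1 := by
  apply sl_ext
  intro i j
  rw [coe_slTrans]
  fin_cases i <;> fin_cases j <;> simp

include h2 in
theorem slTrans_sq (t : F) : (slTrans t * slTrans t : SLF) = 1 := by
  rw [slTrans_mul, add_self_two h2, slTrans_zero]

theorem slU_sq : (slInv h2 * slInv h2 : SLF) = 1 := by
  apply sl_ext
  intro i j
  rw [coeM_mul, coe_slU]
  fin_cases i <;> fin_cases j <;> simp [Matrix.mul_apply, Fin.sum_univ_two]

theorem slH_mul (a b : Fˣ) : (slH a * slH b : SLF) = slH (a * b) := by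
  apply sl_ext
  intro i j
  rw [coeM_mul, coe_slH, coe_slH, coe_slH]
  fin_cases i <;> fin_cases j <;> simp [Matrix.mul_apply, Fin.sum_univ_two, mul_comm]

theorem slH_one : (slH (1 : Fˣ) : SLF) = 1 := by
  apply sl_ext
  intro i j
  rw [coe_slH]
  fin_cases i <;> fin_cases j <;> simp

theorem slH_inv (a : Fˣ) : (slH a⁻¹ : SLF) = (slH a)⁻¹ := by
  apply eq_inv_of_mul_eq_one_left
  rw [slH_mul, inv_mul_cancel, slH_one]

theorem slH_slTrans (b : Fˣ) (t : F) :
    (slH b * slTrans t : SLF) = slTrans ((b : F) * b * t) * slH b := by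
  apply sl_ext
  intro i j
  rw [coeM_mul, coeM_mul, coe_slH, coe_slTrans, coe_slTrans]
  have hb := b.ne_zero
  fin_cases i <;> fin_cases j <;> simp [Matrix.mul_apply, Fin.sum_univ_two]
  field_simp

theorem slU_slH (a : Fˣ) : (slInv h2 * slH a : SLF) = slH a⁻¹ * slInv h2 := by
  apply sl_ext
  intro i j
  rw [coeM_mul, coeM_mul, coe_slH, coe_slH, coe_slU]
  fin_cases i <;> fin_cases j <;> simp [Matrix.mul_apply, Fin.sum_univ_two]

theorem slU_slH_sq (a : Fˣ) : ((slInv h2 * slH a) * (slInv h2 * slH a) : SLF) = 1 := by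
  have h1 := slU_slH h2 a
  have h3 : ((slInv h2 * slH a) * (slInv h2 * slH a) : SLF) = (slH a⁻¹ * slInv h2) * (slInv h2 * slH a) := by
    rw [h1]
  rw [h3]
  have h4 : ((slH a⁻¹ * slInv h2) * (slInv h2 * slH a) : SLF) = slH a⁻¹ * (slInv h2 * slInv h2) * slH a := by
    group
  rw [h4, slU_sq, mul_one, slH_mul, inv_mul_cancel, slH_one]

/-- The relation of Bruhat type. -/
theorem slU_slTrans_slU (t : F) (ht : t ≠ 0) :
    (slInv h2 * slTrans t * slInv h2 : SLF) =
      slTrans t⁻¹ * slH (Units.mk0 t ht)⁻¹ * slInv h2 * slTrans t⁻¹ := by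
  apply sl_ext
  intro i j
  simp only [coeM_mul]
  rw [coe_slH, coe_slTrans, coe_slTrans, coe_slU]
  have e : (((Units.mk0 t ht)⁻¹ : Fˣ) : F) = t⁻¹ := by simp
  have e2 : (((Units.mk0 t ht)⁻¹⁻¹ : Fˣ) : F) = t := by simp
  rw [e, e2]
  fin_cases i <;> fin_cases j <;> simp [Matrix.mul_apply, Fin.sum_univ_two, ht]
  exact (add_self_two h2 _).symm

/-- Bruhat decomposition. -/
theorem sl_bruhat (m : SLF) : (∃ (t : F) (a : Fˣ), m = slTrans t * slH a) ∨
    (∃ (t : F) (a : Fˣ) (t' : F), m = slTrans t * slH a * slInv h2 * slTrans t') := by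
  have hdet := m.2
  rw [Matrix.det_fin_two] at hdet
  set A := (m : Matrix (Fin 2) (Fin 2) F) with hA
  have hneg : ∀ x : F, -x = x := fun x => neg_eq_of_add_eq_zero_left (add_self_two h2 x)
  by_cases hc : A 1 0 = 0
  · left
    rw [hc, mul_zero, sub_zero] at hdet
    have ha : A 0 0 ≠ 0 := left_ne_zero_of_mul_eq_one hdet
    refine ⟨A 0 1 * A 0 0, Units.mk0 _ ha, ?_⟩
    apply sl_ext
    intro i j
    rw [coeM_mul, coe_slTrans, coe_slH]
    have e : (((Units.mk0 _ ha)⁻¹ : Fˣ) : F) = (A 0 0)⁻¹ := by simp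
    rw [e]
    have hd : A 1 1 = (A 0 0)⁻¹ := eq_inv_of_mul_eq_one_right hdet
    fin_cases i <;> fin_cases j <;> simp [Matrix.mul_apply, Fin.sum_univ_two, ha, hd, hc, ← hA]
  · right
    refine ⟨A 0 0 / A 1 0, (Units.mk0 _ hc)⁻¹, A 1 1 / A 1 0, ?_⟩
    apply sl_ext
    intro i j
    simp only [coeM_mul]
    rw [coe_slH, coe_slTrans, coe_slTrans, coe_slU]
    have e : (((Units.mk0 _ hc)⁻¹ : Fˣ) : F) = (A 1 0)⁻¹ := by simp
    have e2 : (((Units.mk0 _ hc)⁻¹⁻¹ : Fˣ) : F) = A 1 0 := by simp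
    rw [e, e2]
    fin_cases i <;> fin_cases j <;> simp [Matrix.mul_apply, Fin.sum_univ_two, hc, ← hA] <;> field_simp
    linear_combination (-1 : F) * hdet - h2

theorem eq_of_form_one {t : F} {a : Fˣ} (h : (slTrans t * slH a : SLF) = 1) : t = 0 ∧ a = 1 := by
  have h00 := congrArg (fun m : SLF => (m : Matrix (Fin 2) (Fin 2) F) 0 0) h
  have h01 := congrArg (fun m : SLF => (m : Matrix (Fin 2) (Fin 2) F) 0 1) h
  simp only [coeM_mul, coe_slTrans, coe_slH, coeM_one] at h00 h01
  simp [Matrix.mul_apply, Fin.sum_univ_two] at h00 h01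
  exact ⟨h01, h00⟩

theorem form_two_ne_one (t : F) (a : Fˣ) (t' : F) :
    (slTrans t * slH a * slInv h2 * slTrans t' : SLF) ≠ 1 := by
  intro h
  have h10 := congrArg (fun m : SLF => (m : Matrix (Fin 2) (Fin 2) F) 1 0) h
  simp only [coeM_mul, coe_slTrans, coe_slH, coeM_one, coe_slU] at h10
  simp [Matrix.mul_apply, Fin.sum_univ_two] at h10

end Mat

section Rel

variable {G : Type*} [Group G]

/-- The Bruhat-type relations between `x t`, `h a`, `u`. -/
structure BruhatRel (x : F → G) (h : Fˣ → G) (u : G) : Prop where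
  x_add : ∀ s t, x s * x t = x (s + t)
  h_mul : ∀ a b, h a * h b = h (a * b)
  h_x : ∀ (b : Fˣ) t, h b * x t = x ((b : F) * b * t) * h b
  u_sq : u * u = 1
  u_h : ∀ a, u * h a = h a⁻¹ * u
  u_x_u : ∀ (t : F) (ht : t ≠ 0), u * x t * u = x t⁻¹ * h (Units.mk0 t ht)⁻¹ * u * x t⁻¹

variable {x : F → G} {h : Fˣ → G} {u : G}

theorem BruhatRel.x_zero (B : BruhatRel x h u) : x 0 = 1 := by
  have h1 := B.x_add 0 0
  rw [add_zero] at h1
  exact mul_eq_left.mp h1

theorem BruhatRel.h_one (B : BruhatRel x h u) : h 1 = 1 := by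
  have h1 := B.h_mul 1 1
  rw [mul_one] at h1
  exact mul_eq_left.mp h1

theorem BruhatRel.x_add' (B : BruhatRel x h u) (s t : F) (r : G) : x s * (x t * r) = x (s + t) * r := by
  rw [← mul_assoc, B.x_add]

theorem BruhatRel.h_mul' (B : BruhatRel x h u) (a b : Fˣ) (r : G) : h a * (h b * r) = h (a * b) * r := by
  rw [← mul_assoc, B.h_mul]

theorem BruhatRel.h_x' (B : BruhatRel x h u) (b : Fˣ) (t : F) (r : G) :
    h b * (x t * r) = x ((b : F) * b * t) * (h b * r) := by
  rw [← mul_assoc, B.h_x, mul_assoc]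

theorem BruhatRel.u_h' (B : BruhatRel x h u) (a : Fˣ) (r : G) : u * (h a * r) = h a⁻¹ * (u * r) := by
  rw [← mul_assoc, B.u_h, mul_assoc]

theorem BruhatRel.u_u' (B : BruhatRel x h u) (r : G) : u * (u * r) = r := by
  rw [← mul_assoc, B.u_sq, one_mul]

/-- Shifting `x` across `h`. -/
theorem BruhatRel.x_h' (B : BruhatRel x h u) (a : Fˣ) (t : F) (r : G) :
    x t * (h a * r) = h a * (x (((a⁻¹ : Fˣ) : F) * (a⁻¹ : Fˣ) * t) * r) := by
  rw [B.h_x']
  congr 2
  have ha : (a : F) ≠ 0 := a.ne_zero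
  rw [Units.val_inv_eq_inv_val]
  field_simp

/-- The two Bruhat forms. -/
def InForm (x : F → G) (h : Fˣ → G) (u : G) (g : G) : Prop :=
  (∃ t a, g = x t * h a) ∨ (∃ t a t', g = x t * (h a * (u * x t')))

theorem BruhatRel.form_x (B : BruhatRel x h u) (s : F) {g : G} (hg : InForm x h u g) :
    InForm x h u (x s * g) := by
  rcases hg with ⟨t, a, rfl⟩ | ⟨t, a, t', rfl⟩
  · exact Or.inl ⟨s + t, a, B.x_add' s t _⟩
  · exact Or.inr ⟨s + t, a, t', B.x_add' s t _⟩

theorem BruhatRel.form_h (B : BruhatRel x h u) (b : Fˣ) {g : G} (hg : InForm x h u g) :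
    InForm x h u (h b * g) := by
  rcases hg with ⟨t, a, rfl⟩ | ⟨t, a, t', rfl⟩
  · refine Or.inl ⟨(b : F) * b * t, b * a, ?_⟩
    rw [B.h_x', B.h_mul]
  · refine Or.inr ⟨(b : F) * b * t, b * a, t', ?_⟩
    rw [B.h_x', B.h_mul']

theorem BruhatRel.form_u (B : BruhatRel x h u) {g : G} (hg : InForm x h u g) :
    InForm x h u (u * g) := by
  rcases hg with ⟨t, a, rfl⟩ | ⟨t, a, t', rfl⟩
  · refine Or.inr ⟨0, a⁻¹, ((a⁻¹ : Fˣ) : F) * (a⁻¹ : Fˣ) * t, ?_⟩
    have h1 := B.x_h' a t 1
    rw [mul_one] at h1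
    rw [h1, mul_one, B.u_h', B.x_zero, one_mul]
  · by_cases ht : t = 0
    · subst ht
      refine Or.inl ⟨((a⁻¹ : Fˣ) : F) * (a⁻¹ : Fˣ) * t', a⁻¹, ?_⟩
      rw [B.x_zero, one_mul, B.u_h', B.u_u']
      have h1 := B.h_x a⁻¹ t'
      exact h1
    · set τ := t⁻¹ with hτ
      set c := (Units.mk0 t ht)⁻¹ with hc
      set σ := (a : F) * a * τ with hσ
      have hut : u * x t = x τ * (h c * (u * (x τ * u))) := by
        have h1 := B.u_x_u t ht
        calc u * x t = (u * x t * u) * u := by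
              rw [mul_assoc, mul_assoc, B.u_sq, mul_one]
          _ = x τ * (h c * (u * (x τ * u))) := by
              rw [h1]; simp only [mul_assoc, hτ, hc]
      have hxa : x τ * h a⁻¹ = h a⁻¹ * x σ := by
        rw [B.h_x]
        congr 2
        have ha : (a : F) ≠ 0 := a.ne_zero
        rw [hσ, Units.val_inv_eq_inv_val]
        field_simp
      refine Or.inr ⟨τ, c * a, σ + t', ?_⟩
      have e1 : u * (h a * (u * x t')) = h a⁻¹ * x t' := by
        rw [B.u_h', B.u_u']
      calc u * (x t * (h a * (u * x t')))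
          = (u * x t) * (h a * (u * x t')) := by rw [mul_assoc]
        _ = x τ * (h c * (u * (x τ * (u * (h a * (u * x t')))))) := by
            rw [hut]; simp only [mul_assoc]
        _ = x τ * (h c * (u * (x τ * (h a⁻¹ * x t')))) := by rw [e1]
        _ = x τ * (h c * (u * (h a⁻¹ * (x σ * x t')))) := by
            rw [← mul_assoc (x τ) (h a⁻¹), hxa, mul_assoc]
        _ = x τ * (h c * (h a * (u * (x σ * x t')))) := by
            rw [B.u_h', inv_inv]
        _ = x τ * (h (c * a) * (u * x (σ + t'))) := by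
            rw [B.h_mul', B.x_add]

/-- The generated subgroup. -/
def bruhatSub (x : F → G) (h : Fˣ → G) (u : G) : Subgroup G :=
  Subgroup.closure (Set.range x ∪ Set.range h ∪ {u})

theorem BruhatRel.x_sq (B : BruhatRel x h u) (h2 : (2 : F) = 0) (t : F) : (x t)⁻¹ = x t := by
  apply inv_eq_of_mul_eq_one_left
  rw [B.x_add, add_self_two h2, B.x_zero]

theorem BruhatRel.h_inv (B : BruhatRel x h u) (a : Fˣ) : (h a)⁻¹ = h a⁻¹ := by
  apply inv_eq_of_mul_eq_one_left
  rw [B.h_mul, inv_mul_cancel, B.h_one]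

theorem BruhatRel.u_inv (B : BruhatRel x h u) : u⁻¹ = u :=
  inv_eq_of_mul_eq_one_left B.u_sq

theorem BruhatRel.form_of_mem (B : BruhatRel x h u) (h2 : (2 : F) = 0) {g : G}
    (hg : g ∈ bruhatSub x h u) : InForm x h u g := by
  have hgen : ∀ y ∈ Set.range x ∪ Set.range h ∪ {u}, ∀ z, InForm x h u z → InForm x h u (y * z) := by
    rintro y ((⟨t, rfl⟩ | ⟨a, rfl⟩) | hy) z hz
    · exact B.form_x t hz
    · exact B.form_h a hz
    · rw [Set.mem_singleton_iff] at hy
      subst hy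
      exact B.form_u hz
  have hgen' : ∀ y ∈ Set.range x ∪ Set.range h ∪ {u}, y⁻¹ ∈ Set.range x ∪ Set.range h ∪ {u} := by
    rintro y ((⟨t, rfl⟩ | ⟨a, rfl⟩) | hy)
    · exact Or.inl (Or.inl ⟨t, (B.x_sq h2 t).symm⟩)
    · exact Or.inl (Or.inr ⟨a⁻¹, (B.h_inv a).symm⟩)
    · rw [Set.mem_singleton_iff] at hy
      subst hy
      rw [B.u_inv]
      exact Or.inr rfl
  induction hg using Subgroup.closure_induction_left with
  | one => exact Or.inl ⟨0, 1, by rw [B.x_zero, B.h_one, one_mul]⟩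
  | mul_left y hy z _ hz => exact hgen y hy z hz
  | inv_mul_cancel y hy z _ hz => exact hgen y⁻¹ (hgen' y hy) z hz

end Rel

section Lifts

variable {G : Type*} [Group G] [Finite G] {π : G →* SpecialLinearGroup (Fin 2) F}

/-- Two elements inverted by `u`, with the same image, are equal. -/
theorem inverted_unique (hK : OddKer π) {u d d' : G} (hd : u * d * u = d⁻¹) (hd' : u * d' * u = d'⁻¹)
    (he : π d = π d') : d = d' := by
  have h1 : (u * d) * (u * d) = 1 := by
    calc (u * d) * (u * d) = (u * d * u) * d := by group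
      _ = 1 := by rw [hd, inv_mul_cancel]
  have h3 : (u * d') * (u * d') = 1 := by
    calc (u * d') * (u * d') = (u * d' * u) * d' := by group
      _ = 1 := by rw [hd', inv_mul_cancel]
  have h4 : π (u * d) = π (u * d') := by rw [map_mul, map_mul, he]
  exact mul_left_cancel (hK.eq_of_sq h1 h3 h4)

theorem slH_pow (a : Fˣ) (n : ℕ) : (slH (a ^ n) : SLF) = slH a ^ n := by
  induction n with
  | zero => rw [pow_zero, pow_zero, slH_one]
  | succ n ih => rw [pow_succ, pow_succ, ← slH_mul, ih]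

theorem exists_bruhat_lifts [Finite F] (h2 : (2 : F) = 0) (hK : OddKer π) :
    ∃ (x : F → G) (h : Fˣ → G) (u : G), BruhatRel x h u ∧
      (∀ t, π (x t) = slTrans t) ∧ (∀ a, π (h a) = slH a) ∧ π u = slInv h2 ∧
      (∀ t, x t * x t = 1) ∧ (u * u = 1) ∧ (∀ a, ∃ i, i * i = 1 ∧ h a = u * i) := by
  have hX : ∀ t : F, ∃ y : G, y * y = 1 ∧ π y = slTrans t := fun t => hK.lift_sq (slTrans_sq h2 t)
  choose x hxs hxi using hX
  obtain ⟨u, hus, hui⟩ := hK.lift_sq (slU_sq h2)
  have hI : ∀ a : Fˣ, ∃ y : G, y * y = 1 ∧ π y = slInv h2 * slH a :=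
    fun a => hK.lift_sq (slU_slH_sq h2 a)
  choose I his hii using hI
  let h : Fˣ → G := fun a => u * I a
  have hh : ∀ a, h a = u * I a := fun a => rfl
  have hhi : ∀ a, π (h a) = slH a := by
    intro a
    rw [hh, map_mul, hui, hii, ← mul_assoc, slU_sq, one_mul]
  have hUinv : u⁻¹ = u := inv_eq_of_mul_eq_one_left hus
  have hinv : ∀ a, u * h a * u = (h a)⁻¹ := by
    intro a
    apply eq_inv_of_mul_eq_one_left
    rw [hh]
    calc u * (u * I a) * u * (u * I a) = (u * u) * I a * (u * u) * I a := by group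
      _ = I a * I a := by rw [hus, one_mul, mul_one]
      _ = 1 := his a
  have hinvinv : ∀ a, u * (h a)⁻¹ * u = ((h a)⁻¹)⁻¹ := by
    intro a
    rw [inv_inv]
    have h1 := hinv a
    have h3 : u * (h a)⁻¹ * u = u * (u * h a * u) * u := by rw [h1]
    rw [h3]
    calc u * (u * h a * u) * u = (u * u) * h a * (u * u) := by group
      _ = h a := by rw [hus, one_mul, mul_one]
  have hhinv : ∀ a, (h a)⁻¹ = h a⁻¹ := by
    intro a
    apply inverted_unique hK (hinvinv a) (hinv a⁻¹)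
    rw [map_inv, hhi, hhi, slH_inv]
  -- powers
  obtain ⟨g, hg⟩ := IsCyclic.exists_generator (α := Fˣ)
  have hpow : ∀ n : ℕ, h (g ^ n) = h g ^ n := by
    intro n
    have h1 : u * h g ^ n * u = (h g ^ n)⁻¹ := by
      have h3 : u * h g ^ n * u⁻¹ = (u * h g * u⁻¹) ^ n := (conj_pow).symm
      rw [hUinv, hinv] at h3
      rw [h3, inv_pow]
    apply inverted_unique hK (hinv _) h1
    rw [hhi, map_pow, hhi, slH_pow]
  have hmem : ∀ a : Fˣ, ∃ n : ℕ, g ^ n = a := by
    intro a
    have h1 : IsOfFinOrder g := isOfFinOrder_of_finite g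
    have h3 := h1.mem_powers_iff_mem_zpowers.mpr (hg a)
    obtain ⟨n, hn⟩ := h3
    exact ⟨n, hn⟩
  have hmul : ∀ a b, h a * h b = h (a * b) := by
    intro a b
    obtain ⟨n, rfl⟩ := hmem a
    obtain ⟨m, rfl⟩ := hmem b
    rw [← pow_add, hpow, hpow, hpow, pow_add]
  have hxadd : ∀ s t, x s * x t = x (s + t) := by
    intro s t
    have hc : Commute (x s) (x t) := by
      apply hK.comm_of_image (hxs t)
      show π (x s) * π (x t) = π (x t) * π (x s)
      rw [hxi, hxi, slTrans_mul, slTrans_mul, add_comm]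
    apply hK.eq_of_sq _ (hxs _)
    · rw [map_mul, hxi, hxi, hxi, slTrans_mul]
    · calc (x s * x t) * (x s * x t) = x s * (x t * x s) * x t := by group
        _ = x s * (x s * x t) * x t := by rw [hc.eq]
        _ = (x s * x s) * (x t * x t) := by group
        _ = 1 := by rw [hxs, hxs, one_mul]
  have hhx : ∀ (b : Fˣ) t, h b * x t = x ((b : F) * b * t) * h b := by
    intro b t
    have h1 : (h b * x t * (h b)⁻¹) * (h b * x t * (h b)⁻¹) = 1 := by
      calc (h b * x t * (h b)⁻¹) * (h b * x t * (h b)⁻¹) = h b * (x t * x t) * (h b)⁻¹ := by group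
        _ = 1 := by rw [hxs]; group
    have h3 : π (h b * x t * (h b)⁻¹) = π (x ((b : F) * b * t)) := by
      rw [map_mul, map_mul, map_inv, hhi, hxi, hxi, slH_slTrans]
      group
    have h4 := hK.eq_of_sq h1 (hxs _) h3
    rw [← h4]
    group
  have hxux : ∀ (t : F) (ht : t ≠ 0),
      u * x t * u = x t⁻¹ * h (Units.mk0 t ht)⁻¹ * u * x t⁻¹ := by
    intro t ht
    set τ := t⁻¹ with hτ
    set c := (Units.mk0 t ht)⁻¹ with hc
    have h1 : (u * x t * u) * (u * x t * u) = 1 := by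
      calc (u * x t * u) * (u * x t * u) = u * x t * (u * u) * x t * u := by group
        _ = u * (x t * x t) * u := by rw [hus, mul_one]; group
        _ = 1 := by rw [hxs, mul_one, hus]
    have h3 : (x τ * h c * u * x τ) * (x τ * h c * u * x τ) = 1 := by
      calc (x τ * h c * u * x τ) * (x τ * h c * u * x τ)
          = x τ * h c * u * (x τ * x τ) * h c * u * x τ := by group
        _ = x τ * h c * (u * h c * u) * x τ := by rw [hxs, mul_one]; group
        _ = x τ * (h c * (h c)⁻¹) * x τ := by rw [hinv]; group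
        _ = 1 := by rw [mul_inv_cancel, mul_one, hxs]
    apply hK.eq_of_sq h1 h3
    rw [map_mul, map_mul, map_mul, map_mul, map_mul, hui, hxi, hxi, hhi, slU_slTrans_slU h2 t ht]
  refine ⟨x, h, u, ⟨hxadd, hmul, hhx, hus, ?_, hxux⟩, hxi, hhi, hui, hxs, hus, fun a => ⟨I a, his a, rfl⟩⟩
  intro a
  rw [← hhinv, ← hinv]
  calc u * h a = u * h a * (u * u) := by rw [hus, mul_one]
    _ = u * h a * u * u := by group

end Lifts

section Main

variable {G : Type*} [Group G] [Finite G] {π : G →* SpecialLinearGroup (Fin 2) F}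

/-- **Splitting.** -/
theorem exists_complement_of_oddKer [Finite F] (h2 : (2 : F) = 0) (hK : OddKer π) :
    ∃ L : Subgroup G, (∀ l ∈ L, π l = 1 → l = 1) ∧ (∀ m, ∃ l ∈ L, π l = m) ∧
      (∀ l ∈ L, ∀ k ∈ π.ker, Commute l k) := by
  obtain ⟨x, h, u, B, hxi, hhi, hui, hxs, hus, hI⟩ := exists_bruhat_lifts h2 hK
  have hx1 : ∀ t, x t ∈ bruhatSub x h u := fun t =>
    Subgroup.subset_closure (Or.inl (Or.inl ⟨t, rfl⟩))
  have hh1 : ∀ a, h a ∈ bruhatSub x h u := fun a =>
    Subgroup.subset_closure (Or.inl (Or.inr ⟨a, rfl⟩))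
  have hu1 : u ∈ bruhatSub x h u := Subgroup.subset_closure (Or.inr rfl)
  have hsq : ∀ k ∈ π.ker, ∀ y : G, y * y = 1 → Commute k y := by
    intro k hk y hy
    by_cases hy1 : y = 1
    · rw [hy1]
      exact Commute.one_right k
    · exact hK.comm k hk y (order_of_sq hy hy1)
  refine ⟨bruhatSub x h u, ?_, ?_, ?_⟩
  · intro l hl hl1
    rcases B.form_of_mem h2 hl with ⟨t, a, rfl⟩ | ⟨t, a, t', rfl⟩
    · rw [map_mul, hxi, hhi] at hl1
      obtain ⟨rfl, rfl⟩ := eq_of_form_one hl1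
      rw [B.x_zero, B.h_one, one_mul]
    · exfalso
      rw [map_mul, map_mul, map_mul, hxi, hhi, hui, hxi, ← mul_assoc, ← mul_assoc] at hl1
      exact form_two_ne_one h2 _ _ _ hl1
  · intro m
    rcases sl_bruhat h2 m with ⟨t, a, rfl⟩ | ⟨t, a, t', rfl⟩
    · exact ⟨x t * h a, mul_mem (hx1 t) (hh1 a), by rw [map_mul, hxi, hhi]⟩
    · refine ⟨x t * h a * u * x t', mul_mem (mul_mem (mul_mem (hx1 t) (hh1 a)) hu1) (hx1 t'), ?_⟩
      rw [map_mul, map_mul, map_mul, hxi, hhi, hui, hxi]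
  · intro l hl k hk
    have hle : bruhatSub x h u ≤ Subgroup.centralizer (π.ker : Set G) := by
      apply (Subgroup.closure_le _).mpr
      rintro y ((⟨t, rfl⟩ | ⟨a, rfl⟩) | hy)
      · rw [SetLike.mem_coe, Subgroup.mem_centralizer_iff]
        intro k hk
        exact hsq k hk _ (hxs t)
      · rw [SetLike.mem_coe, Subgroup.mem_centralizer_iff]
        intro k hk
        obtain ⟨i, hi, hie⟩ := hI a
        rw [hie]
        exact ((hsq k hk _ hus).mul_right (hsq k hk _ hi))
      · rw [Set.mem_singleton_iff] at hy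
        subst hy
        rw [SetLike.mem_coe, Subgroup.mem_centralizer_iff]
        intro k hk
        exact hsq k hk _ hus
    exact ((Subgroup.mem_centralizer_iff.mp (hle hl)) k hk).symm

/-- The product decomposition. -/
theorem nonempty_mulEquiv_of_oddKer [Finite F] (h2 : (2 : F) = 0) (hK : OddKer π) :
    Nonempty (G ≃* SLF × π.ker) := by
  obtain ⟨L, hinj, hsurj, hcomm⟩ := exists_complement_of_oddKer h2 hK
  have he1 : Function.Bijective (π.comp L.subtype) := by
    constructor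
    · rw [injective_iff_map_eq_one]
      rintro ⟨l, hl⟩ h1
      exact Subtype.ext (hinj l hl h1)
    · intro m
      obtain ⟨l, hl, rfl⟩ := hsurj m
      exact ⟨⟨l, hl⟩, rfl⟩
  let e1 : L ≃* SLF := MulEquiv.ofBijective _ he1
  let f : L × π.ker →* G := MonoidHom.noncommCoprod L.subtype π.ker.subtype
    (fun a b => hcomm a a.2 b b.2)
  have hf : ∀ a b, f (a, b) = (a : G) * b := fun a b => rfl
  have hfb : Function.Bijective f := by
    constructor
    · rw [injective_iff_map_eq_one]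
      rintro ⟨a, b⟩ h1
      rw [hf] at h1
      have h3 : π (a : G) = 1 := by
        have h4 := congrArg π h1
        rw [map_mul, map_one, MonoidHom.mem_ker.mp b.2, mul_one] at h4
        exact h4
      have h5 : (a : G) = 1 := hinj a a.2 h3
      have h6 : (b : G) = 1 := by
        rw [h5, one_mul] at h1
        exact h1
      rw [Prod.mk_eq_one]
      exact ⟨Subtype.ext h5, Subtype.ext h6⟩
    · intro g
      obtain ⟨l, hl, hlg⟩ := hsurj (π g)
      have hk : l⁻¹ * g ∈ π.ker := by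
        rw [MonoidHom.mem_ker, map_mul, map_inv, hlg, inv_mul_cancel]
      refine ⟨(⟨l, hl⟩, ⟨l⁻¹ * g, hk⟩), ?_⟩
      rw [hf]
      show l * (l⁻¹ * g) = g
      group
  let e2 : L × π.ker ≃* G := MulEquiv.ofBijective f hfb
  exact ⟨e2.symm.trans (MulEquiv.prodCongr e1 (MulEquiv.refl _))⟩

end Main

end Cfsg.Agent.Lib.TwoFusion.AbC
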