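import Mathlib
import Cfsg.Agent.Lib.TwoFusion.AbMain
import Cfsg.Agent.Lib.TwoFusion.AbSplit
import Cfsg.Agent.Lib.OddLocal.UniqueP
import Cfsg.Agent.Lib.Classical.Transfer

/-!
# Final assembly: finite groups in which involution centralizers are abelian
-/

set_option autoImplicit false
set_option linter.unusedSectionVars false

namespace Cfsg.Agent.Lib.TwoFusion.AbC

open Subgroup Matrix

universe u

section

variable {G : Type*} [Group G] [Finite G]

/-- If all involutions commute, then the Sylow 2-subgroups are normal. -/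
theorem sylow_normal_of_inv_comm (hA : AbHyp G)
    (hn : ∀ t u : G, orderOf t = 2 → orderOf u = 2 → Commute t u) (heven : Even (Nat.card G))
    (P : Sylow 2 G) : (P : Subgroup G).Normal := by
  classical
  haveI : Fact (Nat.Prime 2) := ⟨Nat.prime_two⟩
  have hdvd : 2 ∣ Nat.card G := heven.two_dvd
  have hsub : Subsingleton (Sylow 2 G) := by
    refine ⟨fun P Q => ?_⟩
    obtain ⟨z, hz, -, hzc⟩ := Cfsg.Agent.Lib.TwoFusion.exists_central_involution (P.ne_bot_of_dvd_card hdvd)
    obtain ⟨z', hz', -, hzc'⟩ := Cfsg.Agent.Lib.TwoFusion.exists_central_involution (Q.ne_bot_of_dvd_card hdvd)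
    have hcomm : ∀ a ∈ (P : Subgroup G), ∀ b ∈ (Q : Subgroup G), Commute a b := by
      intro a ha b hb
      have h1 : Commute a z := hzc a ha
      have h2 : Commute z' z := hn z' z hz' hz
      have h3 : Commute a z' := hA.comm hz h1 h2
      exact hA.comm hz' h3 (hzc' b hb)
    have hle : (P : Subgroup G) ≤ normalizer (Q : Subgroup G) := by
      intro a ha
      rw [mem_normalizer_iff]
      intro b
      have hab : b ∈ (Q : Subgroup G) ↔ a * b * a⁻¹ ∈ (Q : Subgroup G) := by
        constructor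
        · intro hb
          have : a * b * a⁻¹ = b := by
            rw [(hcomm a ha b hb).eq]
            group
          rwa [this]
        · intro hb
          have h1 := hcomm a ha _ hb
          have h2 : a⁻¹ * (a * b * a⁻¹) * a = a * b * a⁻¹ := by
            rw [(h1.inv_left).eq]
            group
          have h3 : a⁻¹ * (a * b * a⁻¹) * a = b := by group
          rw [h3] at h2
          rw [h2]
          exact hb
      exact hab
    have hR : IsPGroup 2 ((P : Subgroup G) ⊔ (Q : Subgroup G) : Subgroup G) :=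
      P.isPGroup'.to_sup_of_normal_right' Q.isPGroup' hle
    have h1 := P.is_maximal' hR le_sup_left
    have h2 := Q.is_maximal' hR le_sup_right
    exact Sylow.ext (h1.symm.trans h2)
  exact Sylow.normal_of_subsingleton P

/-- If no two distinct involutions commute, the Sylow 2-subgroups are cyclic. -/
theorem sylow_cyclic_of_no_klein (hA : AbHyp G)
    (hk : ∀ t u : G, orderOf t = 2 → orderOf u = 2 → Commute t u → t = u)
    (P : Sylow 2 G) : IsCyclic (P : Subgroup G) := by
  classical
  haveI : Fact (Nat.Prime 2) := ⟨Nat.prime_two⟩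
  by_cases hP : (P : Subgroup G) = ⊥
  · rw [hP]
    infer_instance
  obtain ⟨z, hz, -, hzc⟩ := Cfsg.Agent.Lib.TwoFusion.exists_central_involution hP
  have hcomm : ∀ a b : (P : Subgroup G), a * b = b * a := by
    intro a b
    apply Subtype.ext
    exact hA.comm hz (hzc a a.2) (hzc b b.2)
  apply Cfsg.Agent.Lib.OddLocal.isCyclic_of_comm_uniqueP (p := 2) P.isPGroup' hcomm
  intro H K hH hK
  obtain ⟨x, hx⟩ := exists_prime_orderOf_dvd_card' (G := H) 2 (by rw [hH])
  obtain ⟨y, hy⟩ := exists_prime_orderOf_dvd_card' (G := K) 2 (by rw [hK])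
  have hx' : orderOf ((x : (P : Subgroup G)) : G) = 2 := by
    rw [Subgroup.orderOf_coe, Subgroup.orderOf_coe, hx]
  have hy' : orderOf ((y : (P : Subgroup G)) : G) = 2 := by
    rw [Subgroup.orderOf_coe, Subgroup.orderOf_coe, hy]
  have hxy : ((x : (P : Subgroup G)) : G) = ((y : (P : Subgroup G)) : G) :=
    hk _ _ hx' hy' (congrArg Subtype.val (hcomm (x : (P : Subgroup G)) (y : (P : Subgroup G))))
  have hxy' : (x : (P : Subgroup G)) = (y : (P : Subgroup G)) := Subtype.ext hxy
  have key : ∀ (S : Subgroup (P : Subgroup G)) (w : S), Nat.card S = 2 → orderOf w = 2 →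
      S = zpowers (w : (P : Subgroup G)) := by
    intro S w hS hw
    symm
    apply Subgroup.eq_of_le_of_card_ge
    · rw [zpowers_le]
      exact w.2
    · rw [Nat.card_zpowers, Subgroup.orderOf_coe, hw, hS]
  rw [key H x hH hx, key K y hK hy, hxy']

/-- Transport of an abelian group to `Type`. -/
theorem exists_commGroup_type0 (K : Type*) [Group K] [Finite K] (hc : ∀ a b : K, a * b = b * a) :
    ∃ (A : Type) (_ : CommGroup A) (_ : Finite A), Nat.card A = Nat.card K ∧ Nonempty (K ≃* A) := by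
  classical
  letI instK : CommGroup K := { (inferInstance : Group K) with mul_comm := hc }
  haveI : Small.{0} K := Countable.toSmall K
  refine ⟨Shrink.{0} K, inferInstance, inferInstance, ?_, ⟨(Shrink.mulEquiv).symm⟩⟩
  exact Nat.card_congr (equivShrink K).symm

end

section Sylow

variable {Q : Type*} [Group Q] [Finite Q]

/-- A Sylow 2-subgroup under the Zassenhaus hypothesis, which is neither cyclic nor normal. -/
theorem AbGood.exists_sylow_zass (hG : AbGood Q) (hZ : Cfsg.Agent.Lib.TwoFusion.ZassHyp Q) :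
    ∃ T : Sylow 2 Q, ¬ IsCyclic (T : Subgroup Q) ∧ ¬ (T : Subgroup Q).Normal := by
  classical
  haveI : Fact (Nat.Prime 2) := ⟨Nat.prime_two⟩
  obtain ⟨t, u, hto, huo, htu⟩ := hG.noncomm
  have hpt : IsPGroup 2 (zpowers t) := by
    rw [IsPGroup.iff_card, Nat.card_zpowers, hto]
    exact ⟨1, by norm_num⟩
  obtain ⟨T, hT⟩ := hpt.exists_le_sylow
  have htT : t ∈ (T : Subgroup Q) := hT (mem_zpowers _)
  have hTcent : centralizer ({t} : Set Q) = T := Cfsg.Agent.Lib.TwoFusion.centralizer_eq_of_mem hZ hto htT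
  have hnn : ¬ (T : Subgroup Q).Normal := by
    intro hn
    apply htu
    have hpu : IsPGroup 2 (zpowers u) := by
      rw [IsPGroup.iff_card, Nat.card_zpowers, huo]
      exact ⟨1, by norm_num⟩
    obtain ⟨T', hT'⟩ := hpu.exists_le_sylow
    have h1 : (T' : Subgroup Q) = T := by
      haveI := Sylow.unique_of_normal T hn
      rw [Subsingleton.elim T' T]
    have h2 : u ∈ (T : Subgroup Q) := h1 ▸ hT' (mem_zpowers _)
    exact Cfsg.Agent.Lib.TwoFusion.sylow_comm hZ htT h2
  have hSE := Cfsg.Agent.Lib.TwoFusion.isStronglyEmbedded_NT hZ hnn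
  obtain ⟨u₁, hu₁, hu₁H⟩ := Cfsg.Agent.Lib.TwoFusion.exists_involution_outside hZ hnn
  refine ⟨T, ?_, hnn⟩
  obtain ⟨a, b, ha, hb, hab, hcab⟩ := hG.klein
  obtain ⟨x, hx⟩ := isConj_iff.mp (Cfsg.Agent.Lib.TwoFusion.isConj_of_involutions hSE hu₁ hu₁H ha hto)
  have h1 : orderOf (x * b * x⁻¹) = 2 := by rw [order_conj, hb]
  have h2 : Commute (x * b * x⁻¹) t := by
    rw [← hx]
    exact conj_comm hcab.symm x
  have h3 : x * b * x⁻¹ ∈ (T : Subgroup Q) := by
    rw [← hTcent]
    exact mem_centralizer_singleton_iff.mpr h2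
  refine not_cyclic_of_two hto h1 htT h3 ?_
  intro he
  apply hab
  rw [← hx] at he
  exact mul_left_cancel (mul_right_cancel he)

theorem OddKer.comp_equiv {G Q' : Type*} [Group G] [Group Q'] {π : G →* Q} (h : OddKer π) (e : Q ≃* Q') :
    OddKer ((e : Q →* Q').comp π) := by
  have hker : ((e : Q →* Q').comp π).ker = π.ker := by
    ext k
    simp [MonoidHom.mem_ker]
  refine ⟨?_, ?_, ?_⟩
  · intro y
    obtain ⟨g, hg⟩ := h.surj (e.symm y)
    refine ⟨g, ?_⟩
    simp [hg]
  · rw [hker]
    exact h.odd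
  · rw [hker]
    exact h.comm

end Sylow

/-- The main case. -/
theorem structure_of_abGood {G : Type u} [Group G] [Finite G] (hG : AbGood G) :
    ∃ (F : Type) (_ : Field F) (_ : Fintype F) (A : Type) (_ : CommGroup A) (_ : Finite A),
      CharP F 2 ∧ Odd (Nat.card A) ∧ Nonempty (G ≃* Matrix.SpecialLinearGroup (Fin 2) F × A) := by
  classical
  haveI : Fact (Nat.Prime 2) := ⟨Nat.prime_two⟩
  have hP := abP_of_good _ G rfl hG
  have hZ := hG.zass_quot hP
  have hKm := hG.oddKer_mk
  have hQ := hKm.good hG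
  obtain ⟨T, hnc, hnn⟩ := hQ.exists_sylow_zass hZ
  obtain ⟨F, instF, hFin, hcard, ⟨e⟩⟩ := Cfsg.Agent.Lib.TwoFusion.exists_field_zass hZ hnc hnn
  letI := instF
  haveI := hFin
  letI : Fintype F := Fintype.ofFinite F
  obtain ⟨n, hn⟩ := (T.isPGroup').exists_card_eq
  have hn0 : n ≠ 0 := by
    rintro rfl
    have : IsCyclic (T : Subgroup (G ⧸ invCent G)) := by
      have h1 : Nat.card (T : Subgroup (G ⧸ invCent G)) = 1 := by simpa using hn
      have h2 : Subsingleton (T : Subgroup (G ⧸ invCent G)) := (Finite.card_le_one_iff_subsingleton).mp h1.le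
      infer_instance
    exact hnc this
  let F₀ := GaloisField 2 n
  letI : Fintype F₀ := Fintype.ofFinite F₀
  have hc₀ : Nat.card F₀ = 2 ^ n := GaloisField.card 2 n hn0
  have heq : Fintype.card F = Fintype.card F₀ := by
    rw [← Nat.card_eq_fintype_card, ← Nat.card_eq_fintype_card, hcard, hn, hc₀]
  let r : F ≃+* F₀ := FiniteField.ringEquivOfCardEq heq
  have h2 : (2 : F₀) = 0 := by
    have := CharP.cast_eq_zero F₀ 2
    exact_mod_cast this
  let e₀ : (G ⧸ invCent G) ≃* Matrix.SpecialLinearGroup (Fin 2) F₀ :=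
    (e.trans (Cfsg.Agent.Lib.Classical.pslCongr r)).trans (Cfsg.Agent.Lib.TwoFusion.slMulEquivPsl h2).symm
  have hK' := hKm.comp_equiv e₀
  set π := (e₀ : (G ⧸ invCent G) →* Matrix.SpecialLinearGroup (Fin 2) F₀).comp (QuotientGroup.mk' (invCent G)) with hπ
  obtain ⟨i⟩ := nonempty_mulEquiv_of_oddKer h2 hK'
  -- the kernel is abelian
  obtain ⟨t, -, ht, -, -⟩ := hG.noncomm
  have hc : ∀ a b : π.ker, a * b = b * a := by
    intro a b
    apply Subtype.ext
    exact hG.ab.comm ht (hK'.comm a a.2 t ht) (hK'.comm b b.2 t ht)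
  obtain ⟨A, instA, hAfin, hAcard, ⟨j⟩⟩ := exists_commGroup_type0 π.ker hc
  refine ⟨F₀, inferInstance, inferInstance, A, instA, hAfin, inferInstance, ?_, ?_⟩
  · rw [hAcard]
    exact hK'.odd
  · exact ⟨i.trans (MulEquiv.prodCongr (MulEquiv.refl _) j)⟩

/-- Finite groups with abelian involution centralizers. -/
theorem main_abelian_centralizers {G : Type u} [Group G] [Finite G] (heven : Even (Nat.card G))
    (h : ∀ t : G, orderOf t = 2 → IsMulCommutative ↥(Subgroup.centralizer ({t} : Set G))) :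
    (∀ P : Sylow 2 G, IsCyclic (P : Subgroup G)) ∨ (∀ P : Sylow 2 G, (P : Subgroup G).Normal) ∨
    (∃ (F : Type) (_ : Field F) (_ : Fintype F) (A : Type) (_ : CommGroup A) (_ : Finite A),
      CharP F 2 ∧ Odd (Nat.card A) ∧ Nonempty (G ≃* Matrix.SpecialLinearGroup (Fin 2) F × A)) := by
  by_cases hn : ∃ t u : G, orderOf t = 2 ∧ orderOf u = 2 ∧ ¬ Commute t u
  swap
  · push_neg at hn
    exact Or.inr (Or.inl (sylow_normal_of_inv_comm h hn heven))
  by_cases hk : ∃ t u : G, orderOf t = 2 ∧ orderOf u = 2 ∧ t ≠ u ∧ Commute t u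
  swap
  · push_neg at hk
    refine Or.inl (sylow_cyclic_of_no_klein h ?_)
    intro t u ht hu hc
    by_contra hne
    exact hk t u ht hu hne hc
  exact Or.inr (Or.inr (structure_of_abGood ⟨h, hn, hk⟩))

end Cfsg.Agent.Lib.TwoFusion.AbC
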