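import Mathlib
import Cfsg.Prelude.Def_QuasithinSetup
import Cfsg.Agent.Lib.Components.Local2
import Cfsg.Agent.Lib.TwoFusion.PTerminal2

/-!
# Groups with `F* = O_p`: subgroups, normalizers and the internal modules of `p`-subgroups
-/

set_option autoImplicit false
set_option linter.unusedSectionVars false

namespace Cfsg.Agent.Lib.TwoFusion

open Cfsg Subgroup Cfsg.Agent.Lib.Components
open scoped commutatorElement

variable {X : Type*} [Group X] [Finite X] {p : ℕ} [Fact p.Prime]

theorem isPType_of_isPGroup (h : IsPGroup p X) : IsPType p X := by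
  have hp : p.Prime := Fact.out
  refine ⟨?_, ?_⟩
  · rw [layer, sSup_eq_bot]
    intro K hK
    exfalso
    haveI : Group.IsNilpotent X := h.isNilpotent
    have h1 : Group.IsNilpotent K := inferInstance
    exact qs_not_isNilpotent hK.2 h1
  · rw [eq_bot_iff]
    intro x hx
    have h1 := orderOf_coprime_of_mem (coprime_card_pPrimeCore (G := X) p) hx
    obtain ⟨k, hk⟩ := IsPGroup.iff_orderOf.mp h x
    rw [hk] at h1
    have h2 : p ^ k = 1 := by
      rcases k with _ | k
      · simp
      · exfalso
        have := Nat.Coprime.coprime_dvd_left (dvd_pow_self p (Nat.succ_ne_zero k)) h1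
        exact hp.one_lt.ne' ((Nat.coprime_self p).mp this)
    rw [h2, orderOf_eq_one_iff] at hk
    exact hk

/-- If `C_X(O_p(X)) ≤ O_p(X)` then `F*(X) = O_p(X)`. -/
theorem isPType_of_centralizer_pCore_le (h : centralizer (pCore p X : Set X) ≤ pCore p X) :
    IsPType p X :=
  isPType_of_centralizer_le (T := pCore p X) (D := pCore p X) inferInstance pCore_isPGroup h
    (isPType_of_isPGroup pCore_isPGroup)

/-- Subnormal subgroups of groups with `F* = O_p` again have `F* = O_p`. -/
theorem isPType_of_subnormal (h : IsPType p X) {S : Subgroup X} (hS : S.IsSubnormal) :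
    IsPType p S := by
  refine ⟨?_, ?_⟩
  · rw [layer, sSup_eq_bot]
    intro K hK
    have h1 : IsComponent (K.map S.subtype) := component_map_of_subnormal hS hK
    have h2 : K.map S.subtype ≤ layer X := le_sSup h1
    rw [h.1, le_bot_iff] at h2
    exact (Subgroup.map_eq_bot_iff_of_injective _ S.subtype_injective).mp h2
  · have h1 := (map_pPrimeCore_subnormal (p := p) hS)
    rw [h.2, inf_bot_eq] at h1
    exact (Subgroup.map_eq_bot_iff_of_injective _ S.subtype_injective).mp h1

variable {G : Type*} [Group G] [Finite G]

/-- If `W` is normal in the `p`-group `U` and `F*(N(W)) = O_p(N(W))`, the same holds for `N(U)`. -/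
theorem isPType_normalizer_step {W U : Subgroup G} (hU : IsPGroup p U) (hWU : W ≤ U)
    (hn : U ≤ normalizer (W : Set G)) (h : IsPType p (normalizer (W : Set G))) :
    IsPType p (normalizer (U : Set G)) := by
  have h3 := isPType_normalizer h (P := U.subgroupOf (normalizer (W : Set G)))
    (isPGroup_subgroupOf hU)
  have h4 := isPType_congr (normalizerSubgroupOfEquiv hn) h3
  refine isPType_of_centralizer_le (T := U.subgroupOf (normalizer (U : Set G)))
    ((normal_subgroupOf_iff_le_normalizer le_normalizer).mpr le_rfl) (isPGroup_subgroupOf hU) ?_ h4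
  intro x hx
  rw [mem_subgroupOf, mem_normalizer_iff]
  intro w
  have key : ∀ w ∈ W, (x : G) * w = w * x := by
    intro w hw
    have h5 := mem_centralizer_iff.mp hx ⟨w, le_normalizer (hWU hw)⟩ (by
      rw [SetLike.mem_coe, mem_subgroupOf]; exact hWU hw)
    exact (congrArg Subtype.val h5).symm
  constructor
  · intro hw
    rw [key w hw]
    simpa using hw
  · intro hw
    have h6 := key _ hw
    have e : w = (x : G)⁻¹ * ((x : G) * w * (x : G)⁻¹) * x := by group
    rw [e, mul_assoc, ← h6]
    simpa using hw

/-- Going up inside a `p`-group. -/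
theorem isPType_normalizer_tower : ∀ (n : ℕ) (W U : Subgroup G), IsPGroup p U → W ≤ U →
    Nat.card U - Nat.card W = n → IsPType p (normalizer (W : Set G)) →
    IsPType p (normalizer (U : Set G)) := by
  intro n
  induction n using Nat.strong_induction_on with
  | _ n ih =>
    intro W U hU hWU hn h
    by_cases heq : W = U
    · rw [← heq]
      exact h
    · have hlt : W < U := lt_of_le_of_ne hWU heq
      have h1 := lt_inf_normalizer hU hlt
      have h2 : IsPType p (normalizer ((U ⊓ normalizer (W : Set G) : Subgroup G) : Set G)) :=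
        isPType_normalizer_step (hU.to_le inf_le_left) h1.le inf_le_right h
      have hcard1 : Nat.card W < Nat.card ↥(U ⊓ normalizer (W : Set G)) :=
        lt_of_not_ge fun h => h1.ne (Subgroup.eq_of_le_of_card_ge h1.le h)
      have hcard2 : Nat.card ↥(U ⊓ normalizer (W : Set G)) ≤ Nat.card U :=
        Subgroup.card_le_of_le inf_le_left
      have hcard3 : Nat.card U - Nat.card ↥(U ⊓ normalizer (W : Set G)) < n := by
        rw [← hn]
        have : Nat.card W ≤ Nat.card U := Subgroup.card_le_of_le hWU
        omega
      exact ih _ hcard3 _ U hU inf_le_left rfl h2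

end Cfsg.Agent.Lib.TwoFusion
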