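import Cfsg.Agent.Lib.TwoFusion.SN1
import Cfsg.Agent.S0183

/-!
# Groups in which every non-abelian subgroup is self-normalizing: the odd case
-/

set_option autoImplicit false
set_option linter.unusedSectionVars false

namespace Cfsg.Agent.Lib.TwoFusion.SN

open Subgroup
open scoped commutatorElement IsMulCommutative

universe u

section Str

variable {M : Type*} [Group M] [Finite M]

/-- A soluble non-nilpotent group in which every non-abelian subgroup is self-normalizing has a
self-normalizing cyclic subgroup generated by a `r`-element. -/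
theorem exists_selfNormalizing_of_not_nilpotent [Group.IsSolvable M] (hsn : SNHyp M)
    (hnil : ¬ Group.IsNilpotent M) :
    ∃ (r : ℕ) (y : M), r.Prime ∧ (∃ k : ℕ, orderOf y = r ^ k) ∧ y ≠ 1 ∧
      normalizer ((zpowers y : Subgroup M) : Set M) = zpowers y := by
  classical
  haveI hnt : Nontrivial M := by
    by_contra hcon
    rw [not_nontrivial_iff_subsingleton] at hcon
    exact hnil inferInstance
  have hcomm : commutator M ≠ ⊤ := (Group.IsSolvable.commutator_lt_top_of_nontrivial M).ne
  obtain ⟨A, hA, hcA⟩ := Cfsg.Agent.Lib.Basic.exists_isCoatom_ge hcomm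
  haveI hAn : A.Normal := Subgroup.Normal.of_commutator_le M hcA
  haveI hsimple : IsSimpleGroup (M ⧸ A) := Cfsg.Agent.Lib.Basic.isSimpleGroup_quotient_of_isCoatom hA
  have hquotc : ∀ a b : M ⧸ A, a * b = b * a := by
    intro a b
    obtain ⟨x, rfl⟩ := QuotientGroup.mk_surjective a
    obtain ⟨y, rfl⟩ := QuotientGroup.mk_surjective b
    rw [← QuotientGroup.mk_mul, ← QuotientGroup.mk_mul, QuotientGroup.eq]
    apply hcA
    have : (x * y)⁻¹ * (y * x) = ⁅y⁻¹, x⁻¹⁆ := by
      rw [commutatorElement_def]; group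
    rw [this]
    exact Subgroup.commutator_mem_commutator trivial trivial
  haveI : IsMulCommutative (M ⧸ A) := ⟨⟨hquotc⟩⟩
  have hrprime : (Nat.card (M ⧸ A)).Prime := IsSimpleGroup.prime_card
  set r := Nat.card (M ⧸ A) with hr
  haveI hrf : Fact r.Prime := ⟨hrprime⟩
  have hAidx : A.index = r := rfl
  have hAc : ∀ a ∈ A, ∀ b ∈ A, a * b = b * a := by
    obtain ⟨x, hx⟩ : ∃ x, x ∉ A := by
      by_contra hcon
      push Not at hcon
      exact hA.1 (eq_top_iff.mpr (fun x _ => hcon x))
    exact hsn.comm (by rw [normalizer_eq_top_iff.mpr hAn]; trivial) hx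
  -- the `r'`-part of `A`
  let T : Subgroup M :=
    { carrier := {a | a ∈ A ∧ Nat.Coprime (orderOf a) r}
      one_mem' := ⟨A.one_mem, by simp⟩
      mul_mem' := by
        rintro a b ⟨ha, ha'⟩ ⟨hb, hb'⟩
        refine ⟨A.mul_mem ha hb, ?_⟩
        have h1 : Commute a b := hAc a ha b hb
        have h2 := h1.orderOf_mul_dvd_mul_orderOf
        refine Nat.Coprime.coprime_dvd_left h2 ?_
        exact Nat.Coprime.mul_left ha' hb'
      inv_mem' := by
        rintro a ⟨ha, ha'⟩
        exact ⟨A.inv_mem ha, by rwa [orderOf_inv]⟩ }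
  have hTA : T ≤ A := fun a ha => ha.1
  have hTc : ∀ a ∈ T, ∀ b ∈ T, a * b = b * a := fun a ha b hb => hAc a ha.1 b hb.1
  have hTn : T.Normal := ⟨fun a ha g => ⟨hAn.conj_mem a ha.1 g, by
    rw [Cfsg.Agent.Lib.Transfer.orderOf_conj_eq]; exact ha.2⟩⟩
  haveI := hTn
  have hTcard : (Nat.card T).Coprime r := by
    rw [Nat.coprime_comm, Nat.Prime.coprime_iff_not_dvd hrprime]
    intro hd
    obtain ⟨x, hx⟩ := exists_prime_orderOf_dvd_card' r hd
    have h1 : Nat.Coprime (orderOf (x : M)) r := x.2.2
    rw [Subgroup.orderOf_coe, hx] at h1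
    exact hrprime.one_lt.ne' (by simpa using h1)
  have hpow : ∀ g : M, ∃ k : ℕ, g ^ (r ^ k) ∈ T := by
    intro g
    obtain ⟨a, b, hg, hab, ⟨k, hk⟩, hb, -, -⟩ := Cfsg.Agent.Lib.PGroups.exists_pPart r g
    have hbc : Nat.Coprime (orderOf b) r := ((Nat.Prime.coprime_iff_not_dvd hrprime).mpr hb).symm
    have hbA : b ∈ A := Cfsg.Agent.Lib.CNThm.mem_of_pow_eq_one_of_coprime_index A (pow_orderOf_eq_one b) (by rw [hAidx]; exact hbc)
    refine ⟨k, ?_⟩
    rw [hg, hab.mul_pow, ← hk, pow_orderOf_eq_one, one_mul]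
    exact ⟨A.pow_mem hbA _, Nat.Coprime.coprime_dvd_left (orderOf_pow_dvd _ |>.trans dvd_rfl) hbc⟩
  have hQ : IsPGroup r (M ⧸ T) := by
    intro x
    obtain ⟨g, rfl⟩ := QuotientGroup.mk_surjective x
    obtain ⟨k, hk⟩ := hpow g
    refine ⟨k, ?_⟩
    rw [← QuotientGroup.mk_pow, QuotientGroup.eq_one_iff]
    exact hk
  obtain ⟨k₀, hk₀⟩ := hQ.exists_card_eq
  have hTidx : T.index = r ^ k₀ := hk₀
  obtain ⟨R⟩ : Nonempty (Sylow r M) := inferInstance
  have hcp : T.IsComplement' (R : Subgroup M) := Cfsg.Agent.Lib.Transfer.isComplement'_of_hall R hTcard hTidx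
  have hdisj : ∀ x, x ∈ T → x ∈ (R : Subgroup M) → x = 1 := fun x h1 h2 =>
    Subgroup.disjoint_def.mp hcp.disjoint h1 h2
  -- `R` does not centralize `T`
  obtain ⟨y, hyR, t, htT, hyt⟩ : ∃ y ∈ (R : Subgroup M), ∃ t ∈ T, y * t ≠ t * y := by
    by_contra hcon
    push Not at hcon
    apply hnil
    have hTZ : T ≤ center M := by
      intro t ht
      rw [mem_center_iff]
      intro g
      obtain ⟨⟨a, b⟩, hab⟩ := hcp.2 g
      have hab' : (a : M) * (b : M) = g := hab
      rw [← hab']
      have h1 := hcon b b.2 t ht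
      have h2 := hTc a a.2 t ht
      calc (a : M) * b * t = a * (b * t) := by group
        _ = a * (t * b) := by rw [h1]
        _ = (a * t) * b := by group
        _ = (t * a) * b := by rw [h2]
        _ = t * (a * b) := by group
    have hZ : IsPGroup r (M ⧸ center M) := by
      intro x
      obtain ⟨g, rfl⟩ := QuotientGroup.mk_surjective x
      obtain ⟨k, hk⟩ := hpow g
      refine ⟨k, ?_⟩
      rw [← QuotientGroup.mk_pow, QuotientGroup.eq_one_iff]
      exact hTZ hk
    haveI : Group.IsNilpotent (M ⧸ center M) := hZ.isNilpotent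
    exact Group.of_quotient_center_nilpotent inferInstance
  have hyN : y ∈ normalizer (T : Set M) := by
    rw [normalizer_eq_top_iff.mpr hTn]; trivial
  have hYT : zpowers y ≤ normalizer (T : Set M) := zpowers_le.mpr hyN
  have hYR : zpowers y ≤ (R : Subgroup M) := zpowers_le.mpr hyR
  have hdisjY : ∀ x, x ∈ T → x ∈ zpowers y → x = 1 := fun x h1 h2 => hdisj x h1 (hYR h2)
  -- `R` is generated by `y`
  have hRY : zpowers y = (R : Subgroup M) := by
    by_contra hne
    obtain ⟨w, hwR, hwN, hwY⟩ := Cfsg.Agent.Lib.Transfer.exists_mem_normalizer_of_ne (R : Subgroup M) (zpowers y) R.2 hYR hne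
    have hwH : w ∈ T ⊔ zpowers y := by
      refine hsn.mem (mem_sup_right (mem_zpowers y)) (mem_sup_left htT) hyt ?_
      have h1 : zpowers w ≤ normalizer ((T ⊔ zpowers y : Subgroup M) : Set M) :=
        Cfsg.Agent.Lib.Basic.le_normalizer_sup
          (by rw [normalizer_eq_top_iff.mpr hTn]; exact le_top) (zpowers_le.mpr hwN)
      exact h1 (mem_zpowers w)
    obtain ⟨a, ha, b, hb, hab⟩ := Cfsg.Agent.Lib.OddLocal.mem_sup_of_le_normalizer hYT hwH
    have ha1 : a = 1 := by
      apply hdisj a ha
      have : a = w * b⁻¹ := by rw [← hab]; group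
      rw [this]
      exact (R : Subgroup M).mul_mem hwR ((R : Subgroup M).inv_mem (hYR hb))
    rw [ha1, one_mul] at hab
    exact hwY (hab ▸ hb)
  have hordy : ∃ k : ℕ, orderOf y = r ^ k := by
    obtain ⟨n, hn⟩ := IsPGroup.iff_orderOf.mp R.2 ⟨y, hyR⟩
    exact ⟨n, by rw [← hn, Subgroup.orderOf_mk]⟩
  obtain ⟨ky, hky⟩ := hordy
  have hy1 : y ≠ 1 := by
    rintro rfl
    exact hyt (by simp)
  have hyC : y ∉ centralizer (T : Set M) := by
    intro hc
    rw [mem_centralizer_iff] at hc
    exact hyt (hc t htT).symm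
  refine ⟨r, y, hrprime, ⟨ky, hky⟩, hy1, le_antisymm ?_ le_normalizer⟩
  intro g hg
  obtain ⟨⟨a, b⟩, hab⟩ := hcp.2 g
  have hab' : (a : M) * (b : M) = g := hab
  have hbY : (b : M) ∈ zpowers y := by rw [hRY]; exact b.2
  have haN : (a : M) ∈ normalizer ((zpowers y : Subgroup M) : Set M) := by
    have : (a : M) = g * (b : M)⁻¹ := by rw [← hab']; group
    rw [this]
    refine (normalizer _).mul_mem hg ((normalizer _).inv_mem ?_)
    exact (le_normalizer (H := zpowers y)) hbY
  have hcomma : Commute (a : M) y := by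
    have h1 : (a : M) * y * (a : M)⁻¹ ∈ zpowers y :=
      (mem_normalizer_iff.mp haN y).mp (mem_zpowers y)
    have h2 : (a : M) * y * (a : M)⁻¹ * y⁻¹ ∈ zpowers y :=
      (zpowers y).mul_mem h1 ((zpowers y).inv_mem (mem_zpowers y))
    have h3 : (a : M) * y * (a : M)⁻¹ * y⁻¹ ∈ T := by
      have : (a : M) * y * (a : M)⁻¹ * y⁻¹ = (a : M) * (y * (a : M)⁻¹ * y⁻¹) := by group
      rw [this]
      exact T.mul_mem a.2 (hTn.conj_mem _ (T.inv_mem a.2) y)
    have h4 := hdisjY _ h3 h2
    have h5 : (a : M) * y * (a : M)⁻¹ = y := mul_inv_eq_one.mp h4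
    exact mul_inv_eq_iff_eq_mul.mp h5
  have ha1 : (a : M) = 1 := by
    refine hsn.fix_eq_one hTc hyN ?_ hyC a.2 hcomma
    rw [hky]
    exact Nat.Coprime.pow_right _ hTcard
  rw [← hab', ha1, one_mul]
  exact hbY

end Str

section CN

variable {G : Type u} [Group G] [Finite G]

/-- Subgroups of order a prime in a cyclic subgroup are unique: a membership version. -/
theorem mem_zpowers_of_mem_zpowers_of_orderOf {y z w : G} {r : ℕ} (hr : r.Prime) (hz : z ∈ zpowers y)
    (hw : w ∈ zpowers y) (hzo : orderOf z = r) (hwo : orderOf w = r) : w ∈ zpowers z := by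
  classical
  haveI : Fact r.Prime := ⟨hr⟩
  obtain ⟨i, rfl⟩ := mem_zpowers_iff.mp hz
  have hwr : w ^ r = 1 := by rw [← hwo]; exact pow_orderOf_eq_one w
  let Y := zpowers y
  let z' : Y := ⟨y ^ i, hz⟩
  let w' : Y := ⟨w, hw⟩
  have hz'o : orderOf z' = r := by rw [Subgroup.orderOf_mk]; exact hzo
  have hw'r : w' ^ r = 1 := Subtype.ext hwr
  letI : Fintype Y := Fintype.ofFinite Y
  have hcard : (Finset.univ.filter (fun a : Y => a ^ r = 1)).card ≤ r :=
    IsCyclic.card_pow_eq_one_le hr.pos
  have hsub : (Finset.univ.filter (fun a : Y => a ∈ zpowers z')) ⊆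
      (Finset.univ.filter (fun a : Y => a ^ r = 1)) := by
    intro a ha
    simp only [Finset.mem_filter, Finset.mem_univ, true_and] at ha ⊢
    obtain ⟨j, rfl⟩ := mem_zpowers_iff.mp ha
    rw [← zpow_natCast, ← zpow_mul, mul_comm, zpow_mul, zpow_natCast, ← hz'o, pow_orderOf_eq_one, one_zpow]
  have hcz : (Finset.univ.filter (fun a : Y => a ∈ zpowers z')).card = r := by
    rw [← hz'o, ← Nat.card_zpowers, Nat.card_eq_fintype_card, Fintype.card_subtype]
  have heq := Finset.eq_of_subset_of_card_le hsub (by rw [hcz]; exact hcard)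
  have hmem : w' ∈ (Finset.univ.filter (fun a : Y => a ^ r = 1)) := by
    simp [hw'r]
  rw [← heq] at hmem
  simp only [Finset.mem_filter, Finset.mem_univ, true_and] at hmem
  obtain ⟨j, hj⟩ := mem_zpowers_iff.mp hmem
  refine mem_zpowers_iff.mpr ⟨j, ?_⟩
  have := congrArg Subtype.val hj
  simpa [z', w'] using this

/-- In a simple group with the property and soluble proper subgroups, centralizers are nilpotent. -/
theorem isNilpotent_centralizer_of_sn [IsSimpleGroup G] (hna : ¬ IsMulCommutative G) (hsn : SNHyp G)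
    (hsol : ∀ H : Subgroup G, H ≠ ⊤ → Group.IsSolvable H) {x : G} (hx : x ≠ 1) :
    Group.IsNilpotent (centralizer ({x} : Set G)) := by
  classical
  by_contra hnil
  -- a power of prime order
  have hord : orderOf x ≠ 1 := fun h => hx (orderOf_eq_one_iff.mp h)
  set r₀ := (orderOf x).minFac with hr₀
  have hr₀p : r₀.Prime := Nat.minFac_prime hord
  haveI : Fact r₀.Prime := ⟨hr₀p⟩
  have hdvd : r₀ ∣ orderOf x := Nat.minFac_dvd _
  set z := x ^ (orderOf x / r₀) with hz
  have hzo : orderOf z = r₀ := orderOf_pow_orderOf_div (orderOf_pos x).ne' hdvd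
  have hz1 : z ≠ 1 := by
    intro h
    rw [h, orderOf_one] at hzo
    exact hr₀p.one_lt.ne hzo
  set C := centralizer ({z} : Set G) with hC
  have hle : centralizer ({x} : Set G) ≤ C := by
    intro g hg
    rw [mem_centralizer_singleton_iff] at hg
    rw [hC, mem_centralizer_singleton_iff]
    have hc : Commute g x := hg
    exact (hc.pow_right _).eq
  have hCnil : ¬ Group.IsNilpotent C := by
    intro hn
    apply hnil
    haveI := hn
    have h1 : Group.IsNilpotent ((centralizer ({x} : Set G)).subgroupOf C) := inferInstance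
    exact nilpotent_of_mulEquiv (Subgroup.subgroupOfEquivOfLe hle)
  have hCtop : C ≠ ⊤ := by
    intro htop
    have hcen : z ∈ center G := by
      rw [mem_center_iff]
      intro g
      have : g ∈ C := by rw [htop]; trivial
      rw [hC, mem_centralizer_singleton_iff] at this
      exact this
    rcases (inferInstance : (center G).Normal).eq_bot_or_eq_top with h | h
    · rw [h, mem_bot] at hcen
      exact hz1 hcen
    · apply hna
      refine ⟨⟨fun a b => ?_⟩⟩
      have : a ∈ center G := by rw [h]; trivial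
      exact (mem_center_iff.mp this b).symm
  haveI hCs : Group.IsSolvable C := hsol C hCtop
  obtain ⟨r, y, hrp, ⟨ky, hky⟩, hy1, hyself⟩ :=
    exists_selfNormalizing_of_not_nilpotent (hsn.subgroup C) hCnil
  haveI hrf : Fact r.Prime := ⟨hrp⟩
  set yG : G := (y : G) with hyG
  have hyGord : orderOf yG = r ^ ky := by rw [hyG, Subgroup.orderOf_coe, hky]
  let zC : C := ⟨z, by rw [hC, mem_centralizer_singleton_iff]⟩
  have hzCc : ∀ a : C, a * zC = zC * a := by
    intro a
    apply Subtype.ext
    have : (a : G) ∈ centralizer ({z} : Set G) := a.2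
    rw [mem_centralizer_singleton_iff] at this
    exact this
  have hzCy : zC ∈ zpowers y := by
    rw [← hyself]
    apply mem_normalizer_of_commute
    intro a _
    exact hzCc a
  have hzY : z ∈ zpowers yG := by
    obtain ⟨i, hi⟩ := mem_zpowers_iff.mp hzCy
    refine mem_zpowers_iff.mpr ⟨i, ?_⟩
    have := congrArg Subtype.val hi
    simpa using this
  have hr₀r : r₀ = r := by
    have h1 : r₀ ∣ r ^ ky := by
      rw [← hyGord, ← hzo]
      have := Subgroup.orderOf_dvd_natCard _ hzY
      rwa [Nat.card_zpowers] at this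
    exact (Nat.prime_dvd_prime_iff_eq hr₀p hrp).mp (hr₀p.dvd_of_dvd_pow h1)
  -- non-commutativity of `C`
  have hCnc : ¬ IsMulCommutative C := by
    intro hc
    apply hCnil
    letI : CommGroup C := { (inferInstance : Group C) with mul_comm := fun a b => hc.is_comm.comm a b }
    infer_instance
  -- self-normalizing in `G`
  have hYself : normalizer ((zpowers yG : Subgroup G) : Set G) = zpowers yG := by
    refine le_antisymm ?_ le_normalizer
    intro g hg
    have h1 : g * z * g⁻¹ ∈ zpowers yG := (mem_normalizer_iff.mp hg z).mp hzY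
    have h2 : g * z * g⁻¹ ∈ zpowers z :=
      mem_zpowers_of_mem_zpowers_of_orderOf hrp hzY h1 (hzo.trans hr₀r)
        (by rw [Cfsg.Agent.Lib.Transfer.orderOf_conj_eq, hzo, hr₀r])
    have h3 : z ∈ zpowers (g * z * g⁻¹) :=
      mem_zpowers_of_mem_zpowers_of_orderOf hrp h1 hzY (by rw [Cfsg.Agent.Lib.Transfer.orderOf_conj_eq, hzo, hr₀r]) (hzo.trans hr₀r)
    have hgC : g ∈ normalizer (C : Set G) := by
      apply mem_normalizer_of_forall
      intro a ha
      rw [hC, mem_centralizer_singleton_iff] at ha ⊢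
      have ha' : Commute a z := ha
      have h4 : Commute (g * a * g⁻¹) (g * z * g⁻¹) := by
        have : Commute (MulAut.conj g a) (MulAut.conj g z) := ha'.map (MulAut.conj g)
        simpa [MulAut.conj_apply] using this
      obtain ⟨i, hi⟩ := mem_zpowers_iff.mp h3
      have h5 : Commute (g * a * g⁻¹) z := by
        rw [← hi]
        exact h4.zpow_right i
      exact h5.eq
    have hgCm : g ∈ C := by
      have : normalizer (C : Set G) = C := hsn C hCnc
      rw [this] at hgC
      exact hgC
    -- in `C`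
    have hgy : (⟨g, hgCm⟩ : C) ∈ zpowers y := by
      rw [← hyself]
      apply mem_normalizer_of_forall
      intro a ha
      obtain ⟨i, rfl⟩ := mem_zpowers_iff.mp ha
      have h6 : g * yG ^ i * g⁻¹ ∈ zpowers yG := (mem_normalizer_iff.mp hg _).mp (zpow_mem (mem_zpowers yG) i)
      obtain ⟨j, hj⟩ := mem_zpowers_iff.mp h6
      refine mem_zpowers_iff.mpr ⟨j, ?_⟩
      apply Subtype.ext
      simpa [hyG] using hj
    obtain ⟨i, hi⟩ := mem_zpowers_iff.mp hgy
    refine mem_zpowers_iff.mpr ⟨i, ?_⟩
    have := congrArg Subtype.val hi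
    simpa using this
  -- a Sylow subgroup
  have hYp : IsPGroup r (zpowers yG) := Cfsg.Agent.Lib.PGroups.isPGroup_zpowers_iff.mpr ⟨ky, hyGord⟩
  obtain ⟨P, hP⟩ := hYp.exists_le_sylow
  have hPY : zpowers yG = (P : Subgroup G) := by
    by_contra hne
    obtain ⟨w, -, hwN, hwY⟩ := Cfsg.Agent.Lib.Transfer.exists_mem_normalizer_of_ne (P : Subgroup G) (zpowers yG) P.2 hP hne
    rw [hYself] at hwN
    exact hwY hwN
  have hN : normalizer ((P : Subgroup G) : Set G) ≤ centralizer ((P : Subgroup G) : Set G) := by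
    rw [← hPY, hYself]
    intro g hg
    rw [mem_centralizer_iff]
    intro h hh
    obtain ⟨i, rfl⟩ := mem_zpowers_iff.mp hg
    obtain ⟨j, rfl⟩ := mem_zpowers_iff.mp hh
    exact ((Commute.refl yG).zpow_zpow j i).eq
  have hc := MonoidHom.ker_transferSylow_isComplement' P hN
  rcases (inferInstance : (MonoidHom.transferSylow P hN).ker.Normal).eq_bot_or_eq_top with h | h
  · apply hna
    rw [h] at hc
    have htop : (P : Subgroup G) = ⊤ := by
      have := hc.sup_eq_top
      simpa using this
    refine ⟨⟨fun a b => ?_⟩⟩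
    have ha : a ∈ (P : Subgroup G) := by rw [htop]; trivial
    have hb : b ∈ (P : Subgroup G) := by rw [htop]; trivial
    have h3 := (mem_centralizer_iff.mp (hN (le_normalizer (H := (P : Subgroup G)) hb))) a ha
    exact h3
  · rw [h] at hc
    have hbot : (P : Subgroup G) = ⊥ := by
      have h3 := hc.disjoint
      simpa using h3
    have : z ∈ (P : Subgroup G) := hP hzY
    rw [hbot, mem_bot] at this
    exact hz1 this

/-- Odd order groups in which all non-abelian subgroups are self-normalizing are soluble. -/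
theorem isSolvable_of_sn_odd_aux (n : ℕ) : ∀ (G : Type u) [Group G] [Finite G], Nat.card G = n → Odd n → SNHyp G →
    Group.IsSolvable G := by
  induction n using Nat.strong_induction_on with
  | _ n ih =>
    intro G _ _ hn hodd hsn
    have hsub : ∀ H : Subgroup G, H ≠ ⊤ → Group.IsSolvable H := by
      intro H hH
      have hlt : Nat.card H < n := by
        rw [← hn]
        have h1 := Subgroup.card_le_card_group H
        refine lt_of_le_of_ne h1 (fun e => hH (Subgroup.eq_top_of_card_eq H e))
      have hd : Nat.card H ∣ n := hn ▸ Subgroup.card_subgroup_dvd_card H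
      exact ih _ hlt H rfl (Odd.of_dvd_nat hodd hd) (hsn.subgroup H)
    by_cases hex : ∃ N : Subgroup G, N.Normal ∧ N ≠ ⊥ ∧ N ≠ ⊤
    · obtain ⟨N, hNn, hN1, hNt⟩ := hex
      haveI := hNn
      haveI hNs : Group.IsSolvable N := hsub N hNt
      have hcard : Nat.card (G ⧸ N) * Nat.card N = n := by
        rw [← hn, mul_comm, ← Subgroup.index_eq_card]
        exact Subgroup.card_mul_index N
      have hN2 : 1 < Nat.card N := by
        have h1 : Nat.card N ≠ 1 := fun e => hN1 (Subgroup.eq_bot_of_card_eq N e)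
        have h2 : 0 < Nat.card N := Nat.card_pos
        omega
      have hQ0 : 0 < Nat.card (G ⧸ N) := Nat.card_pos
      have hlt : Nat.card (G ⧸ N) < n := by
        rw [← hcard]
        exact lt_mul_of_one_lt_right hQ0 hN2
      have hQodd : Odd (Nat.card (G ⧸ N)) := Odd.of_dvd_nat hodd ⟨_, hcard.symm⟩
      haveI hQs : Group.IsSolvable (G ⧸ N) := ih _ hlt (G ⧸ N) rfl hQodd (hsn.quotient N)
      refine Group.isSolvable_of_ker_le_range N.subtype (QuotientGroup.mk' N) ?_
      rw [QuotientGroup.ker_mk', Subgroup.range_subtype]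
    · push Not at hex
      by_cases htriv : Subsingleton G
      · infer_instance
      haveI hnt : Nontrivial G := not_subsingleton_iff_nontrivial.mp htriv
      have hsimple : IsSimpleGroup G := ⟨fun N hN => by
        by_cases h : N = ⊥
        · exact Or.inl h
        · exact Or.inr (hex N hN h)⟩
      by_cases hcomm : IsMulCommutative G
      · letI : CommGroup G := { (inferInstance : Group G) with mul_comm := fun a b => hcomm.is_comm.comm a b }
        infer_instance
      · refine Cfsg.Agent.S0183.result (hn ▸ hodd) ?_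
        intro x hx
        exact isNilpotent_centralizer_of_sn hcomm hsn hsub hx

theorem isSolvable_of_sn_odd {G : Type u} [Group G] [Finite G] (hodd : Odd (Nat.card G)) (hsn : SNHyp G) :
    Group.IsSolvable G :=
  isSolvable_of_sn_odd_aux _ G rfl hodd hsn

end CN

end Cfsg.Agent.Lib.TwoFusion.SN
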