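import Cfsg.Agent.Lib.TwoFusion.SN2
import Cfsg.Agent.Lib.SmallSimple.Basic
import Cfsg.Agent.Lib.Transfer.Frobenius

/-!
# Groups in which every non-abelian subgroup is self-normalizing: the even case
-/

set_option autoImplicit false
set_option linter.unusedSectionVars false

namespace Cfsg.Agent.Lib.TwoFusion.SN

open Subgroup Cfsg
open scoped commutatorElement IsMulCommutative

universe u

section Even

variable {G : Type*} [Group G] [Finite G]

theorem pow_two_pow_eq_one_of_le {x : G} {k m : ℕ} (h : x ^ 2 ^ k = 1) (hkm : k ≤ m) : x ^ 2 ^ m = 1 := by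
  obtain ⟨j, rfl⟩ := Nat.exists_eq_add_of_le hkm
  rw [pow_add, pow_mul, h, one_pow]

/-- Normalizers normalize centralizers. -/
theorem mem_normalizer_centralizer {D : Subgroup G} {θ : G} (hθ : θ ∈ normalizer (D : Set G)) :
    θ ∈ normalizer ((centralizer (D : Set G) : Subgroup G) : Set G) := by
  apply mem_normalizer_of_forall
  intro a ha
  rw [mem_centralizer_iff] at ha ⊢
  intro d hd
  have h1 : θ⁻¹ * d * θ ∈ D := by
    have := (mem_normalizer_iff.mp hθ (θ⁻¹ * d * θ)).mpr (by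
      have h1 : θ * (θ⁻¹ * d * θ) * θ⁻¹ = d := by group
      rw [h1]; exact hd)
    exact this
  have h2 := ha _ h1
  calc d * (θ * a * θ⁻¹) = θ * ((θ⁻¹ * d * θ) * a) * θ⁻¹ := by group
    _ = θ * (a * (θ⁻¹ * d * θ)) * θ⁻¹ := by rw [h2]
    _ = _ := by group

/-- The Sylow `2`-subgroups are abelian unless there is a normal `2`-complement. -/
theorem sylow_comm (hsn : SNHyp G) (hno : ¬ HasNormalPComplement 2 G) (S : Sylow 2 G) :
    ∀ a ∈ (S : Subgroup G), ∀ b ∈ (S : Subgroup G), a * b = b * a := by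
  classical
  haveI : Fact (Nat.Prime 2) := ⟨Nat.prime_two⟩
  by_contra hS
  push Not at hS
  obtain ⟨a₀, ha₀, b₀, hb₀, hab₀⟩ := hS
  have hnon : ∀ S₀ : Sylow 2 G, ∃ a ∈ (S₀ : Subgroup G), ∃ b ∈ (S₀ : Subgroup G), a * b ≠ b * a := by
    intro S₀
    obtain ⟨g, rfl⟩ := MulAction.exists_smul_eq G S S₀
    refine ⟨g * a₀ * g⁻¹, Cfsg.Agent.Lib.Transfer.conj_mem_smul_sylow ha₀, g * b₀ * g⁻¹,
      Cfsg.Agent.Lib.Transfer.conj_mem_smul_sylow hb₀, ?_⟩
    intro h
    apply hab₀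
    have h1 : g * a₀ * g⁻¹ * (g * b₀ * g⁻¹) = g * (a₀ * b₀) * g⁻¹ := by group
    have h2 : g * b₀ * g⁻¹ * (g * a₀ * g⁻¹) = g * (b₀ * a₀) * g⁻¹ := by group
    rw [h1, h2] at h
    simpa using h
  apply hno
  apply Cfsg.Agent.Lib.Transfer.hasNormalPComplement_of_stable
  by_contra hstab
  unfold Cfsg.Agent.Lib.Transfer.FrobeniusStable at hstab
  push Not at hstab
  obtain ⟨D₀, hD₀, g₀, hg₀, hg₀c, hg₀C⟩ := hstab
  let 𝒟 : Set (Subgroup G) := {D | IsPGroup 2 D ∧ ∃ g, g ∈ normalizer (D : Set G) ∧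
    Nat.Coprime (orderOf g) 2 ∧ g ∉ centralizer (D : Set G)}
  obtain ⟨D, hDmax⟩ := (Set.toFinite 𝒟).exists_maximal ⟨D₀, hD₀, g₀, hg₀, hg₀c, hg₀C⟩
  obtain ⟨hD, θ, hθN, hθc, hθC⟩ := hDmax.1
  have hθ1 : θ ≠ 1 := by
    rintro rfl
    exact hθC (one_mem _)
  have hDc := hsn.comm_of_isPGroup hD hθN hθc hθ1
  set C := centralizer (D : Set G) with hC
  have hCN := mem_normalizer_centralizer hθN
  have hCc := hsn.comm hCN hθC
  have hDC : D ≤ C := by
    intro d hd
    rw [hC, mem_centralizer_iff]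
    intro e he
    exact hDc e he d hd
  let V : Subgroup G :=
    { carrier := {x | x ∈ C ∧ ∃ k : ℕ, x ^ 2 ^ k = 1}
      one_mem' := ⟨C.one_mem, 0, by simp⟩
      mul_mem' := by
        rintro a b ⟨ha, k, hk⟩ ⟨hb, m, hm⟩
        refine ⟨C.mul_mem ha hb, max k m, ?_⟩
        have hc : Commute a b := hCc a ha b hb
        rw [hc.mul_pow, pow_two_pow_eq_one_of_le hk (le_max_left _ _),
          pow_two_pow_eq_one_of_le hm (le_max_right _ _), one_mul]
      inv_mem' := by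
        rintro a ⟨ha, k, hk⟩
        exact ⟨C.inv_mem ha, k, by rw [inv_pow, hk, inv_one]⟩ }
  have hVp : IsPGroup 2 V := by
    intro x
    obtain ⟨k, hk⟩ := x.2.2
    exact ⟨k, Subtype.ext hk⟩
  have hDV : D ≤ V := by
    intro d hd
    obtain ⟨k, hk⟩ := hD ⟨d, hd⟩
    exact ⟨hDC hd, k, congrArg Subtype.val hk⟩
  have hVmem : V ∈ 𝒟 := by
    refine ⟨hVp, θ, ?_, hθc, ?_⟩
    · apply mem_normalizer_of_forall
      rintro a ⟨ha, k, hk⟩
      refine ⟨(mem_normalizer_iff.mp hCN a).mp ha, k, ?_⟩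
      rw [conj_pow, hk]
      group
    · intro h
      apply hθC
      rw [mem_centralizer_iff] at h ⊢
      intro d hd
      exact h d (hDV hd)
  have hVD : V ≤ D := hDmax.2 hVmem hDV
  have hV : ∀ x ∈ C, ∀ k : ℕ, x ^ 2 ^ k = 1 → x ∈ D := fun x hx k hk => hVD ⟨hx, k, hk⟩
  obtain ⟨S₀, hS₀⟩ := hD.exists_le_sylow
  have hne : D ≠ (S₀ : Subgroup G) := by
    intro h
    obtain ⟨a, ha, b, hb, hab⟩ := hnon S₀
    have h1 : θ ∈ (S₀ : Subgroup G) := hsn.mem ha hb hab (by rw [← h]; exact hθN)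
    exact hθ1 (Cfsg.Agent.Lib.Transfer.eq_one_of_coprime_of_isPGroup S₀.2 h1 hθc)
  obtain ⟨y, hyS, hyN, hyD⟩ := Cfsg.Agent.Lib.Transfer.exists_mem_normalizer_of_ne (S₀ : Subgroup G) D S₀.2 hS₀ hne
  -- a square in `D`
  obtain ⟨y₁, hy₁S, hy₁N, hy₁D, hy₁sq⟩ : ∃ y₁ ∈ (S₀ : Subgroup G), y₁ ∈ normalizer (D : Set G) ∧ y₁ ∉ D ∧ y₁ ^ 2 ∈ D := by
    have hex : ∃ k : ℕ, y ^ 2 ^ k ∈ D := by
      obtain ⟨k, hk⟩ := S₀.2 ⟨y, hyS⟩
      have : y ^ 2 ^ k = 1 := congrArg Subtype.val hk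
      exact ⟨k, by rw [this]; exact D.one_mem⟩
    have hk := Nat.find_spec hex
    have hmin := fun m => Nat.find_min hex (m := m)
    set k := Nat.find hex with hkd
    cases hk0 : k with
    | zero =>
      rw [hk0] at hk
      simp only [pow_zero, pow_one] at hk
      exact absurd hk hyD
    | succ j =>
      refine ⟨y ^ 2 ^ j, (S₀ : Subgroup G).pow_mem hyS _, (normalizer _).pow_mem hyN _, hmin j (by omega), ?_⟩
      rw [← pow_mul, ← pow_succ]
      rw [hk0] at hk
      exact hk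
  have hzN : zpowers y₁ ≤ normalizer (D : Set G) := zpowers_le.mpr hy₁N
  have hWS : D ⊔ zpowers y₁ = (S₀ : Subgroup G) := by
    by_contra hW
    obtain ⟨z, -, hzN', hzW⟩ := Cfsg.Agent.Lib.Transfer.exists_mem_normalizer_of_ne (S₀ : Subgroup G) (D ⊔ zpowers y₁) S₀.2
      (sup_le hS₀ (zpowers_le.mpr hy₁S)) hW
    have hWc := hsn.comm hzN' hzW
    apply hy₁D
    obtain ⟨k, hk⟩ := S₀.2 ⟨y₁, hy₁S⟩
    refine hV y₁ ?_ k (congrArg Subtype.val hk)
    rw [hC, mem_centralizer_iff]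
    intro d hd
    exact hWc d (mem_sup_left hd) y₁ (mem_sup_right (mem_zpowers y₁))
  have hSN : (S₀ : Subgroup G) ≤ normalizer (D : Set G) := by
    rw [← hWS]
    exact sup_le le_normalizer hzN
  -- two cosets
  have hcos : ∀ x ∈ (S₀ : Subgroup G), x ∈ D ∨ x * y₁⁻¹ ∈ D := by
    intro x hx
    rw [← hWS] at hx
    obtain ⟨d, hd, b, hb, rfl⟩ := Cfsg.Agent.Lib.OddLocal.mem_sup_of_le_normalizer hzN hx
    obtain ⟨i, rfl⟩ := mem_zpowers_iff.mp hb
    rcases Int.even_or_odd' i with ⟨j, rfl | rfl⟩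
    · left
      refine D.mul_mem hd ?_
      rw [zpow_mul, zpow_ofNat]
      exact D.zpow_mem hy₁sq j
    · right
      have : d * y₁ ^ (2 * j + 1) * y₁⁻¹ = d * (y₁ ^ 2) ^ j := by
        rw [zpow_add_one, zpow_mul, zpow_ofNat]
        group
      rw [this]
      exact D.mul_mem hd (D.zpow_mem hy₁sq j)
  -- the quotient
  set N := normalizer (D : Set G) with hNdef
  haveI hDn : (D.subgroupOf N).Normal := Subgroup.normal_in_normalizer
  let X := ↥N ⧸ D.subgroupOf N
  let π : ↥N →* X := QuotientGroup.mk' (D.subgroupOf N)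
  have hπ : Function.Surjective π := QuotientGroup.mk'_surjective _
  let S₁ : Sylow 2 N := S₀.subtype hSN
  let P : Sylow 2 X := S₁.mapSurjective hπ
  have hPe : (P : Subgroup X) = ((S₀ : Subgroup G).subgroupOf N).map π := by
    simp [P, S₁, Sylow.coe_subtype]
  let ty : ↥N := ⟨y₁, hy₁N⟩
  have hπD : ∀ x : N, π x = 1 ↔ (x : G) ∈ D := by
    intro x
    rw [show π x = ((x : N) : X) from rfl, QuotientGroup.eq_one_iff, mem_subgroupOf]
  have hty1 : π ty ≠ 1 := by
    intro h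
    exact hy₁D ((hπD ty).mp h)
  have htyP : π ty ∈ (P : Subgroup X) := by
    rw [hPe]
    exact ⟨ty, hy₁S, rfl⟩
  have hPel : ∀ p ∈ (P : Subgroup X), p = 1 ∨ p = π ty := by
    intro p hp
    rw [hPe] at hp
    obtain ⟨x, hx, rfl⟩ := hp
    rcases hcos x hx with h | h
    · left
      exact (hπD x).mpr h
    · right
      have : π (x * ty⁻¹) = 1 := (hπD _).mpr h
      rw [map_mul, map_inv, mul_inv_eq_one] at this
      exact this
  have hPN : normalizer ((P : Subgroup X) : Set X) ≤ centralizer ((P : Subgroup X) : Set X) := by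
    intro g hg
    rw [mem_centralizer_iff]
    intro p hp
    rcases hPel p hp with rfl | rfl
    · simp
    · have h1 : g * π ty * g⁻¹ ∈ (P : Subgroup X) := (mem_normalizer_iff.mp hg _).mp htyP
      rcases hPel _ h1 with h2 | h2
      · exfalso
        apply hty1
        have : π ty = g⁻¹ * (g * π ty * g⁻¹) * g := by group
        rw [this, h2]
        group
      · exact (mul_inv_eq_iff_eq_mul.mp h2).symm
  have hc := MonoidHom.ker_transferSylow_isComplement' P hPN
  set Lb := (MonoidHom.transferSylow P hPN).ker with hLb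
  haveI hLbn : Lb.Normal := inferInstance
  have htyL : π ty ∉ Lb := by
    intro h
    exact hty1 (Subgroup.disjoint_def.mp hc.disjoint h htyP)
  let tθ : ↥N := ⟨θ, hθN⟩
  have hθL : π tθ ∈ Lb := by
    rw [Cfsg.Agent.Lib.Transfer.mem_iff_coprime_of_isComplement' P hc]
    have h1 : orderOf (π tθ) ∣ orderOf tθ := orderOf_map_dvd π tθ
    rw [Subgroup.orderOf_mk] at h1
    exact Nat.Coprime.coprime_dvd_left h1 hθc
  let L : Subgroup G := (Lb.comap π).map N.subtype
  have hLmem : ∀ x : N, (x : G) ∈ L ↔ π x ∈ Lb := by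
    intro x
    constructor
    · rintro ⟨w, hw, hwx⟩
      have : w = x := Subtype.ext hwx
      rw [← this]
      exact hw
    · intro h
      exact ⟨x, h, rfl⟩
  have hLN : ∀ x ∈ L, x ∈ N := by
    rintro _ ⟨w, -, rfl⟩
    exact w.2
  have hDL : ∀ d ∈ D, d ∈ L := by
    intro d hd
    have hdN : d ∈ N := le_normalizer hd
    have h1 : π ⟨d, hdN⟩ = 1 := (hπD ⟨d, hdN⟩).mpr hd
    refine (hLmem ⟨d, hdN⟩).mpr ?_
    rw [h1]
    exact Lb.one_mem
  have hθLG : θ ∈ L := (hLmem tθ).mpr hθL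
  have hy₁L : y₁ ∉ L := fun h => htyL ((hLmem ty).mp h)
  obtain ⟨d, hd, hdθ⟩ : ∃ d ∈ D, θ * d ≠ d * θ := by
    by_contra hcon
    push Not at hcon
    apply hθC
    rw [hC, mem_centralizer_iff]
    intro d hd
    exact (hcon d hd).symm
  apply hy₁L
  refine hsn.mem hθLG (hDL d hd) hdθ ?_
  apply mem_normalizer_of_forall
  intro a ha
  have haN := hLN a ha
  have h1 := (hLmem ⟨a, haN⟩).mp ha
  have h2 : y₁ * a * y₁⁻¹ ∈ N := N.mul_mem (N.mul_mem hy₁N haN) (N.inv_mem hy₁N)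
  refine (hLmem ⟨_, h2⟩).mpr ?_
  have h3 : (⟨_, h2⟩ : N) = ty * ⟨a, haN⟩ * ty⁻¹ := rfl
  rw [h3, map_mul, map_mul, map_inv]
  exact hLbn.conj_mem _ h1 _

/-- Involution centralizers are abelian. -/
theorem centralizer_comm (hsn : SNHyp G) (hno : ¬ HasNormalPComplement 2 G)
    (hcyc : ∀ S : Sylow 2 G, ¬ IsCyclic (S : Subgroup G)) {t : G} (ht : orderOf t = 2) :
    IsMulCommutative (centralizer ({t} : Set G)) := by
  classical
  haveI : Fact (Nat.Prime 2) := ⟨Nat.prime_two⟩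
  set C := centralizer ({t} : Set G) with hC
  have hsnX : SNHyp C := hsn.subgroup C
  let tt : C := ⟨t, by rw [hC, mem_centralizer_singleton_iff]⟩
  have htt1 : tt ≠ 1 := by
    intro h
    have : t = 1 := congrArg Subtype.val h
    rw [this, orderOf_one] at ht
    omega
  have httc : ∀ a : C, a * tt = tt * a := by
    intro a
    apply Subtype.ext
    have : (a : G) ∈ centralizer ({t} : Set G) := a.2
    rw [mem_centralizer_singleton_iff] at this
    exact this
  have httord : orderOf tt = 2 := by rw [Subgroup.orderOf_mk]; exact ht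
  have hzp : IsPGroup 2 (zpowers tt) := Cfsg.Agent.Lib.PGroups.isPGroup_zpowers_iff.mpr ⟨1, by simpa using httord⟩
  have hcen : ∀ g : C, g ∈ normalizer ((zpowers tt : Subgroup C) : Set C) := by
    intro g
    apply mem_normalizer_of_forall
    intro a ha
    obtain ⟨i, rfl⟩ := mem_zpowers_iff.mp ha
    have : g * tt ^ i * g⁻¹ = tt ^ i := by
      have hc : Commute g tt := httc g
      rw [(hc.zpow_right i).eq]
      group
    rw [this]
    exact ha
  have hStab : Cfsg.Agent.Lib.Transfer.FrobeniusStable 2 C := by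
    intro D hD g hg hgc
    by_contra hgD
    have hg1 : g ≠ 1 := by
      rintro rfl
      exact hgD (one_mem _)
    have hD₁p : IsPGroup 2 (D ⊔ zpowers tt : Subgroup C) :=
      hD.to_sup_of_normal_right' hzp (fun x _ => hcen x)
    have hgN : g ∈ normalizer ((D ⊔ zpowers tt : Subgroup C) : Set C) := by
      have : zpowers g ≤ normalizer ((D ⊔ zpowers tt : Subgroup C) : Set C) :=
        Cfsg.Agent.Lib.Basic.le_normalizer_sup (zpowers_le.mpr hg) (zpowers_le.mpr (hcen g))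
      exact this (mem_zpowers g)
    have hD₁c := hsnX.comm_of_isPGroup hD₁p hgN hgc hg1
    have hcopc : Nat.Coprime (Nat.card (D ⊔ zpowers tt : Subgroup C)) (orderOf g) := by
      obtain ⟨k, hk⟩ := hD₁p.exists_card_eq
      rw [hk]
      exact Nat.Coprime.pow_left _ hgc.symm
    have hgC : g ∉ centralizer ((D ⊔ zpowers tt : Subgroup C) : Set C) := by
      intro h
      apply hgD
      rw [mem_centralizer_iff] at h ⊢
      intro d hd
      exact h d (mem_sup_left hd)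
    exact htt1 (hsnX.fix_eq_one hD₁c hgN hcopc hgC (mem_sup_right (mem_zpowers tt)) (httc g).symm)
  obtain ⟨S, hS⟩ : ∃ S : Sylow 2 G, t ∈ (S : Subgroup G) := by
    have h1 : IsPGroup 2 (zpowers t) := Cfsg.Agent.Lib.PGroups.isPGroup_zpowers_iff.mpr ⟨1, by simpa using ht⟩
    obtain ⟨S, hS⟩ := h1.exists_le_sylow
    exact ⟨S, hS (mem_zpowers t)⟩
  have hSc := sylow_comm hsn hno S
  have hSC : (S : Subgroup G) ≤ C := by
    intro s hs
    rw [hC, mem_centralizer_singleton_iff]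
    exact hSc s hs t hS
  let S₁ : Sylow 2 C := S.subtype hSC
  have hS₁m : ∀ x : C, x ∈ (S₁ : Subgroup C) ↔ (x : G) ∈ (S : Subgroup G) := by
    intro x
    simp [S₁, Sylow.coe_subtype, mem_subgroupOf]
  have httS : tt ∈ (S₁ : Subgroup C) := (hS₁m tt).mpr hS
  obtain ⟨K, hKn, hcp⟩ := Cfsg.Agent.Lib.Transfer.exists_normal_isComplement'_of_hasNormalPComplement
    (Cfsg.Agent.Lib.Transfer.hasNormalPComplement_of_stable hStab) S₁
  haveI := hKn
  have hdisj : ∀ x, x ∈ K → x ∈ (S₁ : Subgroup C) → x = 1 := fun x h1 h2 =>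
    Subgroup.disjoint_def.mp hcp.disjoint h1 h2
  have hS₁c : ∀ a ∈ (S₁ : Subgroup C), ∀ b ∈ (S₁ : Subgroup C), a * b = b * a := by
    intro a ha b hb
    apply Subtype.ext
    exact hSc a ((hS₁m a).mp ha) b ((hS₁m b).mp hb)
  have hdec : ∀ a : C, ∃ k ∈ K, ∃ s ∈ (S₁ : Subgroup C), a = k * s := by
    intro a
    obtain ⟨⟨k, s⟩, h⟩ := hcp.2 a
    exact ⟨k, k.2, s, s.2, h.symm⟩
  have hcommK : ∀ a b : C, a * b * a⁻¹ * b⁻¹ ∈ K := by
    intro a b
    obtain ⟨k, hk, s, hs, rfl⟩ := hdec a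
    obtain ⟨k', hk', s', hs', rfl⟩ := hdec b
    rw [← QuotientGroup.eq_one_iff]
    have hk1 : ((k : C) : C ⧸ K) = 1 := (QuotientGroup.eq_one_iff k).mpr hk
    have hk2 : ((k' : C) : C ⧸ K) = 1 := (QuotientGroup.eq_one_iff k').mpr hk'
    have hss : ((s : C) : C ⧸ K) * ((s' : C) : C ⧸ K) = ((s' : C) : C ⧸ K) * ((s : C) : C ⧸ K) := by
      rw [← QuotientGroup.mk_mul, ← QuotientGroup.mk_mul, hS₁c s hs s' hs']
    simp only [QuotientGroup.mk_mul, QuotientGroup.mk_inv, hk1, hk2, one_mul, mul_inv_rev, inv_one, mul_one]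
    rw [hss]
    group
  have hSK : ∀ u ∈ (S₁ : Subgroup C), ∀ k ∈ K, u * k = k * u := by
    intro u hu k hk
    by_contra huk
    set Y := K ⊔ zpowers u with hY
    have hYn : ∀ g : C, g ∈ Y := by
      intro g
      refine hsnX.mem (mem_sup_right (mem_zpowers u)) (mem_sup_left hk) huk ?_
      apply mem_normalizer_of_forall
      intro a ha
      have : g * a * g⁻¹ = (g * a * g⁻¹ * a⁻¹) * a := by group
      rw [this]
      exact Y.mul_mem (mem_sup_left (hcommK g a)) ha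
    have hzK : zpowers u ≤ normalizer (K : Set C) := by
      rw [normalizer_eq_top_iff.mpr hKn]; exact le_top
    have hSz : ∀ s ∈ (S₁ : Subgroup C), s ∈ zpowers u := by
      intro s hs
      obtain ⟨a, ha, b, hb, hab⟩ := Cfsg.Agent.Lib.OddLocal.mem_sup_of_le_normalizer hzK (hYn s)
      have ha1 : a = 1 := by
        apply hdisj a ha
        have : a = s * b⁻¹ := by rw [← hab]; group
        rw [this]
        exact (S₁ : Subgroup C).mul_mem hs ((S₁ : Subgroup C).inv_mem ((zpowers_le.mpr hu) hb))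
      rw [ha1, one_mul] at hab
      rw [← hab]
      exact hb
    apply hcyc S
    have hSe : (S : Subgroup G) = zpowers (u : G) := by
      apply le_antisymm
      · intro s hs
        have hsC : s ∈ C := hSC hs
        have h1 := hSz ⟨s, hsC⟩ ((hS₁m ⟨s, hsC⟩).mpr hs)
        obtain ⟨i, hi⟩ := mem_zpowers_iff.mp h1
        refine mem_zpowers_iff.mpr ⟨i, ?_⟩
        have := congrArg Subtype.val hi
        simpa using this
      · exact zpowers_le.mpr ((hS₁m u).mp hu)
    rw [hSe]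
    infer_instance
  have hKtop : tt ∉ K := fun h => htt1 (hdisj tt h httS)
  have hKc : ∀ a ∈ K, ∀ b ∈ K, a * b = b * a :=
    hsnX.comm (by rw [normalizer_eq_top_iff.mpr hKn]; trivial) hKtop
  refine ⟨⟨fun a b => ?_⟩⟩
  obtain ⟨k, hk, s, hs, rfl⟩ := hdec a
  obtain ⟨k', hk', s', hs', rfl⟩ := hdec b
  calc k * s * (k' * s') = k * (s * k') * s' := by group
    _ = k * (k' * s) * s' := by rw [hSK s hs k' hk']
    _ = (k * k') * (s * s') := by group
    _ = (k' * k) * (s' * s) := by rw [hKc k hk k' hk', hS₁c s hs s' hs']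
    _ = k' * (k * s') * s := by group
    _ = k' * (s' * k) * s := by rw [hSK s' hs' k hk]
    _ = _ := by group

end Even

end Cfsg.Agent.Lib.TwoFusion.SN
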