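import Cfsg.Agent.Lib.TwoFusion.SN3

/-!
# Matrix facts about `SL₂(F)` in characteristic two
-/

set_option autoImplicit false
set_option linter.unusedSectionVars false
set_option linter.unusedVariables false

namespace Cfsg.Agent.Lib.TwoFusion.SN

open Matrix Subgroup

section Mat

variable {F : Type*} [Field F]

local notation "SL2" => SpecialLinearGroup (Fin 2) F

theorem det2 (s : SpecialLinearGroup (Fin 2) F) : s.1 0 0 * s.1 1 1 - s.1 0 1 * s.1 1 0 = 1 := by
  have := s.2
  rwa [Matrix.det_fin_two] at this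

theorem coeM_mul (a b : SpecialLinearGroup (Fin 2) F) : (a * b).1 = a.1 * b.1 := rfl

theorem mul00 (a b : SpecialLinearGroup (Fin 2) F) : (a * b).1 0 0 = a.1 0 0 * b.1 0 0 + a.1 0 1 * b.1 1 0 := by
  rw [coeM_mul, Matrix.mul_apply, Fin.sum_univ_two]

theorem mul01 (a b : SpecialLinearGroup (Fin 2) F) : (a * b).1 0 1 = a.1 0 0 * b.1 0 1 + a.1 0 1 * b.1 1 1 := by
  rw [coeM_mul, Matrix.mul_apply, Fin.sum_univ_two]

theorem mul10 (a b : SpecialLinearGroup (Fin 2) F) : (a * b).1 1 0 = a.1 1 0 * b.1 0 0 + a.1 1 1 * b.1 1 0 := by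
  rw [coeM_mul, Matrix.mul_apply, Fin.sum_univ_two]

theorem mul11 (a b : SpecialLinearGroup (Fin 2) F) : (a * b).1 1 1 = a.1 1 0 * b.1 0 1 + a.1 1 1 * b.1 1 1 := by
  rw [coeM_mul, Matrix.mul_apply, Fin.sum_univ_two]

theorem one00 : (1 : SpecialLinearGroup (Fin 2) F).1 0 0 = 1 := by simp
theorem one01 : (1 : SpecialLinearGroup (Fin 2) F).1 0 1 = 0 := by simp
theorem one10 : (1 : SpecialLinearGroup (Fin 2) F).1 1 0 = 0 := by simp
theorem one11 : (1 : SpecialLinearGroup (Fin 2) F).1 1 1 = 1 := by simp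

theorem sl_ext {a b : SpecialLinearGroup (Fin 2) F} (h00 : a.1 0 0 = b.1 0 0) (h01 : a.1 0 1 = b.1 0 1)
    (h10 : a.1 1 0 = b.1 1 0) (h11 : a.1 1 1 = b.1 1 1) : a = b := by
  apply Subtype.ext
  ext i j
  fin_cases i <;> fin_cases j <;> assumption

theorem inv_coe (a : SpecialLinearGroup (Fin 2) F) : (a⁻¹).1 = !![a.1 1 1, - a.1 0 1; - a.1 1 0, a.1 0 0] := by
  have h : (a⁻¹).1 = adjugate a.1 := Matrix.SpecialLinearGroup.coe_inv a
  rw [h, Matrix.adjugate_fin_two]

theorem inv00 (a : SpecialLinearGroup (Fin 2) F) : (a⁻¹).1 0 0 = a.1 1 1 := by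
  rw [inv_coe]; simp

theorem inv01 (a : SpecialLinearGroup (Fin 2) F) : (a⁻¹).1 0 1 = - a.1 0 1 := by
  rw [inv_coe]; simp

theorem inv10 (a : SpecialLinearGroup (Fin 2) F) : (a⁻¹).1 1 0 = - a.1 1 0 := by
  rw [inv_coe]; simp

theorem inv11 (a : SpecialLinearGroup (Fin 2) F) : (a⁻¹).1 1 1 = a.1 0 0 := by
  rw [inv_coe]; simp

/-- The linear-algebra fact: the centralizer of a nonscalar `2 × 2` matrix is `F[A]`. -/
theorem exists_lin (A B : SpecialLinearGroup (Fin 2) F) (hc : A * B = B * A)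
    (hns : ¬ (A.1 0 1 = 0 ∧ A.1 1 0 = 0 ∧ A.1 0 0 = A.1 1 1)) :
    ∃ α β : F, B.1 0 0 = α + β * A.1 0 0 ∧ B.1 0 1 = β * A.1 0 1 ∧ B.1 1 0 = β * A.1 1 0 ∧
      B.1 1 1 = α + β * A.1 1 1 := by
  have e00 : A.1 0 0 * B.1 0 0 + A.1 0 1 * B.1 1 0 = B.1 0 0 * A.1 0 0 + B.1 0 1 * A.1 1 0 := by
    rw [← mul00, ← mul00, hc]
  have e01 : A.1 0 0 * B.1 0 1 + A.1 0 1 * B.1 1 1 = B.1 0 0 * A.1 0 1 + B.1 0 1 * A.1 1 1 := by
    rw [← mul01, ← mul01, hc]
  have e10 : A.1 1 0 * B.1 0 0 + A.1 1 1 * B.1 1 0 = B.1 1 0 * A.1 0 0 + B.1 1 1 * A.1 1 0 := by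
    rw [← mul10, ← mul10, hc]
  generalize A.1 0 0 = a at *
  generalize A.1 0 1 = b at *
  generalize A.1 1 0 = c at *
  generalize A.1 1 1 = d at *
  generalize B.1 0 0 = x at *
  generalize B.1 0 1 = y at *
  generalize B.1 1 0 = z at *
  generalize B.1 1 1 = w at *
  by_cases hb : b = 0
  · subst hb
    by_cases hc0 : c = 0
    · subst hc0
      have had : a - d ≠ 0 := by
        intro h
        exact hns ⟨rfl, rfl, sub_eq_zero.mp h⟩
      have hy : y = 0 := by
        have : (a - d) * y = 0 := by linear_combination e01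
        exact (mul_eq_zero.mp this).resolve_left had
      have hz : z = 0 := by
        have : (a - d) * z = 0 := by linear_combination -e10
        exact (mul_eq_zero.mp this).resolve_left had
      refine ⟨x - (x - w) / (a - d) * a, (x - w) / (a - d), by ring, by rw [hy]; ring, by rw [hz]; ring, ?_⟩
      field_simp
      ring
    · refine ⟨x - z / c * a, z / c, by ring, ?_, by field_simp, ?_⟩
      · have : y * c = 0 := by linear_combination -e00
        have hy : y = 0 := (mul_eq_zero.mp this).resolve_right hc0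
        rw [hy]; ring
      · field_simp
        linear_combination -e10
  · refine ⟨x - y / b * a, y / b, by ring, by field_simp, ?_, ?_⟩
    · field_simp
      linear_combination e00
    · field_simp
      linear_combination e01

variable (h2 : (2 : F) = 0)
include h2

/-- Nonidentity elements are nonscalar. -/
theorem nonscalar {v : SpecialLinearGroup (Fin 2) F} (hv : v ≠ 1) :
    ¬ (v.1 0 1 = 0 ∧ v.1 1 0 = 0 ∧ v.1 0 0 = v.1 1 1) := by
  rintro ⟨h1, h2', h3⟩
  apply hv
  have hd := det2 v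
  rw [h1, ← h3] at hd
  have ha : v.1 0 0 = 1 := by
    have : (v.1 0 0 - 1) * (v.1 0 0 - 1) = 0 := by
      linear_combination hd + (1 - v.1 0 0) * h2
    have := mul_self_eq_zero.mp this
    exact sub_eq_zero.mp this
  apply sl_ext
  · rw [ha, one00]
  · rw [h1, one01]
  · rw [h2', one10]
  · rw [← h3, ha, one11]

/-- Centralizers of nonidentity elements are abelian. -/
theorem sl_comm {v a b : SpecialLinearGroup (Fin 2) F} (hv : v ≠ 1) (ha : Commute a v) (hb : Commute b v) :
    Commute a b := by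
  obtain ⟨α, β, h1, h2', h3, h4⟩ := exists_lin v a ha.eq.symm (nonscalar h2 hv)
  obtain ⟨γ, δ, h5, h6, h7, h8⟩ := exists_lin v b hb.eq.symm (nonscalar h2 hv)
  apply sl_ext
  · simp only [mul00, h1, h2', h3, h5, h6, h7]; ring
  · simp only [mul01, h1, h2', h4, h5, h6, h8]; ring
  · simp only [mul10, h1, h3, h4, h5, h7, h8]; ring
  · simp only [mul11, h2', h3, h4, h6, h7, h8]; ring

/-- An involution has zero trace. -/
theorem trace_zero {t : SpecialLinearGroup (Fin 2) F} (htt : t * t = 1) : t.1 0 0 + t.1 1 1 = 0 := by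
  have e00 : t.1 0 0 * t.1 0 0 + t.1 0 1 * t.1 1 0 = 1 := by rw [← mul00, htt, one00]
  have e01 : t.1 0 0 * t.1 0 1 + t.1 0 1 * t.1 1 1 = 0 := by rw [← mul01, htt, one01]
  have e10 : t.1 1 0 * t.1 0 0 + t.1 1 1 * t.1 1 0 = 0 := by rw [← mul10, htt, one10]
  have e11 : t.1 1 0 * t.1 0 1 + t.1 1 1 * t.1 1 1 = 1 := by rw [← mul11, htt, one11]
  have hd := det2 t
  by_contra hτ
  have h0 : t.1 0 0 = 0 := by
    have : t.1 0 0 * (t.1 0 0 + t.1 1 1) = 0 := by linear_combination e00 + hd + h2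
    exact (mul_eq_zero.mp this).resolve_right hτ
  have h1 : t.1 1 1 = 0 := by
    have : t.1 1 1 * (t.1 0 0 + t.1 1 1) = 0 := by linear_combination e11 + hd + h2
    exact (mul_eq_zero.mp this).resolve_right hτ
  have h3 : t.1 0 1 = 0 := by
    have : t.1 0 1 * (t.1 0 0 + t.1 1 1) = 0 := by linear_combination e01
    exact (mul_eq_zero.mp this).resolve_right hτ
  rw [h0, h1, h3] at hd
  simp at hd

theorem neg_eq_self_of_two (x : F) : - x = x := by
  linear_combination (-x) * h2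

/-- Description of the centralizer of an involution: `s = 1 + β N`, where `N = t + 1`. -/
theorem coeff_of_comm {t s : SpecialLinearGroup (Fin 2) F} (ht1 : t ≠ 1) (htt : t * t = 1) (hc : Commute s t) :
    ∃ β : F, s.1 = 1 + β • (t.1 + 1) := by
  obtain ⟨α, β, h1, h2', h3, h4⟩ := exists_lin t s hc.eq.symm (nonscalar h2 ht1)
  have hτ := trace_zero h2 htt
  have ht0 : t.1 1 1 = t.1 0 0 := by
    linear_combination hτ + (-t.1 0 0) * h2
  have hdt := det2 t
  have hd := det2 s
  rw [h1, h2', h3, h4] at hd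
  have hab : α + β = 1 := by
    have : (α + β - 1) * (α + β - 1) = 0 := by
      rw [ht0] at hd hdt
      linear_combination hd + (β * β) * (-hdt) + (1 + α * β - α - β - α * β * t.1 0 0) * h2
    exact sub_eq_zero.mp (mul_self_eq_zero.mp this)
  refine ⟨β, ?_⟩
  have hα : α = 1 + β := by linear_combination hab + (-β) * h2
  ext i j
  fin_cases i <;> fin_cases j
  · simp only [Fin.zero_eta, Fin.isValue, Matrix.add_apply, Matrix.smul_apply, smul_eq_mul, Matrix.one_apply_eq]
    rw [h1, hα]; ring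
  · simp only [Fin.zero_eta, Fin.mk_one, Fin.isValue, Matrix.add_apply, Matrix.smul_apply, smul_eq_mul, Matrix.one_apply_ne (show (0 : Fin 2) ≠ 1 by decide)]
    rw [h2']; ring
  · simp only [Fin.zero_eta, Fin.mk_one, Fin.isValue, Matrix.add_apply, Matrix.smul_apply, smul_eq_mul, Matrix.one_apply_ne (show (1 : Fin 2) ≠ 0 by decide)]
    rw [h3]; ring
  · simp only [Fin.mk_one, Fin.isValue, Matrix.add_apply, Matrix.smul_apply, smul_eq_mul, Matrix.one_apply_eq]
    rw [h4, hα]; ring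

/-- Elements commuting with an involution are involutions or trivial. -/
theorem sq_of_comm {t g : SpecialLinearGroup (Fin 2) F} (ht1 : t ≠ 1) (htt : t * t = 1) (hc : Commute g t) :
    g * g = 1 := by
  obtain ⟨α, β, h1, h2', h3, h4⟩ := exists_lin t g hc.eq.symm (nonscalar h2 ht1)
  have hτ := trace_zero h2 htt
  have hdt := det2 t
  have hd := det2 g
  rw [h1, h2', h3, h4] at hd
  have ht0 : t.1 1 1 = t.1 0 0 := by
    linear_combination hτ + (-t.1 0 0) * h2
  rw [ht0] at hd hdt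
  apply sl_ext
  · rw [mul00, h1, h2', h3, one00, ]
    linear_combination hd + (β * β * t.1 0 1 * t.1 1 0) * h2
  · rw [mul01, h1, h2', h4, ht0, one01]
    linear_combination (α * β * t.1 0 1 + β * β * t.1 0 0 * t.1 0 1) * h2
  · rw [mul10, h1, h3, h4, ht0, one10]
    linear_combination (α * β * t.1 1 0 + β * β * t.1 0 0 * t.1 1 0) * h2
  · rw [mul11, h2', h3, h4, ht0, one11]
    linear_combination hd + (β * β * t.1 0 1 * t.1 1 0) * h2

end Mat

end Cfsg.Agent.Lib.TwoFusion.SN
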