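import Mathlib
import Cfsg.Agent.Lib.TwoFusion.StrongEmb
import Cfsg.Agent.Lib.TwoFusion.Basic

/-!
# Groups whose involution centralizers are elementary abelian `2`-groups (Zassenhaus situation)
-/

set_option autoImplicit false
set_option linter.unusedSectionVars false

namespace Cfsg.Agent.Lib.TwoFusion

open Cfsg Subgroup

variable {G : Type*} [Group G] [Finite G]

/-- All involution centralizers are elementary abelian `2`-groups. -/
def ZassHyp (G : Type*) [Group G] : Prop :=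
  ∀ t : G, orderOf t = 2 →
    IsMulCommutative (centralizer ({t} : Set G)) ∧ ∀ c ∈ centralizer ({t} : Set G), c ^ 2 = 1

/-- The normalizer of a Sylow `2`-subgroup. -/
abbrev NT (T : Sylow 2 G) : Subgroup G := normalizer (((T : Subgroup G)) : Set G)

/-- `H ∩ uHu⁻¹` for `H` the normalizer of `T`. -/
abbrev DD (T : Sylow 2 G) (u : G) : Subgroup G :=
  NT T ⊓ (NT T).map (MulAut.conj u).toMonoidHom

theorem isPGroup_centralizer_zass (hC : ZassHyp G) {t : G} (ht : orderOf t = 2) :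
    IsPGroup 2 (centralizer ({t} : Set G)) := by
  intro c
  refine ⟨1, ?_⟩
  apply Subtype.ext
  simpa using (hC t ht).2 c c.2

theorem exists_central_involution {T : Sylow 2 G} (hT : (T : Subgroup G) ≠ ⊥) :
    ∃ z : G, orderOf z = 2 ∧ z ∈ (T : Subgroup G) ∧ ∀ a ∈ (T : Subgroup G), a * z = z * a := by
  classical
  haveI : Fact (Nat.Prime 2) := ⟨Nat.prime_two⟩
  haveI : Nontrivial (T : Subgroup G) := (Subgroup.nontrivial_iff_ne_bot _).mpr hT
  have hp : IsPGroup 2 (T : Subgroup G) := T.isPGroup'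
  haveI hZ : Nontrivial (center (T : Subgroup G)) := hp.center_nontrivial
  have hpz : IsPGroup 2 (center (T : Subgroup G)) := hp.to_subgroup _
  have h2 : 2 ∣ Nat.card (center (T : Subgroup G)) := by
    rcases hpz.card_eq_or_dvd with h | h
    · exact absurd h Finite.one_lt_card.ne'
    · exact h
  obtain ⟨z, hz⟩ := exists_prime_orderOf_dvd_card' (p := 2) (G := center (T : Subgroup G)) h2
  refine ⟨((z : (T : Subgroup G)) : G), ?_, (z : (T : Subgroup G)).2, ?_⟩
  · rw [Subgroup.orderOf_coe, Subgroup.orderOf_coe]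
    exact hz
  · intro a ha
    have := Subgroup.mem_center_iff.mp z.2 ⟨a, ha⟩
    exact congrArg Subtype.val this

theorem sylow_eq_centralizer (hC : ZassHyp G) {T : Sylow 2 G} {z : G} (hz : orderOf z = 2)
    (hzc : ∀ a ∈ (T : Subgroup G), a * z = z * a) : centralizer ({z} : Set G) = T :=
  T.is_maximal' (isPGroup_centralizer_zass hC hz) (fun a ha => mem_centralizer_singleton_iff.mpr (hzc a ha))

theorem sylow_sq (hC : ZassHyp G) {T : Sylow 2 G} {a : G} (ha : a ∈ (T : Subgroup G)) : a ^ 2 = 1 := by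
  by_cases hT : (T : Subgroup G) = ⊥
  · rw [hT, Subgroup.mem_bot] at ha
    rw [ha, one_pow]
  · obtain ⟨z, hz, -, hzc⟩ := exists_central_involution hT
    have h1 := sylow_eq_centralizer hC hz hzc
    exact (hC z hz).2 a (h1 ▸ ha)

theorem sylow_comm (hC : ZassHyp G) {T : Sylow 2 G} {a b : G} (ha : a ∈ (T : Subgroup G))
    (hb : b ∈ (T : Subgroup G)) : a * b = b * a := by
  by_cases hT : (T : Subgroup G) = ⊥
  · rw [hT, Subgroup.mem_bot] at ha
    rw [ha, one_mul, mul_one]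
  · obtain ⟨z, hz, -, hzc⟩ := exists_central_involution hT
    have h1 := sylow_eq_centralizer hC hz hzc
    have h2 : IsMulCommutative (centralizer ({z} : Set G)) := (hC z hz).1
    have h3 := h2.is_comm.comm (⟨a, h1 ▸ ha⟩ : centralizer ({z} : Set G)) ⟨b, h1 ▸ hb⟩
    exact congrArg Subtype.val h3

theorem centralizer_eq_of_mem (hC : ZassHyp G) {T : Sylow 2 G} {t : G} (ht : orderOf t = 2)
    (htT : t ∈ (T : Subgroup G)) : centralizer ({t} : Set G) = T :=
  sylow_eq_centralizer hC ht (fun _ ha => sylow_comm hC ha htT)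

theorem mem_of_mem_normalizer_of_sq {T : Sylow 2 G} {i : G} (hi : i ∈ NT T) (h2 : i ^ 2 = 1) :
    i ∈ (T : Subgroup G) := by
  haveI : Fact (Nat.Prime 2) := ⟨Nat.prime_two⟩
  have hp : IsPGroup 2 (zpowers i) := by
    rw [IsPGroup.iff_card, Nat.card_zpowers]
    have h3 : orderOf i ∣ 2 := orderOf_dvd_of_pow_eq_one h2
    rcases (Nat.dvd_prime Nat.prime_two).mp h3 with h | h
    · exact ⟨0, by simpa using h⟩
    · exact ⟨1, by simpa using h⟩
  have h := IsPGroup.to_sup_of_normal_right' hp T.isPGroup' ((zpowers_le).mpr hi)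
  have h3 := T.is_maximal' h le_sup_right
  rw [← h3]
  exact mem_sup_left (mem_zpowers i)

theorem mem_normalizer_of_conj_mem (hC : ZassHyp G) {T : Sylow 2 G} {t g : G} (ht : orderOf t = 2)
    (htT : t ∈ (T : Subgroup G)) (hg : g⁻¹ * t * g ∈ (T : Subgroup G)) : g ∈ NT T := by
  have h1 : t ∈ ((g • T : Sylow 2 G) : Subgroup G) := by
    rw [Sylow.coe_subgroup_smul]
    refine ⟨_, hg, ?_⟩
    show g * (g⁻¹ * t * g) * g⁻¹ = t
    group
  have h2 := centralizer_eq_of_mem hC ht h1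
  have h3 := centralizer_eq_of_mem hC ht htT
  have h4 : ((g • T : Sylow 2 G) : Subgroup G) = T := h2.symm.trans h3
  have h5 : g • T = T := Sylow.ext h4
  exact Sylow.smul_eq_iff_mem_normalizer.mp h5

theorem ne_bot_of_not_normal {T : Sylow 2 G} (hnn : ¬ (T : Subgroup G).Normal) : (T : Subgroup G) ≠ ⊥ := by
  intro h
  apply hnn
  rw [h]
  infer_instance

theorem isStronglyEmbedded_NT (hC : ZassHyp G) {T : Sylow 2 G} (hnn : ¬ (T : Subgroup G).Normal) :
    IsStronglyEmbedded (NT T) := by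
  refine ⟨?_, ?_, ?_⟩
  · intro h
    apply hnn
    exact normalizer_eq_top_iff.mp h
  · obtain ⟨z, hz, hzT, -⟩ := exists_central_involution (ne_bot_of_not_normal hnn)
    exact even_iff_two_dvd.mpr (two_dvd_of_mem hz (le_normalizer hzT))
  · intro g hg
    by_contra h
    rw [Nat.not_odd_iff_even] at h
    obtain ⟨x, hx⟩ := exists_prime_orderOf_dvd_card' (p := 2)
      (G := ↥(NT T ⊓ (NT T).map (MulAut.conj g).toMonoidHom)) (even_iff_two_dvd.mp h)
    have hx' : orderOf (x : G) = 2 := by rw [Subgroup.orderOf_coe, hx]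
    have h2 : (x : G) ^ 2 = 1 := by
      rw [← hx', pow_orderOf_eq_one]
    have h3 : (x : G) ∈ (T : Subgroup G) := mem_of_mem_normalizer_of_sq x.2.1 h2
    have h4 : g⁻¹ * (x : G) * g ∈ NT T := mem_conj_map.mp x.2.2
    have h5 : g⁻¹ * (x : G) * g ∈ (T : Subgroup G) := by
      apply mem_of_mem_normalizer_of_sq h4
      have e : (g⁻¹ * (x : G) * g) ^ 2 = g⁻¹ * (x : G) ^ 2 * g := by
        rw [pow_two, pow_two]
        group
      rw [e, h2]
      group
    exact hg (mem_normalizer_of_conj_mem hC hx' h3 h5)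

section DD

variable (hC : ZassHyp G) {T : Sylow 2 G} (hnn : ¬ (T : Subgroup G).Normal) {u : G}
  (hu : orderOf u = 2) (huH : u ∉ NT T)

theorem mem_DD {x : G} : x ∈ DD T u ↔ x ∈ NT T ∧ u⁻¹ * x * u ∈ NT T := by
  rw [mem_inf, mem_conj_map]

include hC hnn huH in
theorem odd_of_mem_DD {x : G} (hx : x ∈ DD T u) : Odd (orderOf x) := by
  have h := (isStronglyEmbedded_NT hC hnn).2.2 u huH
  refine Odd.of_dvd_nat h ?_
  have := orderOf_dvd_natCard (⟨x, hx⟩ : ↥(DD T u))
  rwa [Subgroup.orderOf_mk] at this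

theorem eq_one_of_odd_of_sq {x : G} (hodd : Odd (orderOf x)) (h2 : x ^ 2 = 1) : x = 1 := by
  have h3 : orderOf x ∣ 2 := orderOf_dvd_of_pow_eq_one h2
  rcases (Nat.dvd_prime Nat.prime_two).mp h3 with h | h
  · exact orderOf_eq_one_iff.mp h
  · rw [h] at hodd
    exact absurd hodd (by decide)

include hC hnn huH in
theorem eq_one_of_mem_DD_of_mem_T {x : G} (hx : x ∈ DD T u) (hxT : x ∈ (T : Subgroup G)) : x = 1 :=
  eq_one_of_odd_of_sq (odd_of_mem_DD hC hnn huH hx) (sylow_sq hC hxT)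

include hC hnn huH in
theorem eq_one_of_commute {x t : G} (hx : x ∈ DD T u) (ht : orderOf t = 2)
    (htT : t ∈ (T : Subgroup G)) (hc : x * t = t * x) : x = 1 := by
  apply eq_one_of_mem_DD_of_mem_T hC hnn huH hx
  rw [← centralizer_eq_of_mem hC ht htT]
  exact mem_centralizer_singleton_iff.mpr hc

include hC hnn hu huH in
theorem exists_DD_conj {s t : G} (hs : orderOf s = 2) (hsT : s ∈ (T : Subgroup G)) (ht : orderOf t = 2)
    (htT : t ∈ (T : Subgroup G)) : ∃ d ∈ DD T u, u * d * u⁻¹ = d⁻¹ ∧ d * s * d⁻¹ = t := by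
  obtain ⟨d, h1, h2, h3, h4⟩ := exists_conj_inverted (isStronglyEmbedded_NT hC hnn) hu huH hs
    (le_normalizer hsT) ht (le_normalizer htT)
  exact ⟨d, mem_DD.mpr ⟨h1, h2⟩, h3, h4⟩

theorem conj_mem_T {h t : G} (hh : h ∈ NT T) (ht : t ∈ (T : Subgroup G)) : h * t * h⁻¹ ∈ (T : Subgroup G) :=
  (mem_normalizer_iff.mp hh t).mp ht

include hC hnn hu huH in
theorem DD_inverted {d : G} (hd : d ∈ DD T u) : u * d * u⁻¹ = d⁻¹ := by
  obtain ⟨z, hz, hzT, -⟩ := exists_central_involution (ne_bot_of_not_normal hnn)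
  have hs := conj_mem_T (T := T) hd.1 hzT
  have hso : orderOf (d * z * d⁻¹) = 2 := by rw [orderOf_conj_eq, hz]
  obtain ⟨d₀, hd₀, hinv, hconj⟩ := exists_DD_conj hC hnn hu huH hz hzT hso hs
  have h1 : d⁻¹ * d₀ = 1 := by
    apply eq_one_of_commute hC hnn huH ((DD T u).mul_mem ((DD T u).inv_mem hd) hd₀) hz hzT
    calc d⁻¹ * d₀ * z = d⁻¹ * (d₀ * z * d₀⁻¹) * d₀ := by group
      _ = d⁻¹ * (d * z * d⁻¹) * d₀ := by rw [hconj]
      _ = z * (d⁻¹ * d₀) := by group
  have h2 : d₀ = d := by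
    have : d₀ = d * (d⁻¹ * d₀) := by group
    rw [this, h1, mul_one]
  rwa [h2] at hinv

include hC hnn hu huH in
theorem exists_mul_T {h : G} (hh : h ∈ NT T) : ∃ d ∈ DD T u, ∃ t ∈ (T : Subgroup G), h = d * t := by
  obtain ⟨z, hz, hzT, -⟩ := exists_central_involution (ne_bot_of_not_normal hnn)
  have hs := conj_mem_T (T := T) hh hzT
  have hso : orderOf (h * z * h⁻¹) = 2 := by rw [orderOf_conj_eq, hz]
  obtain ⟨d, hd, -, hconj⟩ := exists_DD_conj hC hnn hu huH hz hzT hso hs
  refine ⟨d, hd, d⁻¹ * h, ?_, by group⟩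
  rw [← centralizer_eq_of_mem hC hz hzT]
  apply mem_centralizer_singleton_iff.mpr
  calc d⁻¹ * h * z = d⁻¹ * (h * z * h⁻¹) * h := by group
    _ = d⁻¹ * (d * z * d⁻¹) * h := by rw [hconj]
    _ = z * (d⁻¹ * h) := by group

theorem orderOf_two_of_sq {t : G} (h2 : t ^ 2 = 1) (h1 : t ≠ 1) : orderOf t = 2 :=
  orderOf_eq_prime h2 h1

include hC hnn hu huH in
theorem card_DD : Nat.card (DD T u) + 1 = Nat.card (T : Subgroup G) := by
  classical
  obtain ⟨z, hz, hzT, -⟩ := exists_central_involution (ne_bot_of_not_normal hnn)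
  have hz1 : z ≠ 1 := by
    rintro rfl
    simp at hz
  have hne : ∀ d : DD T u, ⟨(d : G) * z * (d : G)⁻¹, conj_mem_T d.2.1 hzT⟩ ≠ (1 : (T : Subgroup G)) := by
    intro d h
    have h1 : (d : G) * z * (d : G)⁻¹ = 1 := congrArg Subtype.val h
    apply hz1
    have h2 : z = (d : G)⁻¹ * ((d : G) * z * (d : G)⁻¹) * d := by group
    rw [h2, h1]
    group
  let f : DD T u → {t : (T : Subgroup G) // t ≠ 1} := fun d => ⟨⟨_, conj_mem_T d.2.1 hzT⟩, hne d⟩
  have hf : Function.Bijective f := by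
    constructor
    · intro d d' h
      have h1 : (d : G) * z * (d : G)⁻¹ = (d' : G) * z * (d' : G)⁻¹ :=
        congrArg (fun x => ((x : {t : (T : Subgroup G) // t ≠ 1}) : (T : Subgroup G)).1) h
      have h2 : (d' : G)⁻¹ * (d : G) = 1 := by
        apply eq_one_of_commute hC hnn huH ((DD T u).mul_mem ((DD T u).inv_mem d'.2) d.2) hz hzT
        calc (d' : G)⁻¹ * d * z = (d' : G)⁻¹ * ((d : G) * z * (d : G)⁻¹) * d := by group
          _ = (d' : G)⁻¹ * ((d' : G) * z * (d' : G)⁻¹) * d := by rw [h1]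
          _ = z * ((d' : G)⁻¹ * d) := by group
      apply Subtype.ext
      have h3 : (d : G) = d' * ((d' : G)⁻¹ * d) := by group
      rw [h3, h2, mul_one]
    · rintro ⟨⟨t, ht⟩, ht1⟩
      have ht1' : t ≠ 1 := fun h => ht1 (Subtype.ext h)
      have hto : orderOf t = 2 := orderOf_two_of_sq (sylow_sq hC ht) ht1'
      obtain ⟨d, hd, -, hconj⟩ := exists_DD_conj hC hnn hu huH hz hzT hto ht
      refine ⟨⟨d, hd⟩, ?_⟩
      apply Subtype.ext
      apply Subtype.ext
      exact hconj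
  have h1 : Nat.card (DD T u) = Nat.card {t : (T : Subgroup G) // t ≠ 1} :=
    Nat.card_congr (Equiv.ofBijective f hf)
  rw [h1, ← Finite.card_option, Nat.card_congr (Equiv.optionSubtypeNe (1 : (T : Subgroup G)))]

include hC hnn hu huH in
theorem isComplement_DD :
    IsComplement' ((DD T u).subgroupOf (NT T)) ((T : Subgroup G).subgroupOf (NT T)) := by
  apply isComplement'_of_disjoint_and_mul_eq_univ
  · rw [Subgroup.disjoint_def]
    rintro x hx hx'
    apply Subtype.ext
    exact eq_one_of_mem_DD_of_mem_T hC hnn huH hx hx'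
  · ext h
    simp only [Set.mem_mul, Set.mem_univ, iff_true]
    obtain ⟨d, hd, t, ht, e⟩ := exists_mul_T hC hnn hu huH h.2
    refine ⟨⟨d, hd.1⟩, hd, ⟨t, le_normalizer ht⟩, ht, ?_⟩
    apply Subtype.ext
    exact e.symm

include hC hnn hu huH in
theorem card_NT : Nat.card (NT T) = Nat.card (T : Subgroup G) * (Nat.card (T : Subgroup G) - 1) := by
  have h1 := (isComplement_DD hC hnn hu huH).card_mul_card
  have h2 : Nat.card ((DD T u).subgroupOf (NT T)) = Nat.card (DD T u) :=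
    Nat.card_congr (Subgroup.subgroupOfEquivOfLe inf_le_left).toEquiv
  have h3 : Nat.card ((T : Subgroup G).subgroupOf (NT T)) = Nat.card (T : Subgroup G) :=
    Nat.card_congr (Subgroup.subgroupOfEquivOfLe le_normalizer).toEquiv
  have h4 := card_DD hC hnn hu huH
  rw [← h1, h2, h3, mul_comm]
  congr 1
  omega

end DD

end Cfsg.Agent.Lib.TwoFusion
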