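import Cfsg.Agent.Lib.TwoFusion.SN4
import Cfsg.Agent.Lib.TwoFusion.Zass

/-!
# `SL₂(2ⁿ)` with `2ⁿ - 1` prime: every non-abelian subgroup is self-normalizing
-/

set_option autoImplicit false
set_option linter.unusedSectionVars false
set_option linter.unusedVariables false

namespace Cfsg.Agent.Lib.TwoFusion.SN

open Matrix Subgroup
open scoped commutatorElement

universe u

section CA

/-- The abstract properties of `SL₂` in characteristic two which are inherited by subgroups. -/
structure CAHyp (G : Type*) [Group G] : Prop where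
  comm : ∀ {v a b : G}, v ≠ 1 → Commute a v → Commute b v → Commute a b
  inv : ∀ {t g : G}, t ≠ 1 → t * t = 1 → Commute g t → g * g = 1
  conj : ∀ {v g : G}, v ≠ 1 → v * v ≠ 1 → Commute v (g * v * g⁻¹) → g * v * g⁻¹ = v ∨ g * v * g⁻¹ = v⁻¹

variable {G : Type*} [Group G]

theorem commute_coe {K : Subgroup G} {a b : K} : Commute (a : G) (b : G) ↔ Commute a b :=
  ⟨fun h => Subtype.ext h, fun h => congrArg Subtype.val h⟩

theorem CAHyp.subgroup (h : CAHyp G) (K : Subgroup G) : CAHyp K where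
  comm := by
    intro v a b hv ha hb
    have hv' : (v : G) ≠ 1 := fun e => hv (Subtype.ext e)
    exact commute_coe.mp (h.comm hv' (commute_coe.mpr ha) (commute_coe.mpr hb))
  inv := by
    intro t g ht htt hc
    have ht' : (t : G) ≠ 1 := fun e => ht (Subtype.ext e)
    have htt' : (t : G) * t = 1 := congrArg Subtype.val htt
    exact Subtype.ext (h.inv ht' htt' (commute_coe.mpr hc))
  conj := by
    intro v g hv hvv hc
    have hv' : (v : G) ≠ 1 := fun e => hv (Subtype.ext e)
    have hvv' : (v : G) * v ≠ 1 := fun e => hvv (Subtype.ext e)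
    have hc' : Commute (v : G) ((g : G) * v * (g : G)⁻¹) := commute_coe.mpr hc
    rcases h.conj hv' hvv' hc' with h1 | h1
    · exact Or.inl (Subtype.ext h1)
    · exact Or.inr (Subtype.ext h1)

theorem eq_one_of_mul_self_of_odd {X : Type*} [Group X] [Finite X] (hodd : Odd (Nat.card X)) {x : X} (h : x * x = 1) : x = 1 := by
  have h1 : orderOf x ∣ 2 := orderOf_dvd_of_pow_eq_one (by rw [pow_two, h])
  have h2 : orderOf x ∣ Nat.card X := orderOf_dvd_natCard x
  have h3 : Nat.Coprime 2 (Nat.card X) := Nat.coprime_two_left.mpr hodd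
  have h4 : orderOf x = 1 := Nat.eq_one_of_dvd_coprimes h3 h1 h2
  exact orderOf_eq_one_iff.mp h4

theorem CAHyp.commute_of_odd [Finite G] (h : CAHyp G) (hodd : Odd (Nat.card G)) {v g : G} (hv : v ≠ 1)
    (hc : Commute v (g * v * g⁻¹)) : Commute g v := by
  have hvv : v * v ≠ 1 := fun e => hv (eq_one_of_mul_self_of_odd hodd e)
  rcases h.conj hv hvv hc with h1 | h1
  · exact mul_inv_eq_iff_eq_mul.mp h1
  · have h2 : Commute (g * g) v := by
      have h3 : g * (g * v * g⁻¹) * g⁻¹ = v := by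
        rw [h1]
        have : g * v⁻¹ * g⁻¹ = (g * v * g⁻¹)⁻¹ := by group
        rw [this, h1, inv_inv]
      have h4 : g * g * v = v * (g * g) := by
        calc g * g * v = (g * (g * v * g⁻¹) * g⁻¹) * (g * g) := by group
          _ = _ := by rw [h3]
      exact h4
    obtain ⟨k, hk⟩ := Odd.of_dvd_nat hodd (orderOf_dvd_natCard g)
    have h5 : (g * g) ^ (k + 1) = g := by
      rw [← pow_two, ← pow_mul]
      have : 2 * (k + 1) = orderOf g + 1 := by omega
      rw [this, pow_succ, pow_orderOf_eq_one, one_mul]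
    have h6 := h2.pow_left (k + 1)
    rwa [h5] at h6

theorem CAHyp.odd_comm_aux (n : ℕ) : ∀ (G : Type u) [Group G] [Finite G], Nat.card G = n → Odd n → CAHyp G →
    ∀ a b : G, a * b = b * a := by
  induction n using Nat.strong_induction_on with
  | _ n ih =>
    intro G _ _ hn hodd h
    by_cases htriv : Subsingleton G
    · intro a b
      exact Subsingleton.elim _ _
    haveI hnt : Nontrivial G := not_subsingleton_iff_nontrivial.mp htriv
    have hCN : Cfsg.IsCNGroup G := by
      intro g hg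
      letI : CommGroup (centralizer ({g} : Set G)) :=
        { (inferInstance : Group (centralizer ({g} : Set G))) with
          mul_comm := by
            intro a b
            apply Subtype.ext
            have ha : (a : G) ∈ centralizer ({g} : Set G) := a.2
            have hb : (b : G) ∈ centralizer ({g} : Set G) := b.2
            rw [mem_centralizer_singleton_iff] at ha hb
            exact h.comm hg ha hb }
      infer_instance
    haveI hsol : Group.IsSolvable G := Cfsg.Agent.S0183.result (hn ▸ hodd) hCN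
    have hD : commutator G ≠ ⊤ := (Group.IsSolvable.commutator_lt_top_of_nontrivial G).ne
    have hlt : Nat.card (commutator G) < n := by
      rw [← hn]
      exact lt_of_le_of_ne (Subgroup.card_le_card_group _) (fun e => hD (Subgroup.eq_top_of_card_eq _ e))
    have hd : Nat.card (commutator G) ∣ n := hn ▸ Subgroup.card_subgroup_dvd_card _
    have hDc := ih _ hlt (commutator G) rfl (Odd.of_dvd_nat hodd hd) (h.subgroup _)
    by_cases hbot : commutator G = ⊥
    · intro a b
      have h1 : ⁅a, b⁆ ∈ commutator G := Subgroup.commutator_mem_commutator trivial trivial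
      rw [hbot, mem_bot, commutatorElement_eq_one_iff_mul_comm] at h1
      exact h1
    · obtain ⟨v, hv, hv1⟩ : ∃ v, v ∈ commutator G ∧ v ≠ 1 := by
        obtain ⟨x, hx⟩ := (Subgroup.ne_bot_iff_exists_ne_one).mp hbot
        exact ⟨x.1, x.2, fun e => hx (Subtype.ext e)⟩
      have hcomm : ∀ g : G, Commute g v := by
        intro g
        apply h.commute_of_odd (hn ▸ hodd) hv1
        have h1 : g * v * g⁻¹ ∈ commutator G := (inferInstance : (commutator G).Normal).conj_mem v hv g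
        have := hDc ⟨v, hv⟩ ⟨_, h1⟩
        exact congrArg Subtype.val this
      intro a b
      exact (h.comm hv1 (hcomm a) (hcomm b)).eq

theorem CAHyp.odd_comm {G : Type u} [Group G] [Finite G] (h : CAHyp G) (hodd : Odd (Nat.card G)) (a b : G) : a * b = b * a :=
  CAHyp.odd_comm_aux _ G rfl hodd h a b

end CA

section Frat

variable {G : Type*} [Group G] [Finite G]

/-- The Frattini argument in a form convenient for us. -/
theorem exists_frattini {H : Subgroup G} (P : Sylow 2 H) {g : G} (hg : g ∈ normalizer (H : Set G)) :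
    ∃ h ∈ H, ∀ p : H, p ∈ (P : Subgroup H) → ∃ q : H, q ∈ (P : Subgroup H) ∧ (q : G) = (h⁻¹ * g) * p * (h⁻¹ * g)⁻¹ := by
  haveI : Fact (Nat.Prime 2) := ⟨Nat.prime_two⟩
  let σ : H →* H :=
    { toFun := fun x => ⟨g * x * g⁻¹, (mem_normalizer_iff.mp hg x).mp x.2⟩
      map_one' := by apply Subtype.ext; simp
      map_mul' := by
        intro x y
        apply Subtype.ext
        change g * ((x : G) * y) * g⁻¹ = (g * x * g⁻¹) * (g * y * g⁻¹)
        group }
  have hσ : Function.Surjective σ := by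
    intro x
    have h1 : g⁻¹ * x * g ∈ H := by
      have := (mem_normalizer_iff.mp hg (g⁻¹ * x * g)).mpr (by
        have h2 : g * (g⁻¹ * x * g) * g⁻¹ = x := by group
        rw [h2]; exact x.2)
      exact this
    refine ⟨⟨_, h1⟩, Subtype.ext ?_⟩
    change g * (g⁻¹ * x * g) * g⁻¹ = x
    group
  let Q : Sylow 2 H := P.mapSurjective hσ
  obtain ⟨h, hh⟩ := MulAction.exists_smul_eq H P Q
  refine ⟨h, h.2, ?_⟩
  intro p hp
  have h1 : σ p ∈ (Q : Subgroup H) := by
    change σ p ∈ (P : Subgroup H).map σ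
    exact ⟨p, hp, rfl⟩
  rw [← hh] at h1
  have h2 := Cfsg.Agent.Lib.Transfer.mem_smul_sylow.mp h1
  refine ⟨_, h2, ?_⟩
  change (h : G)⁻¹ * (g * p * g⁻¹) * h = _
  group

/-- Case (b): the normalizer of the Sylow `2`-subgroup of `H` centralizes it. -/
theorem CAHyp.mem_of_b (hG : CAHyp G) {H : Subgroup G} (hH : ¬ IsMulCommutative H) (P : Sylow 2 H) {t : H}
    (htP : t ∈ (P : Subgroup H)) (ht1 : t ≠ 1) (htt : t * t = 1) (hPt : ∀ p ∈ (P : Subgroup H), Commute p t)
    (hN : ∀ u ∈ normalizer ((P : Subgroup H) : Set H), Commute u t) {g : G} (hg : g ∈ normalizer (H : Set G))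
    (hgP : ∀ p : H, p ∈ (P : Subgroup H) → ∃ q : H, q ∈ (P : Subgroup H) ∧ (q : G) = g * p * g⁻¹) : g ∈ H := by
  classical
  haveI : Fact (Nat.Prime 2) := ⟨Nat.prime_two⟩
  have hH' : CAHyp H := hG.subgroup H
  have hPN : normalizer ((P : Subgroup H) : Set H) ≤ centralizer ((P : Subgroup H) : Set H) := by
    intro u hu
    rw [mem_centralizer_iff]
    intro p hp
    exact (hH'.comm ht1 (hPt p hp) (hN u hu)).eq
  have hc := MonoidHom.ker_transferSylow_isComplement' P hPN
  set M := (MonoidHom.transferSylow P hPN).ker with hM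
  haveI hMn : M.Normal := inferInstance
  have hMcard : Odd (Nat.card M) :=
    Nat.coprime_two_right.mp (Cfsg.Agent.Lib.Transfer.card_coprime_of_isComplement' P hc)
  have hMc : ∀ a b : M, a * b = b * a := (hH'.subgroup M).odd_comm hMcard
  have hMmem := Cfsg.Agent.Lib.Transfer.mem_iff_coprime_of_isComplement' P hc
  have ht1' : (t : G) ≠ 1 := fun e => ht1 (Subtype.ext e)
  have htt' : (t : G) * t = 1 := congrArg Subtype.val htt
  -- inversion
  have hinv : ∀ s : G, s ≠ 1 → s * s = 1 → (∀ m : H, m ∈ M → ∃ m' : H, m' ∈ M ∧ (m' : G) = s * m * s⁻¹) →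
      ∀ m : H, m ∈ M → s * m * s⁻¹ = (m : G)⁻¹ := by
    intro s hs hss hsM m hm
    obtain ⟨m', hm', hme⟩ := hsM m hm
    have hmm : (m : G) * m' = m' * m := by
      have := hMc ⟨m, hm⟩ ⟨m', hm'⟩
      exact congrArg (fun z : M => ((z : H) : G)) this
    have hsi : s⁻¹ = s := inv_eq_of_mul_eq_one_left hss
    have hs2 : s * (m' : G) * s⁻¹ = m := by
      rw [hme, hsi]
      calc s * (s * m * s) * s = (s * s) * m * (s * s) := by group
        _ = m := by rw [hss]; group
    have h3 : s * ((m : G) * m') * s⁻¹ = (m : G) * m' := by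
      have : s * ((m : G) * m') * s⁻¹ = (s * m * s⁻¹) * (s * m' * s⁻¹) := by group
      rw [this, ← hme, hs2]
      exact hmm.symm
    have hcomm : Commute ((m : G) * m') s := (mul_inv_eq_iff_eq_mul.mp h3).symm
    have h4 : ((m : G) * m') * ((m : G) * m') = 1 := hG.inv hs hss hcomm
    have h5 : (⟨m * m', M.mul_mem hm hm'⟩ : M) * ⟨m * m', M.mul_mem hm hm'⟩ = 1 :=
      Subtype.ext (Subtype.ext h4)
    have h6 := eq_one_of_mul_self_of_odd hMcard h5
    have h7 : (m : G) * m' = 1 := congrArg (fun z : M => ((z : H) : G)) h6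
    rw [← hme]
    exact eq_inv_of_mul_eq_one_right h7
  -- `M` is nontrivial
  obtain ⟨m₀, hm₀, hm₀1⟩ : ∃ m₀ : H, m₀ ∈ M ∧ m₀ ≠ 1 := by
    by_contra hcon
    push Not at hcon
    have hbot : M = ⊥ := by
      rw [eq_bot_iff]
      intro x hx
      exact hcon x hx
    rw [hbot] at hc
    have htop : (P : Subgroup H) = ⊤ := Subgroup.isComplement'_bot_left.mp hc
    apply hH
    refine ⟨⟨fun a b => ?_⟩⟩
    exact (hH'.comm ht1 (hPt a (by rw [htop]; trivial)) (hPt b (by rw [htop]; trivial))).eq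
  have hm₀1' : (m₀ : G) ≠ 1 := fun e => hm₀1 (Subtype.ext e)
  have htM : ∀ x : H, ∀ m : H, m ∈ M → ∃ m' : H, m' ∈ M ∧ (m' : G) = (x : G) * m * (x : G)⁻¹ := by
    intro x m hm
    exact ⟨x * m * x⁻¹, hMn.conj_mem m hm x, rfl⟩
  have htinv := hinv t ht1' htt' (htM t)
  have hsi : (t : G)⁻¹ = t := inv_eq_of_mul_eq_one_left htt'
  -- the key lemma
  have hF2 : ∀ x : G, Commute x t → (∀ m : H, m ∈ M → ∃ m' : H, m' ∈ M ∧ (m' : G) = x * m * x⁻¹) → x = 1 ∨ x = t := by
    intro x hxt hxM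
    by_cases hx1 : x = 1
    · exact Or.inl hx1
    right
    have hxx : x * x = 1 := hG.inv ht1' htt' hxt
    have hxinv := hinv x hx1 hxx hxM
    have hy : x * t * (x * t) = 1 := by
      calc x * t * (x * t) = x * (t * x) * t := by group
        _ = x * (x * t) * t := by rw [hxt.eq]
        _ = (x * x) * (t * t) := by group
        _ = 1 := by rw [hxx, htt']; group
    by_cases hy1 : x * (t : G) = 1
    · have := eq_inv_of_mul_eq_one_left hy1
      rw [this, hsi]
    · exfalso
      have hcm : Commute (m₀ : G) (x * t) := by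
        have h1 : (x * t) * (m₀ : G) * (x * t)⁻¹ = m₀ := by
          have h2 : (x * t) * (m₀ : G) * (x * t)⁻¹ = x * ((t : G) * m₀ * (t : G)⁻¹) * x⁻¹ := by group
          rw [h2, htinv m₀ hm₀]
          have h3 : x * (m₀ : G)⁻¹ * x⁻¹ = (x * m₀ * x⁻¹)⁻¹ := by group
          rw [h3, hxinv m₀ hm₀, inv_inv]
        exact (mul_inv_eq_iff_eq_mul.mp h1).symm
      have h4 : (m₀ : G) * m₀ = 1 := hG.inv hy1 hy hcm
      have h5 : (⟨m₀, hm₀⟩ : M) * ⟨m₀, hm₀⟩ = 1 := Subtype.ext (Subtype.ext h4)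
      have h6 := eq_one_of_mul_self_of_odd hMcard h5
      exact hm₀1' (congrArg (fun z : M => ((z : H) : G)) h6)
  -- `g` commutes with `t`
  have hgt : Commute g t := by
    obtain ⟨q, hq, hqe⟩ := hgP t htP
    have hq2 : (q : G) = 1 ∨ (q : G) = t := hF2 q (commute_coe.mpr (hPt q hq)) (htM q)
    rcases hq2 with h1 | h1
    · exfalso
      apply ht1'
      rw [h1] at hqe
      have : (t : G) = g⁻¹ * (g * t * g⁻¹) * g := by group
      rw [this, ← hqe]
      group
    · rw [h1] at hqe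
      exact mul_inv_eq_iff_eq_mul.mp hqe.symm
  have hgM : ∀ m : H, m ∈ M → ∃ m' : H, m' ∈ M ∧ (m' : G) = g * m * g⁻¹ := by
    intro m hm
    refine ⟨⟨g * m * g⁻¹, (mem_normalizer_iff.mp hg m).mp m.2⟩, ?_, rfl⟩
    rw [hMmem, Subgroup.orderOf_mk, Cfsg.Agent.Lib.Transfer.orderOf_conj_eq, Subgroup.orderOf_coe, ← hMmem]
    exact hm
  rcases hF2 g hgt hgM with h1 | h1
  · rw [h1]; exact H.one_mem
  · rw [h1]; exact t.2

end Frat

section Sl

variable {F : Type*} [Field F] (h2 : (2 : F) = 0)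
include h2

/-- Conjugates in the centralizer are the element or its inverse. -/
theorem conj_two_values {v g : SpecialLinearGroup (Fin 2) F} (hv : v ≠ 1) (hvv : v * v ≠ 1)
    (hc : Commute v (g * v * g⁻¹)) : g * v * g⁻¹ = v ∨ g * v * g⁻¹ = v⁻¹ := by
  obtain ⟨α, β, h1, h2', h3, h4⟩ := exists_lin v (g * v * g⁻¹) hc.eq (nonscalar h2 hv)
  have hdv := det2 v
  have hdg := det2 g
  have hdw := det2 (g * v * g⁻¹)
  have hτ : v.1 0 0 + v.1 1 1 ≠ 0 := by
    intro h
    apply hvv
    apply sl_ext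
    · rw [mul00, one00]
      linear_combination (-1 : F) * hdv + v.1 0 0 * h - h2
    · rw [mul01, one01]
      linear_combination v.1 0 1 * h
    · rw [mul10, one10]
      linear_combination v.1 1 0 * h
    · rw [mul11, one11]
      linear_combination (-1 : F) * hdv + v.1 1 1 * h - h2
  have htr : (g * v * g⁻¹).1 0 0 + (g * v * g⁻¹).1 1 1 = v.1 0 0 + v.1 1 1 := by
    simp only [mul00, mul01, mul10, mul11, inv00, inv01, inv10, inv11]
    linear_combination (v.1 0 0 + v.1 1 1) * hdg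
  rw [h1, h4] at htr
  have hβ : β = 1 := by
    have : (β - 1) * (v.1 0 0 + v.1 1 1) = 0 := by
      linear_combination htr - α * h2
    exact sub_eq_zero.mp ((mul_eq_zero.mp this).resolve_right hτ)
  subst hβ
  rw [h1, h2', h3, h4] at hdw
  have hα : α * (α + (v.1 0 0 + v.1 1 1)) = 0 := by
    linear_combination hdw - hdv
  rcases mul_eq_zero.mp hα with h0 | h0
  · left
    subst h0
    apply sl_ext
    · rw [h1]; ring
    · rw [h2']; ring
    · rw [h3]; ring
    · rw [h4]; ring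
  · right
    have hα' : α = v.1 0 0 + v.1 1 1 := by
      linear_combination h0 - (v.1 0 0 + v.1 1 1) * h2
    apply sl_ext
    · rw [h1, inv00, hα']
      linear_combination (v.1 0 0) * h2
    · rw [h2', inv01]
      linear_combination (v.1 0 1) * h2
    · rw [h3, inv10]
      linear_combination (v.1 1 0) * h2
    · rw [h4, inv11, hα']
      linear_combination (v.1 1 1) * h2

theorem caHyp_sl : CAHyp (SpecialLinearGroup (Fin 2) F) where
  comm := fun hv ha hb => sl_comm h2 hv ha hb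
  inv := fun ht htt hc => sq_of_comm h2 ht htt hc
  conj := fun hv hvv hc => conj_two_values h2 hv hvv hc

/-- In characteristic two. -/
theorem one_add_one_mat : (1 : Matrix (Fin 2) (Fin 2) F) + 1 = 0 := by
  ext i j
  by_cases hij : i = j
  · subst hij
    simp only [Matrix.add_apply, Matrix.one_apply_eq, Matrix.zero_apply]
    linear_combination h2
  · simp [Matrix.one_apply_ne hij]

theorem eq_one_add (T : Matrix (Fin 2) (Fin 2) F) : 1 + (T + 1) = T := by
  have := one_add_one_mat h2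
  calc 1 + (T + 1) = T + (1 + 1) := by abel
    _ = T := by rw [this, add_zero]

theorem rel_of_conj {t a : SpecialLinearGroup (Fin 2) F} {μ : F} (h : (a * t * a⁻¹).1 = 1 + μ • (t.1 + 1)) :
    a.1 * (t.1 + 1) = μ • ((t.1 + 1) * a.1) := by
  have h1 : (a * t * a⁻¹ * a).1 = (a * t).1 := by rw [inv_mul_cancel_right]
  rw [coeM_mul, h, coeM_mul] at h1
  have h3 : (1 + μ • (t.1 + 1)) * a.1 = a.1 + μ • ((t.1 + 1) * a.1) := by
    rw [add_mul, one_mul, smul_mul_assoc]
  rw [h3] at h1
  have h4 : a.1 * t.1 = a.1 * (1 + (t.1 + 1)) := by rw [eq_one_add h2]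
  rw [h4, mul_add, mul_one] at h1
  exact (add_left_cancel h1).symm

theorem conj_of_rel {t a : SpecialLinearGroup (Fin 2) F} {μ : F} (h : a.1 * (t.1 + 1) = μ • ((t.1 + 1) * a.1)) :
    (a * t * a⁻¹).1 = 1 + μ • (t.1 + 1) := by
  have h1 : a.1 * (a⁻¹).1 = 1 := by
    have : (a * a⁻¹).1 = (1 : SpecialLinearGroup (Fin 2) F).1 := by rw [mul_inv_cancel]
    exact this
  rw [coeM_mul, coeM_mul]
  calc a.1 * t.1 * (a⁻¹).1 = (a.1 * (1 + (t.1 + 1))) * (a⁻¹).1 := by rw [eq_one_add h2]
    _ = (a.1 + a.1 * (t.1 + 1)) * (a⁻¹).1 := by rw [mul_add, mul_one]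
    _ = (a.1 + μ • ((t.1 + 1) * a.1)) * (a⁻¹).1 := by rw [h]
    _ = a.1 * (a⁻¹).1 + μ • ((t.1 + 1) * (a.1 * (a⁻¹).1)) := by rw [add_mul, smul_mul_assoc, mul_assoc]
    _ = 1 + μ • (t.1 + 1) := by rw [h1, mul_one]

theorem rel_pow {t a : SpecialLinearGroup (Fin 2) F} {μ : F} (h : a.1 * (t.1 + 1) = μ • ((t.1 + 1) * a.1)) (k : ℕ) :
    (a ^ k).1 * (t.1 + 1) = μ ^ k • ((t.1 + 1) * (a ^ k).1) := by
  induction k with
  | zero =>
    have : (a ^ 0).1 = 1 := by rw [pow_zero]; rfl
    rw [this]; simp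
  | succ k ih =>
    calc (a ^ (k + 1)).1 * (t.1 + 1) = (a ^ k).1 * (a.1 * (t.1 + 1)) := by rw [pow_succ, coeM_mul, mul_assoc]
      _ = (a ^ k).1 * (μ • ((t.1 + 1) * a.1)) := by rw [h]
      _ = μ • ((a ^ k).1 * (t.1 + 1) * a.1) := by rw [mul_smul_comm, mul_assoc]
      _ = μ • ((μ ^ k • ((t.1 + 1) * (a ^ k).1)) * a.1) := by rw [ih]
      _ = μ ^ (k + 1) • ((t.1 + 1) * (a ^ (k + 1)).1) := by
        rw [smul_mul_assoc, smul_smul, pow_succ' μ k, pow_succ a k, coeM_mul, mul_assoc]

theorem sl_eq_of_coe {a b : SpecialLinearGroup (Fin 2) F} (h : a.1 = b.1) : a = b := Subtype.ext h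

variable [Finite F]

theorem exists_pow_eq (hp : (Nat.card F - 1).Prime) {μ γ : F} (hμ0 : μ ≠ 0) (hμ1 : μ ≠ 1) (hγ : γ ≠ 0) :
    ∃ j : ℕ, μ ^ j = γ := by
  haveI : Fact (Nat.card F - 1).Prime := ⟨hp⟩
  let μu : Fˣ := Units.mk0 μ hμ0
  let γu : Fˣ := Units.mk0 γ hγ
  have hμu : μu ≠ 1 := by
    intro h
    apply hμ1
    have := congrArg Units.val h
    simpa [μu] using this
  have hc : Nat.card Fˣ = Nat.card F - 1 := Nat.card_units F
  have htop := zpowers_eq_top_of_prime_card hc hμu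
  have hmem : γu ∈ zpowers μu := by rw [htop]; trivial
  rw [← mem_powers_iff_mem_zpowers] at hmem
  obtain ⟨j, hj⟩ := hmem
  refine ⟨j, ?_⟩
  have := congrArg Units.val hj
  simpa [μu, γu] using this

/-- Case (a). -/
theorem mem_of_a (hp : (Nat.card F - 1).Prime) {H : Subgroup (SpecialLinearGroup (Fin 2) F)}
    {t v u : SpecialLinearGroup (Fin 2) F} (htH : t ∈ H) (ht1 : t ≠ 1) (htt : t * t = 1) (hvH : v ∈ H)
    (hvc : ¬ Commute v t) (hv : Commute (v * t * v⁻¹) t) (hu : Commute (u * t * u⁻¹) t) : u ∈ H := by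
  have hne : ∀ a : SpecialLinearGroup (Fin 2) F, ∀ μ : F, (a * t * a⁻¹).1 = 1 + μ • (t.1 + 1) → μ ≠ 0 := by
    rintro a μ hμ rfl
    apply ht1
    have h1 : a * t * a⁻¹ = 1 := by
      apply Subtype.ext
      rw [hμ]
      simp
    have : t = a⁻¹ * (a * t * a⁻¹) * a := by group
    rw [this, h1]
    group
  obtain ⟨μ, hμ⟩ := coeff_of_comm h2 ht1 htt hv
  have hμ0 := hne v μ hμ
  have hμ1 : μ ≠ 1 := by
    rintro rfl
    apply hvc
    have h1 : v * t * v⁻¹ = t := by
      apply Subtype.ext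
      rw [hμ, one_smul, eq_one_add h2]
    exact mul_inv_eq_iff_eq_mul.mp h1
  have hrel := rel_of_conj h2 hμ
  have hvk : ∀ k : ℕ, ((v ^ k) * t * (v ^ k)⁻¹).1 = 1 + μ ^ k • (t.1 + 1) := fun k =>
    conj_of_rel h2 (rel_pow h2 hrel k)
  have hC : ∀ s : SpecialLinearGroup (Fin 2) F, Commute s t → s ∈ H := by
    intro s hs
    obtain ⟨γ, hγ⟩ := coeff_of_comm h2 ht1 htt hs
    by_cases hγ0 : γ = 0
    · have : s = 1 := by
        apply Subtype.ext
        rw [hγ, hγ0]
        simp
      rw [this]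
      exact H.one_mem
    · obtain ⟨j, hj⟩ := exists_pow_eq h2 hp hμ0 hμ1 hγ0
      have : s = (v ^ j) * t * (v ^ j)⁻¹ := by
        apply Subtype.ext
        rw [hγ, hvk, hj]
      rw [this]
      exact H.mul_mem (H.mul_mem (H.pow_mem hvH j) htH) (H.inv_mem (H.pow_mem hvH j))
  obtain ⟨ν, hν⟩ := coeff_of_comm h2 ht1 htt hu
  have hν0 := hne u ν hν
  obtain ⟨k, hk⟩ := exists_pow_eq h2 hp hμ0 hμ1 hν0
  have heq : u * t * u⁻¹ = (v ^ k) * t * (v ^ k)⁻¹ := by
    apply Subtype.ext
    rw [hν, hvk, hk]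
  have hw : Commute ((v ^ k)⁻¹ * u) t := by
    have h1 : ((v ^ k)⁻¹ * u) * t * ((v ^ k)⁻¹ * u)⁻¹ = t := by
      have h3 : ((v ^ k)⁻¹ * u) * t * ((v ^ k)⁻¹ * u)⁻¹ = (v ^ k)⁻¹ * (u * t * u⁻¹) * (v ^ k) := by group
      rw [h3, heq]
      group
    exact mul_inv_eq_iff_eq_mul.mp h1
  have hwH := hC _ hw
  have : u = v ^ k * ((v ^ k)⁻¹ * u) := by group
  rw [this]
  exact H.mul_mem (H.pow_mem hvH k) hwH

/-- **`SL₂(2ⁿ)`, with `2ⁿ - 1` prime, has the self-normalizing property.** -/
theorem sl2_sn (hp : (Nat.card F - 1).Prime) : SNHyp (SpecialLinearGroup (Fin 2) F) := by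
  classical
  haveI : Fintype F := Fintype.ofFinite F
  haveI hfin : Finite (SpecialLinearGroup (Fin 2) F) := inferInstance
  haveI : Fact (Nat.Prime 2) := ⟨Nat.prime_two⟩
  intro H hH
  apply le_antisymm _ le_normalizer
  intro g hg
  have hCA := caHyp_sl h2
  obtain ⟨P⟩ : Nonempty (Sylow 2 H) := inferInstance
  by_cases hP : (P : Subgroup H) = ⊥
  · exfalso
    apply hH
    have hodd : Odd (Nat.card H) := by
      rw [← Nat.not_even_iff_odd, even_iff_two_dvd]
      intro hd
      exact P.ne_bot_of_dvd_card hd hP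
    exact ⟨⟨(hCA.subgroup H).odd_comm hodd⟩⟩
  obtain ⟨t, hto, htP, htc⟩ := Cfsg.Agent.Lib.TwoFusion.exists_central_involution hP
  have ht1 : t ≠ 1 := by
    rintro rfl
    simp at hto
  have htt : t * t = 1 := by
    have h3 := pow_orderOf_eq_one t
    rw [hto, pow_two] at h3
    exact h3
  have ht1' : (t : SpecialLinearGroup (Fin 2) F) ≠ 1 := fun e => ht1 (Subtype.ext e)
  have htt' : (t : SpecialLinearGroup (Fin 2) F) * t = 1 := congrArg Subtype.val htt
  obtain ⟨h, hh, hq⟩ := exists_frattini P hg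
  suffices hu : h⁻¹ * g ∈ H by
    have : g = h * (h⁻¹ * g) := by group
    rw [this]
    exact H.mul_mem hh hu
  by_cases hb : ∀ v ∈ normalizer ((P : Subgroup H) : Set H), Commute v t
  · refine hCA.mem_of_b hH P htP ht1 htt htc hb ?_ hq
    exact (normalizer _).mul_mem (normalizer _ |>.inv_mem (le_normalizer hh)) hg
  · push Not at hb
    obtain ⟨v, hvN, hvc⟩ := hb
    refine mem_of_a h2 hp t.2 ht1' htt' v.2 (fun hc => hvc (commute_coe.mp hc)) ?_ ?_
    · have h1 : v * t * v⁻¹ ∈ (P : Subgroup H) := (mem_normalizer_iff.mp hvN t).mp htP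
      exact commute_coe.mpr (htc _ h1)
    · obtain ⟨q, hq1, hq2⟩ := hq t htP
      rw [← hq2]
      exact commute_coe.mpr (htc q hq1)

end Sl

end Cfsg.Agent.Lib.TwoFusion.SN
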