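import Cfsg.Agent.Lib.TwoFusion.SN5
import Cfsg.Agent.Lib.TwoFusion.AbFinal
import Cfsg.Agent.Lib.Classical.SylowSL2

/-!
# Simple groups in which every non-abelian subgroup is self-normalizing
-/

set_option autoImplicit false
set_option linter.unusedSectionVars false
set_option linter.unusedVariables false

namespace Cfsg.Agent.Lib.TwoFusion.SN

open Matrix Subgroup Cfsg

universe u

section Prime

variable {F : Type*} [Field F] [Finite F] (h2 : (2 : F) = 0)
include h2

/-- The property forces `|F| - 1` to be prime. -/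
theorem prime_of_sn (hsn : SNHyp (SpecialLinearGroup (Fin 2) F)) (hF : Nat.card F ≠ 2) :
    (Nat.card F - 1).Prime := by
  classical
  have hF2 : 2 ≤ Nat.card F := by
    haveI : Nontrivial F := inferInstance
    exact Finite.one_lt_card
  have hunits : Nat.card Fˣ = Nat.card F - 1 := Nat.card_units F
  have hne1 : Nat.card F - 1 ≠ 1 := by omega
  set r := (Nat.card F - 1).minFac with hr
  have hrp : r.Prime := Nat.minFac_prime hne1
  haveI hrf : Fact r.Prime := ⟨hrp⟩
  have hrd : r ∣ Nat.card Fˣ := by rw [hunits]; exact Nat.minFac_dvd _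
  obtain ⟨x, hx⟩ := exists_prime_orderOf_dvd_card' r hrd
  have hx1 : x ≠ 1 := by
    rintro rfl
    rw [orderOf_one] at hx
    exact hrp.one_lt.ne hx
  have hxsq : (x : F) ≠ (x : F)⁻¹ := by
    intro h
    apply hx1
    have hx0 : (x : F) ≠ 0 := x.ne_zero
    have h3 : (x : F) * x = 1 := by
      nth_rewrite 2 [h]
      exact mul_inv_cancel₀ hx0
    have h4 : ((x : F) - 1) * ((x : F) - 1) = 0 := by
      linear_combination h3 - (x : F) * h2 + h2
    have h5 : (x : F) = 1 := sub_eq_zero.mp (mul_self_eq_zero.mp h4)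
    exact Units.ext h5
  let H : Subgroup (SpecialLinearGroup (Fin 2) F) :=
    { carrier := {g | g.1 1 0 = 0 ∧ ∃ u ∈ zpowers x, (u : F) = g.1 0 0}
      one_mem' := ⟨one10, 1, one_mem _, by rw [one00]; simp⟩
      mul_mem' := by
        rintro a b ⟨ha, u, hu, hau⟩ ⟨hb, w, hw, hbw⟩
        refine ⟨by rw [mul10, ha, hb]; ring, u * w, mul_mem hu hw, ?_⟩
        rw [mul00, hb, ← hau, ← hbw]
        simp
      inv_mem' := by
        rintro a ⟨ha, u, hu, hau⟩
        refine ⟨by rw [inv10, ha]; simp, u⁻¹, inv_mem hu, ?_⟩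
        have hd := det2 a
        rw [ha, mul_zero, sub_zero, ← hau] at hd
        rw [inv00]
        simp only [Units.val_inv_eq_inv_val]
        exact (eq_inv_of_mul_eq_one_right hd).symm }
  haveI : Fintype F := Fintype.ofFinite F
  have hfin : Finite (SpecialLinearGroup (Fin 2) F) := inferInstance
  let diag : Fˣ → SpecialLinearGroup (Fin 2) F := fun y =>
    ⟨!![(y : F), 0; 0, (y : F)⁻¹], by simp [Matrix.det_fin_two]⟩
  have hd00 : ∀ y : Fˣ, (diag y).1 0 0 = y := fun y => rfl
  have hd01 : ∀ y : Fˣ, (diag y).1 0 1 = 0 := fun y => rfl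
  have hd10 : ∀ y : Fˣ, (diag y).1 1 0 = 0 := fun y => rfl
  have hd11 : ∀ y : Fˣ, (diag y).1 1 1 = (y : F)⁻¹ := fun y => rfl
  have hnorm : ∀ y : Fˣ, diag y ∈ normalizer (H : Set (SpecialLinearGroup (Fin 2) F)) := by
    intro y
    apply mem_normalizer_of_forall
    rintro g ⟨hg, u, hu, hgu⟩
    refine ⟨?_, u, hu, ?_⟩
    · simp only [mul10, inv00, inv10, hd10, hd11, hg]
      ring
    · simp only [mul00, inv00, inv10, hd00, hd01, hd10, hd11, hg]
      rw [hgu]
      field_simp
      ring
  let tr : SpecialLinearGroup (Fin 2) F := ⟨!![1, 1; 0, 1], by simp [Matrix.det_fin_two]⟩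
  have ht00 : tr.1 0 0 = 1 := rfl
  have ht01 : tr.1 0 1 = 1 := rfl
  have ht10 : tr.1 1 0 = 0 := rfl
  have ht11 : tr.1 1 1 = 1 := rfl
  have htH : tr ∈ H := ⟨ht10, 1, one_mem _, by rw [ht00]; simp⟩
  have hxH : diag x ∈ H := ⟨hd10 x, x, mem_zpowers x, rfl⟩
  have hne : tr * diag x ≠ diag x * tr := by
    intro h
    have h1 := congrArg (fun m : SpecialLinearGroup (Fin 2) F => m.1 0 1) h
    simp only [mul01, ht00, ht01, hd00, hd01, hd11] at h1
    apply hxsq
    linear_combination -h1
  have hall : ∀ y : Fˣ, y ∈ zpowers x := by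
    intro y
    obtain ⟨-, u, hu, hy⟩ := hsn.mem htH hxH hne (hnorm y)
    have : u = y := Units.ext hy
    rwa [← this]
  have htop : zpowers x = ⊤ := eq_top_iff.mpr (fun y _ => hall y)
  have hcard : Nat.card Fˣ = r := by
    rw [← hx, ← Nat.card_zpowers, htop, Subgroup.card_top]
  rw [← hunits, hcard]
  exact hrp

end Prime

section Main

variable {G : Type u} [Group G] [Finite G] [IsSimpleGroup G]

theorem backward (n : ℕ) (hn : 2 ≤ n) (hp : (2 ^ n - 1).Prime)
    (e : G ≃* ProjectiveSpecialLinearGroup (Fin 2) (GaloisField 2 n)) : SNHyp G := by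
  classical
  haveI : Fact (Nat.Prime 2) := ⟨Nat.prime_two⟩
  have h2 : (2 : GaloisField 2 n) = 0 := by
    have := CharP.cast_eq_zero (GaloisField 2 n) 2
    exact_mod_cast this
  haveI : Finite (GaloisField 2 n) := inferInstance
  have hc : Nat.card (GaloisField 2 n) = 2 ^ n := GaloisField.card 2 n (by omega)
  have hsn := sl2_sn h2 (by rw [hc]; exact hp)
  exact hsn.of_equiv (e.trans (Cfsg.Agent.Lib.TwoFusion.slMulEquivPsl h2).symm).symm

theorem not_isPGroup_two (hna : ¬ IsMulCommutative G) : ¬ IsPGroup 2 G := by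
  intro h
  haveI : Fact (Nat.Prime 2) := ⟨Nat.prime_two⟩
  have hcen : Nontrivial (center G) := h.center_nontrivial
  rcases (inferInstance : (center G).Normal).eq_bot_or_eq_top with hb | ht
  · rw [Subgroup.nontrivial_iff_ne_bot] at hcen
    exact hcen hb
  · apply hna
    refine ⟨⟨fun a b => ?_⟩⟩
    have : a ∈ center G := by rw [ht]; trivial
    exact (mem_center_iff.mp this b).symm

theorem forward (hna : ¬ IsMulCommutative G) (hsn : SNHyp G) :
    ∃ n : ℕ, 2 ≤ n ∧ (2 ^ n - 1).Prime ∧
      Nonempty (G ≃* ProjectiveSpecialLinearGroup (Fin 2) (GaloisField 2 n)) := by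
  classical
  haveI : Fact (Nat.Prime 2) := ⟨Nat.prime_two⟩
  have heven : Even (Nat.card G) := by
    by_contra hodd
    rw [Nat.not_even_iff_odd] at hodd
    haveI := isSolvable_of_sn_odd hodd hsn
    have hc := IsSimpleGroup.comm_iff_isSolvable (G := G) |>.mpr inferInstance
    exact hna ⟨⟨hc⟩⟩
  have hnp := not_isPGroup_two hna
  have hno : ¬ HasNormalPComplement 2 G := by
    rintro ⟨P, N, hNn, hc⟩
    rcases hNn.eq_bot_or_eq_top with h | h
    · rw [h] at hc
      have htop : (P : Subgroup G) = ⊤ := Subgroup.isComplement'_bot_left.mp hc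
      apply hnp
      intro g
      obtain ⟨k, hk⟩ := P.2 ⟨g, by rw [htop]; trivial⟩
      exact ⟨k, congrArg Subtype.val hk⟩
    · rw [h] at hc
      have hbot : (P : Subgroup G) = ⊥ := Subgroup.isComplement'_top_left.mp hc
      exact P.ne_bot_of_dvd_card heven.two_dvd hbot
  have hcyc : ∀ S : Sylow 2 G, ¬ IsCyclic (S : Subgroup G) := by
    intro S hS
    obtain ⟨m, hm⟩ := Subgroup.card_dvd_of_le (le_normalizer (H := (S : Subgroup G)))
    exact Cfsg.Agent.Lib.SmallSimple.false_of_cyclic_sylow heven.two_dvd hnp S hS m hm (by simp)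
  have hcom : ∀ t : G, orderOf t = 2 → IsMulCommutative (centralizer ({t} : Set G)) :=
    fun t ht => centralizer_comm hsn hno hcyc ht
  rcases Cfsg.Agent.Lib.TwoFusion.AbC.main_abelian_centralizers heven hcom with hc | hn | ⟨F, iF, fF, A, iA, fA, hF, hA, ⟨e⟩⟩
  · obtain ⟨P⟩ : Nonempty (Sylow 2 G) := inferInstance
    exact (hcyc P (hc P)).elim
  · obtain ⟨P⟩ : Nonempty (Sylow 2 G) := inferInstance
    rcases (hn P).eq_bot_or_eq_top with h | h
    · exact (P.ne_bot_of_dvd_card heven.two_dvd h).elim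
    · exfalso
      apply hnp
      intro g
      obtain ⟨k, hk⟩ := P.2 ⟨g, by rw [h]; trivial⟩
      exact ⟨k, congrArg Subtype.val hk⟩
  · letI := iF
    letI := fF
    letI := iA
    haveI := fA
    haveI := hF
    have h2 : (2 : F) = 0 := by
      have := CharP.cast_eq_zero F 2
      exact_mod_cast this
    let φ : G →* SpecialLinearGroup (Fin 2) F := (MonoidHom.fst _ _).comp e.toMonoidHom
    have hinj : Function.Injective φ := by
      rcases (MonoidHom.normal_ker φ).eq_bot_or_eq_top with h | h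
      · exact (MonoidHom.ker_eq_bot_iff φ).mp h
      · exfalso
        apply hna
        refine ⟨⟨fun a b => ?_⟩⟩
        have h1 : ∀ g : G, (e g).1 = 1 := by
          intro g
          have : g ∈ φ.ker := by rw [h]; trivial
          exact this
        apply e.injective
        rw [map_mul, map_mul]
        apply Prod.ext
        · simp [h1]
        · simp [mul_comm]
    have hsurj : Function.Surjective φ := by
      intro s
      refine ⟨e.symm (s, 1), ?_⟩
      simp [φ]
    let E : G ≃* SpecialLinearGroup (Fin 2) F := MulEquiv.ofBijective φ ⟨hinj, hsurj⟩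
    have hsnF := hsn.of_equiv E
    have hcG : Nat.card G = Nat.card (SpecialLinearGroup (Fin 2) F) := Nat.card_congr E.toEquiv
    have hF2 : Nat.card F ≠ 2 := by
      intro h
      rw [Nat.card_eq_fintype_card] at h
      have h6 : Nat.card G = 6 := by
        rw [hcG, Cfsg.Agent.Lib.Classical.card_SL2_eq (F := F), h]
        norm_num
      haveI : Fact (Nat.Prime 3) := ⟨Nat.prime_three⟩
      obtain ⟨x, hx⟩ := exists_prime_orderOf_dvd_card' (G := G) 3 (by rw [h6]; norm_num)
      have hzc : Nat.card (zpowers x) = 3 := by rw [Nat.card_zpowers, hx]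
      have hidx : (zpowers x).index = 2 := by
        have h7 := Subgroup.card_mul_index (zpowers x)
        rw [hzc, h6] at h7
        omega
      haveI hnn := Subgroup.normal_of_index_eq_two hidx
      rcases hnn.eq_bot_or_eq_top with h8 | h8
      · rw [h8, Subgroup.card_bot] at hzc
        omega
      · rw [h8, Subgroup.card_top, h6] at hzc
        omega
    have hprime := prime_of_sn h2 hsnF hF2
    obtain ⟨n, -, hn⟩ := FiniteField.card F 2
    have hcF : Nat.card F = 2 ^ (n : ℕ) := by rw [Nat.card_eq_fintype_card, hn]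
    rw [hcF] at hprime
    have hn1 : 2 ≤ (n : ℕ) := by
      by_contra hlt
      have h1 : (n : ℕ) = 1 := by
        have := n.pos
        omega
      rw [h1] at hprime
      norm_num at hprime
    refine ⟨n, hn1, hprime, ?_⟩
    let F₀ := GaloisField 2 (n : ℕ)
    letI : Fintype F₀ := Fintype.ofFinite F₀
    have hc₀ : Nat.card F₀ = 2 ^ (n : ℕ) := GaloisField.card 2 n n.ne_zero
    have heq : Fintype.card F = Fintype.card F₀ := by
      rw [← Nat.card_eq_fintype_card, ← Nat.card_eq_fintype_card, hcF, hc₀]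
    let r : F ≃+* F₀ := FiniteField.ringEquivOfCardEq heq
    exact ⟨(E.trans (Cfsg.Agent.Lib.TwoFusion.slMulEquivPsl h2)).trans (Cfsg.Agent.Lib.Classical.pslCongr r)⟩

end Main

end Cfsg.Agent.Lib.TwoFusion.SN
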