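import Mathlib
import Cfsg.Agent.Lib.TwoFusion.Zass

/-!
# The Zassenhaus situation: sharp triple transitivity
-/

set_option autoImplicit false
set_option linter.unusedSectionVars false

namespace Cfsg.Agent.Lib.TwoFusion

open Cfsg Subgroup

variable {G : Type*} [Group G] [Finite G]

theorem exists_swap {H : Subgroup G} (hH : IsStronglyEmbedded H) {x y : G ⧸ H} (hxy : x ≠ y) :
    ∃ i : G, orderOf i = 2 ∧ i • x = y := by
  obtain ⟨a, rfl⟩ := QuotientGroup.mk_surjective x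
  obtain ⟨b, rfl⟩ := QuotientGroup.mk_surjective y
  obtain ⟨t, ht, htH⟩ := exists_involution hH
  have hs : orderOf (a * t * a⁻¹) = 2 := by rw [orderOf_conj_eq, ht]
  have hs' : orderOf (b * t * b⁻¹) = 2 := by rw [orderOf_conj_eq, ht]
  have hfa : (a * t * a⁻¹) • (QuotientGroup.mk a : G ⧸ H) = QuotientGroup.mk a := by
    rw [smul_mk_eq_iff]
    have e : a⁻¹ * (a * t * a⁻¹) * a = t := by group
    rwa [e]
  have hfb : (b * t * b⁻¹) • (QuotientGroup.mk b : G ⧸ H) = QuotientGroup.mk b := by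
    rw [smul_mk_eq_iff]
    have e : b⁻¹ * (b * t * b⁻¹) * b = t := by group
    rwa [e]
  obtain ⟨i, hi, him⟩ := exists_mid_of_odd hs hs' (odd_mul hH hs hs' hfa hfb hxy)
  exact ⟨i, hi, smul_of_mid hH hi hs' him hfa hfb⟩

section

variable (hC : ZassHyp G) {T : Sylow 2 G} (hnc : ¬ IsCyclic (T : Subgroup G))
  (hnn : ¬ (T : Subgroup G).Normal) {u : G} (hu : orderOf u = 2) (huH : u ∉ NT T)

include hC hnc hnn hu huH in
theorem exists_DD_ne_one : ∃ d ∈ DD T u, d ≠ 1 := by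
  by_contra h
  push Not at h
  have h1 : DD T u = ⊥ := by
    rw [eq_bot_iff]
    intro x hx
    rw [Subgroup.mem_bot]
    exact h x hx
  have h2 := card_DD hC hnn hu huH
  rw [h1, Subgroup.card_bot] at h2
  haveI : Fact (Nat.Prime 2) := ⟨Nat.prime_two⟩
  exact hnc (isCyclic_of_prime_card (p := 2) h2.symm)

include hC hnn hu huH in
theorem DD_comm {a b : G} (ha : a ∈ DD T u) (hb : b ∈ DD T u) : a * b = b * a := by
  have h1 := DD_inverted hC hnn hu huH ((DD T u).mul_mem ha hb)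
  have h2 := DD_inverted hC hnn hu huH ha
  have h3 := DD_inverted hC hnn hu huH hb
  have e : u * (a * b) * u⁻¹ = (u * a * u⁻¹) * (u * b * u⁻¹) := by group
  rw [e, h2, h3, mul_inv_rev] at h1
  have h4 := congrArg (fun z => z⁻¹) h1
  simp only [mul_inv_rev, inv_inv] at h4
  exact h4.symm

include hC hnn hu huH in
theorem self_mem_normalizer_DD : u ∈ normalizer ((DD T u : Subgroup G) : Set G) := by
  have huu := Cfsg.Agent.Lib.TwoFusion.involution_sq hu
  have hui := Cfsg.Agent.Lib.TwoFusion.involution_inv hu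
  rw [mem_normalizer_iff]
  intro x
  constructor
  · intro hx
    rw [DD_inverted hC hnn hu huH hx]
    exact (DD T u).inv_mem hx
  · intro hx
    have h1 := DD_inverted hC hnn hu huH hx
    have h2 : u * (u * x * u⁻¹) * u⁻¹ = x := by
      rw [hui]
      calc u * (u * x * u) * u = (u * u) * x * (u * u) := by group
        _ = x := by rw [huu]; group
    rw [h2] at h1
    rw [h1]
    exact (DD T u).inv_mem hx

include hC hnc hnn hu huH in
theorem mem_DD_of_normalizes {h : G} (hh : h ∈ NT T) (hn : h ∈ normalizer ((DD T u : Subgroup G) : Set G)) :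
    h ∈ DD T u := by
  obtain ⟨d, hd, t, ht, e⟩ := exists_mul_T hC hnn hu huH hh
  obtain ⟨d₁, hd₁, hne⟩ := exists_DD_ne_one hC hnc hnn hu huH
  have ht' : t ∈ normalizer ((DD T u : Subgroup G) : Set G) := by
    have : t = d⁻¹ * h := by rw [e]; group
    rw [this]
    exact mul_mem (inv_mem (le_normalizer hd)) hn
  have hc1 : t * d₁ * t⁻¹ * d₁⁻¹ ∈ DD T u :=
    (DD T u).mul_mem ((mem_normalizer_iff.mp ht' d₁).mp hd₁) ((DD T u).inv_mem hd₁)
  have hc2 : t * d₁ * t⁻¹ * d₁⁻¹ ∈ (T : Subgroup G) := by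
    have e2 : t * d₁ * t⁻¹ * d₁⁻¹ = t * (d₁ * t⁻¹ * d₁⁻¹) := by group
    rw [e2]
    exact (T : Subgroup G).mul_mem ht (conj_mem_T hd₁.1 ((T : Subgroup G).inv_mem ht))
  have hc3 := eq_one_of_mem_DD_of_mem_T hC hnn huH hc1 hc2
  have hcomm : d₁ * t = t * d₁ := by
    have : t * d₁ = (t * d₁ * t⁻¹ * d₁⁻¹) * (d₁ * t) := by group
    rw [this, hc3, one_mul]
  have ht1 : t = 1 := by
    by_contra ht1
    exact hne (eq_one_of_commute hC hnn huH hd₁ (orderOf_two_of_sq (sylow_sq hC ht) ht1) ht hcomm)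
  rw [e, ht1, mul_one]
  exact hd

/-- Membership in `DD` through the action on the cosets. -/
theorem mem_DD_iff_fix {i x : G} : x ∈ DD T i ↔ x ∈ NT T ∧
    x • (QuotientGroup.mk i : G ⧸ NT T) = QuotientGroup.mk i := by
  rw [mem_DD, smul_mk_eq_iff]

include hC hnn in
theorem DD_eq_of_le {i : G} (hi : orderOf i = 2) (hiH : i ∉ NT T) (hu : orderOf u = 2) (huH : u ∉ NT T)
    (hle : DD T u ≤ DD T i) : DD T i = DD T u := by
  apply (Subgroup.eq_of_le_of_card_ge hle _).symm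
  have h1 := card_DD hC hnn hu huH
  have h2 := card_DD hC hnn hi hiH
  omega

include hC hnc hnn hu huH in
theorem fixed_involution {y : G ⧸ NT T} (hy : y ≠ QuotientGroup.mk 1)
    (hfix : ∀ d ∈ DD T u, d • y = y) :
    ∃ i : G, orderOf i = 2 ∧ i ∉ NT T ∧ (QuotientGroup.mk i : G ⧸ NT T) = y ∧ DD T i = DD T u := by
  obtain ⟨i, hi, hiy⟩ := exists_swap (isStronglyEmbedded_NT hC hnn) hy.symm
  have hmk : (QuotientGroup.mk i : G ⧸ NT T) = y := by
    rw [← hiy, smul_mk, mul_one]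
  have hiH : i ∉ NT T := by
    intro h
    apply hy
    rw [← hmk]
    exact mk_eq_mk_one_iff.mpr h
  refine ⟨i, hi, hiH, hmk, DD_eq_of_le hC hnn hi hiH hu huH ?_⟩
  intro d hd
  rw [mem_DD_iff_fix, hmk]
  exact ⟨hd.1, hfix d hd⟩

include hC hnc hnn hu huH in
theorem same_coset {i : G} (hi : orderOf i = 2) (hiH : i ∉ NT T) (hD : DD T i = DD T u) : u * i ∈ NT T := by
  by_contra hn
  have hum := self_mem_normalizer_DD hC hnn hu huH
  have him := self_mem_normalizer_DD hC hnn hi hiH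
  rw [hD] at him
  have hnN : u * i ∈ normalizer ((DD T u : Subgroup G) : Set G) := mul_mem hum him
  have hy : (QuotientGroup.mk (u * i) : G ⧸ NT T) ≠ QuotientGroup.mk 1 := fun h => hn (mk_eq_mk_one_iff.mp h)
  have hfix : ∀ d ∈ DD T u, d • (QuotientGroup.mk (u * i) : G ⧸ NT T) = QuotientGroup.mk (u * i) := by
    intro d hd
    rw [smul_mk_eq_iff]
    have h1 := (mem_normalizer_iff.mp (inv_mem hnN) d).mp hd
    rw [inv_inv] at h1
    exact h1.1
  obtain ⟨i₂, hi₂, hi₂H, hmk, hD₂⟩ := fixed_involution hC hnc hnn hu huH hy hfix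
  have hi₂m := self_mem_normalizer_DD hC hnn hi₂ hi₂H
  rw [hD₂] at hi₂m
  have hd₀H : (u * i)⁻¹ * i₂ ∈ NT T := by
    have := QuotientGroup.eq.mp hmk.symm
    exact this
  have hd₀ : (u * i)⁻¹ * i₂ ∈ DD T u :=
    mem_DD_of_normalizes hC hnc hnn hu huH hd₀H (mul_mem (inv_mem hnN) hi₂m)
  obtain ⟨d₁, hd₁, hne⟩ := exists_DD_ne_one hC hnc hnn hu huH
  set d₀ := (u * i)⁻¹ * i₂ with hd₀def
  have hi₂e : i₂ = (u * i) * d₀ := by rw [hd₀def]; group
  have h1 : i₂ * d₁ * i₂⁻¹ = d₁⁻¹ := DD_inverted hC hnn hi₂ hi₂H (by rw [hD₂]; exact hd₁)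
  have h2 : i * d₁ * i⁻¹ = d₁⁻¹ := DD_inverted hC hnn hi hiH (by rw [hD]; exact hd₁)
  have h3 : u * d₁ * u⁻¹ = d₁⁻¹ := DD_inverted hC hnn hu huH hd₁
  have h4 : d₀ * d₁ * d₀⁻¹ = d₁ := by
    rw [DD_comm hC hnn hu huH hd₀ hd₁]
    group
  have h5 : i₂ * d₁ * i₂⁻¹ = d₁ := by
    have e : u * d₁⁻¹ * u⁻¹ = d₁ := by
      have : u * d₁⁻¹ * u⁻¹ = (u * d₁ * u⁻¹)⁻¹ := by group
      rw [this, h3, inv_inv]
    rw [hi₂e]
    calc u * i * d₀ * d₁ * (u * i * d₀)⁻¹ = u * (i * (d₀ * d₁ * d₀⁻¹) * i⁻¹) * u⁻¹ := by group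
      _ = u * (i * d₁ * i⁻¹) * u⁻¹ := by rw [h4]
      _ = u * d₁⁻¹ * u⁻¹ := by rw [h2]
      _ = d₁ := e
  rw [h5] at h1
  have h6 : d₁ ^ 2 = 1 := by
    rw [pow_two]
    nth_rw 1 [h1]
    exact inv_mul_cancel d₁
  exact hne (eq_one_of_odd_of_sq (odd_of_mem_DD hC hnn huH hd₁) h6)

include hu in
theorem mk_self_of_mul_mem {i : G} (h : u * i ∈ NT T) :
    (QuotientGroup.mk i : G ⧸ NT T) = QuotientGroup.mk u := by
  have huu := Cfsg.Agent.Lib.TwoFusion.involution_sq hu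
  have h1 : (QuotientGroup.mk (u * i) : G ⧸ NT T) = QuotientGroup.mk 1 := mk_eq_mk_one_iff.mpr h
  have h2 : u • (QuotientGroup.mk (u * i) : G ⧸ NT T) = QuotientGroup.mk i := by
    rw [smul_mk, ← mul_assoc, huu, one_mul]
  rw [← h2, h1, smul_mk, mul_one]

include hC hnc hnn hu huH in
/-- The fixed cosets of `D = H ∩ uHu⁻¹` are `H` and `uH`. -/
theorem fix_cases {y : G ⧸ NT T} (hfix : ∀ d ∈ DD T u, d • y = y) :
    y = QuotientGroup.mk 1 ∨ y = QuotientGroup.mk u := by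
  by_cases hy : y = QuotientGroup.mk 1
  · exact Or.inl hy
  · right
    obtain ⟨i, hi, hiH, hmk, hD⟩ := fixed_involution hC hnc hnn hu huH hy hfix
    rw [← hmk]
    exact mk_self_of_mul_mem hu (same_coset hC hnc hnn hu huH hi hiH hD)

include hC hnc hnn hu huH in
theorem normalizer_DD :
    normalizer ((DD T u : Subgroup G) : Set G) = DD T u ⊔ zpowers u := by
  apply le_antisymm
  · intro n hn
    have hfix : ∀ d ∈ DD T u, d • (QuotientGroup.mk n : G ⧸ NT T) = QuotientGroup.mk n := by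
      intro d hd
      rw [smul_mk_eq_iff]
      have h1 := (mem_normalizer_iff.mp (inv_mem hn) d).mp hd
      rw [inv_inv] at h1
      exact h1.1
    rcases fix_cases hC hnc hnn hu huH hfix with h | h
    · exact mem_sup_left (mem_DD_of_normalizes hC hnc hnn hu huH (mk_eq_mk_one_iff.mp h) hn)
    · have h1 : u⁻¹ * n ∈ NT T := QuotientGroup.eq.mp h.symm
      have h2 : u⁻¹ * n ∈ DD T u := mem_DD_of_normalizes hC hnc hnn hu huH h1
        (mul_mem (inv_mem (self_mem_normalizer_DD hC hnn hu huH)) hn)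
      have e : n = u * (u⁻¹ * n) := by group
      rw [e]
      exact mul_mem (mem_sup_right (mem_zpowers u)) (mem_sup_left h2)
  · exact sup_le le_normalizer (zpowers_le.mpr (self_mem_normalizer_DD hC hnn hu huH))

include hC hnc hnn hu huH in
theorem DD_unique {i g : G} (hi : orderOf i = 2) (hiH : i ∉ NT T) (hgu : g ∈ DD T u) (hgi : g ∈ DD T i)
    (hg1 : g ≠ 1) : DD T i = DD T u := by
  apply (DD_eq_of_le hC hnn hu huH hi hiH ?_).symm
  intro x hx
  obtain ⟨d, hd, t, ht, e⟩ := exists_mul_T hC hnn hu huH hx.1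
  have h1 : x * g = g * x := DD_comm hC hnn hi hiH hx hgi
  have h2 : d * g = g * d := DD_comm hC hnn hu huH hd hgu
  have h3 : g * t = t * g := by
    have e2 : t = d⁻¹ * x := by rw [e]; group
    rw [e2]
    calc g * (d⁻¹ * x) = d⁻¹ * (d * g) * d⁻¹ * x := by group
      _ = d⁻¹ * (g * d) * d⁻¹ * x := by rw [h2]
      _ = d⁻¹ * (g * x) := by group
      _ = d⁻¹ * (x * g) := by rw [h1]
      _ = d⁻¹ * x * g := by group
  have ht1 : t = 1 := by
    by_contra ht1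
    exact hg1 (eq_one_of_commute hC hnn huH hgu (orderOf_two_of_sq (sylow_sq hC ht) ht1) ht h3)
  rw [e, ht1, mul_one]
  exact hd

include hC hnc hnn hu huH in
/-- `T` is transitive on the cosets other than `H`. -/
theorem exists_T_smul {y : G ⧸ NT T} (hy : y ≠ QuotientGroup.mk 1) :
    ∃ t ∈ (T : Subgroup G), t • (QuotientGroup.mk u : G ⧸ NT T) = y := by
  classical
  obtain ⟨i, hi, hiy⟩ := exists_swap (isStronglyEmbedded_NT hC hnn) hy.symm
  have hmk : (QuotientGroup.mk i : G ⧸ NT T) = y := by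
    rw [← hiy, smul_mk, mul_one]
  have hiH : i ∉ NT T := by
    intro h
    apply hy
    rw [← hmk]
    exact mk_eq_mk_one_iff.mpr h
  obtain ⟨g, hg, hg1⟩ := exists_DD_ne_one hC hnc hnn hi hiH
  obtain ⟨d, hd, t₀, ht₀, e⟩ := exists_mul_T hC hnn hu huH hg.1
  have hd1 : d ≠ 1 := by
    rintro rfl
    rw [one_mul] at e
    subst e
    exact hg1 (eq_one_of_mem_DD_of_mem_T hC hnn hiH hg ht₀)
  -- the commutator map on `T` is bijective
  let φ : ↥(T : Subgroup G) → ↥(T : Subgroup G) := fun t =>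
    ⟨(t : G) * (d * (t : G)⁻¹ * d⁻¹), (T : Subgroup G).mul_mem t.2 (conj_mem_T hd.1 ((T : Subgroup G).inv_mem t.2))⟩
  have hφ : Function.Injective φ := by
    intro a b hab
    have h1 : (a : G) * (d * (a : G)⁻¹ * d⁻¹) = (b : G) * (d * (b : G)⁻¹ * d⁻¹) := congrArg Subtype.val hab
    have h2 : d * ((b : G)⁻¹ * a) = ((b : G)⁻¹ * a) * d := by
      have h3 : (a : G) * d * (a : G)⁻¹ = (b : G) * d * (b : G)⁻¹ := by
        have := congrArg (fun z => z * d) h1
        simpa [mul_assoc] using this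
      calc d * ((b : G)⁻¹ * a) = (b : G)⁻¹ * ((b : G) * d * (b : G)⁻¹) * a := by group
        _ = (b : G)⁻¹ * ((a : G) * d * (a : G)⁻¹) * a := by rw [h3]
        _ = ((b : G)⁻¹ * a) * d := by group
    have hm : (b : G)⁻¹ * a ∈ (T : Subgroup G) := (T : Subgroup G).mul_mem ((T : Subgroup G).inv_mem b.2) a.2
    have h4 : (b : G)⁻¹ * a = 1 := by
      by_contra h5
      exact hd1 (eq_one_of_commute hC hnn huH hd (orderOf_two_of_sq (sylow_sq hC hm) h5) hm h2)
    apply Subtype.ext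
    have h6 : (a : G) = b * ((b : G)⁻¹ * a) := by group
    rw [h6, h4, mul_one]
  have hφs : Function.Surjective φ := Finite.injective_iff_surjective.mp hφ
  have htarget : g * d⁻¹ ∈ (T : Subgroup G) := by
    have e2 : g * d⁻¹ = d * t₀ * d⁻¹ := by rw [e]
    rw [e2]
    exact conj_mem_T hd.1 ht₀
  obtain ⟨⟨t', ht'⟩, hφt⟩ := hφs ⟨_, htarget⟩
  have hg' : t' * d * t'⁻¹ = g := by
    have h1 : t' * (d * t'⁻¹ * d⁻¹) = g * d⁻¹ := congrArg Subtype.val hφt
    have := congrArg (fun z => z * d) h1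
    simpa [mul_assoc] using this
  have ht'N : t' ∈ NT T := le_normalizer ht'
  set i' := t' * u * t'⁻¹ with hi'
  have hi'o : orderOf i' = 2 := by rw [hi', orderOf_conj_eq, hu]
  have hi'H : i' ∉ NT T := by
    intro h
    apply huH
    have e2 : u = t'⁻¹ * i' * t' := by rw [hi']; group
    rw [e2]
    exact mul_mem (mul_mem (inv_mem ht'N) h) ht'N
  have hgi' : g ∈ DD T i' := by
    rw [mem_DD]
    refine ⟨hg.1, ?_⟩
    have e2 : i'⁻¹ * g * i' = t' * (u⁻¹ * d * u) * t'⁻¹ := by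
      rw [hi', ← hg']
      group
    rw [e2]
    exact mul_mem (mul_mem ht'N (mem_DD.mp hd).2) (inv_mem ht'N)
  have hDD : DD T i = DD T i' := DD_unique hC hnc hnn hi'o hi'H hi hiH hgi' hg hg1
  have h1 := same_coset hC hnc hnn hi'o hi'H hi hiH hDD
  have h2 := mk_self_of_mul_mem hi'o h1
  refine ⟨t', ht', ?_⟩
  rw [← hmk, h2, smul_mk, hi']
  rw [QuotientGroup.eq]
  have e3 : (t' * u)⁻¹ * (t' * u * t'⁻¹) = t'⁻¹ := by group
  rw [e3]
  exact inv_mem ht'N

theorem smul_base_of_mem {t : G} (ht : t ∈ NT T) :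
    t • (QuotientGroup.mk 1 : G ⧸ NT T) = QuotientGroup.mk 1 := by
  rw [smul_mk, mul_one]
  exact mk_eq_mk_one_iff.mpr ht

include hC hnn in
theorem T_free {t : G} {y : G ⧸ NT T} (ht : t ∈ (T : Subgroup G)) (hy : y ≠ QuotientGroup.mk 1)
    (hfix : t • y = y) : t = 1 := by
  by_contra h1
  have hto := orderOf_two_of_sq (sylow_sq hC ht) h1
  exact hy (fixed_unique (isStronglyEmbedded_NT hC hnn) hto hfix (smul_base_of_mem (le_normalizer ht)))

include hC hnc hnn hu huH in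
theorem exists_move {x₁ x₂ : G ⧸ NT T} (hne : x₁ ≠ x₂) :
    ∃ g : G, g • x₁ = QuotientGroup.mk 1 ∧ g • x₂ = QuotientGroup.mk u := by
  obtain ⟨a, rfl⟩ := QuotientGroup.mk_surjective x₁
  have h1 : a⁻¹ • (QuotientGroup.mk a : G ⧸ NT T) = QuotientGroup.mk 1 := by
    rw [smul_mk, inv_mul_cancel]
  have h2 : a⁻¹ • x₂ ≠ QuotientGroup.mk 1 := by
    intro h
    apply hne
    rw [← h1] at h
    exact (MulAction.injective a⁻¹ h).symm
  obtain ⟨t, ht, hty⟩ := exists_T_smul hC hnc hnn hu huH h2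
  refine ⟨t⁻¹ * a⁻¹, ?_, ?_⟩
  · rw [mul_smul, h1]
    exact smul_base_of_mem (le_normalizer ((T : Subgroup G).inv_mem ht))
  · rw [mul_smul, ← hty, ← mul_smul, inv_mul_cancel, one_smul]

theorem mem_DD_of_fix {g : G} (h1 : g • (QuotientGroup.mk 1 : G ⧸ NT T) = QuotientGroup.mk 1)
    (h2 : g • (QuotientGroup.mk u : G ⧸ NT T) = QuotientGroup.mk u) : g ∈ DD T u := by
  rw [mem_DD_iff_fix]
  refine ⟨?_, h2⟩
  rw [smul_mk, mul_one] at h1
  exact mk_eq_mk_one_iff.mp h1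

include hC hnc hnn hu huH in
theorem D_transitive {w w' : G ⧸ NT T} (h1 : w ≠ QuotientGroup.mk 1) (h2 : w ≠ QuotientGroup.mk u)
    (h3 : w' ≠ QuotientGroup.mk 1) (h4 : w' ≠ QuotientGroup.mk u) : ∃ d ∈ DD T u, d • w = w' := by
  obtain ⟨t, ht, hw⟩ := exists_T_smul hC hnc hnn hu huH h1
  obtain ⟨t', ht', hw'⟩ := exists_T_smul hC hnc hnn hu huH h3
  have ht1 : t ≠ 1 := by
    rintro rfl
    rw [one_smul] at hw
    exact h2 hw.symm
  have ht1' : t' ≠ 1 := by
    rintro rfl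
    rw [one_smul] at hw'
    exact h4 hw'.symm
  obtain ⟨d, hd, -, hconj⟩ := exists_DD_conj hC hnn hu huH (orderOf_two_of_sq (sylow_sq hC ht) ht1) ht
    (orderOf_two_of_sq (sylow_sq hC ht') ht1') ht'
  refine ⟨d, hd, ?_⟩
  rw [← hw, ← hw', ← hconj]
  have hdu : d • (QuotientGroup.mk u : G ⧸ NT T) = QuotientGroup.mk u := (mem_DD_iff_fix.mp hd).2
  calc d • t • (QuotientGroup.mk u : G ⧸ NT T) = (d * t) • (QuotientGroup.mk u : G ⧸ NT T) := (mul_smul _ _ _).symm
    _ = ((d * t * d⁻¹) * d) • (QuotientGroup.mk u : G ⧸ NT T) := by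
        congr 1
        group
    _ = (d * t * d⁻¹) • d • (QuotientGroup.mk u : G ⧸ NT T) := mul_smul _ _ _
    _ = (d * t * d⁻¹) • (QuotientGroup.mk u : G ⧸ NT T) := by rw [hdu]

include hC hnc hnn hu huH in
/-- An element fixing `H`, `uH` and a third coset is trivial. -/
theorem eq_one_of_fix_three {g : G} {w : G ⧸ NT T}
    (h1 : g • (QuotientGroup.mk 1 : G ⧸ NT T) = QuotientGroup.mk 1)
    (h2 : g • (QuotientGroup.mk u : G ⧸ NT T) = QuotientGroup.mk u) (h3 : g • w = w)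
    (hw1 : w ≠ QuotientGroup.mk 1) (hw2 : w ≠ QuotientGroup.mk u) : g = 1 := by
  by_contra hg
  have hgu := mem_DD_of_fix h1 h2
  obtain ⟨i, hi, hiy⟩ := exists_swap (isStronglyEmbedded_NT hC hnn) hw1.symm
  have hmk : (QuotientGroup.mk i : G ⧸ NT T) = w := by
    rw [← hiy, smul_mk, mul_one]
  have hiH : i ∉ NT T := by
    intro h
    apply hw1
    rw [← hmk]
    exact mk_eq_mk_one_iff.mpr h
  have hgi : g ∈ DD T i := by
    rw [mem_DD_iff_fix, hmk]
    exact ⟨hgu.1, h3⟩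
  have hD := DD_unique hC hnc hnn hu huH hi hiH hgu hgi hg
  apply hw2
  rw [← hmk]
  exact mk_self_of_mul_mem hu (same_coset hC hnc hnn hu huH hi hiH hD)

end

section

variable (hC : ZassHyp G) {T : Sylow 2 G} (hnc : ¬ IsCyclic (T : Subgroup G))
  (hnn : ¬ (T : Subgroup G).Normal)

include hC hnn in
theorem exists_involution_outside : ∃ u : G, orderOf u = 2 ∧ u ∉ NT T := by
  have hne : NT T ≠ ⊤ := (isStronglyEmbedded_NT hC hnn).1
  obtain ⟨g, hg⟩ : ∃ g : G, g ∉ NT T := by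
    by_contra h
    push Not at h
    exact hne (eq_top_iff.mpr fun x _ => h x)
  have hy : (QuotientGroup.mk g : G ⧸ NT T) ≠ QuotientGroup.mk 1 := fun h => hg (mk_eq_mk_one_iff.mp h)
  obtain ⟨i, hi, hiy⟩ := exists_swap (isStronglyEmbedded_NT hC hnn) hy.symm
  refine ⟨i, hi, ?_⟩
  intro h
  apply hy
  rw [← hiy, smul_mk, mul_one]
  exact mk_eq_mk_one_iff.mpr h

include hC hnc hnn in
theorem triply_transitive {x₁ x₂ x₃ y₁ y₂ y₃ : G ⧸ NT T} (h12 : x₁ ≠ x₂) (h13 : x₁ ≠ x₃) (h23 : x₂ ≠ x₃)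
    (k12 : y₁ ≠ y₂) (k13 : y₁ ≠ y₃) (k23 : y₂ ≠ y₃) :
    ∃ g : G, g • x₁ = y₁ ∧ g • x₂ = y₂ ∧ g • x₃ = y₃ := by
  obtain ⟨u, hu, huH⟩ := exists_involution_outside hC hnn
  obtain ⟨a, ha1, ha2⟩ := exists_move hC hnc hnn hu huH h12
  obtain ⟨b, hb1, hb2⟩ := exists_move hC hnc hnn hu huH k12
  have hw1 : a • x₃ ≠ QuotientGroup.mk 1 := by
    intro h
    apply h13
    rw [← ha1] at h
    exact (MulAction.injective a h).symm
  have hw2 : a • x₃ ≠ QuotientGroup.mk u := by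
    intro h
    apply h23
    rw [← ha2] at h
    exact (MulAction.injective a h).symm
  have hw3 : b • y₃ ≠ QuotientGroup.mk 1 := by
    intro h
    apply k13
    rw [← hb1] at h
    exact (MulAction.injective b h).symm
  have hw4 : b • y₃ ≠ QuotientGroup.mk u := by
    intro h
    apply k23
    rw [← hb2] at h
    exact (MulAction.injective b h).symm
  obtain ⟨d, hd, hdw⟩ := D_transitive hC hnc hnn hu huH hw1 hw2 hw3 hw4
  refine ⟨b⁻¹ * d * a, ?_, ?_, ?_⟩
  · rw [mul_smul, mul_smul, ha1, smul_base_of_mem hd.1, ← hb1, ← mul_smul, inv_mul_cancel, one_smul]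
  · rw [mul_smul, mul_smul, ha2, (mem_DD_iff_fix.mp hd).2, ← hb2, ← mul_smul, inv_mul_cancel, one_smul]
  · rw [mul_smul, mul_smul, hdw, ← mul_smul, inv_mul_cancel, one_smul]

include hC hnc hnn in
theorem eq_one_of_fix_three' {g : G} {x₁ x₂ x₃ : G ⧸ NT T} (h12 : x₁ ≠ x₂) (h13 : x₁ ≠ x₃) (h23 : x₂ ≠ x₃)
    (f1 : g • x₁ = x₁) (f2 : g • x₂ = x₂) (f3 : g • x₃ = x₃) : g = 1 := by
  obtain ⟨u, hu, huH⟩ := exists_involution_outside hC hnn
  obtain ⟨a, ha1, ha2⟩ := exists_move hC hnc hnn hu huH h12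
  have hw1 : a • x₃ ≠ QuotientGroup.mk 1 := by
    intro h
    apply h13
    rw [← ha1] at h
    exact (MulAction.injective a h).symm
  have hw2 : a • x₃ ≠ QuotientGroup.mk u := by
    intro h
    apply h23
    rw [← ha2] at h
    exact (MulAction.injective a h).symm
  have h := eq_one_of_fix_three hC hnc hnn hu huH (g := a * g * a⁻¹) (w := a • x₃)
    (by rw [← ha1, mul_smul, mul_smul, ← mul_smul a⁻¹, inv_mul_cancel, one_smul, f1])
    (by rw [← ha2, mul_smul, mul_smul, ← mul_smul a⁻¹, inv_mul_cancel, one_smul, f2])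
    (by rw [mul_smul, mul_smul, ← mul_smul a⁻¹, inv_mul_cancel, one_smul, f3]) hw1 hw2
  have e : g = a⁻¹ * (a * g * a⁻¹) * a := by group
  rw [e, h]
  group

include hC hnc hnn in
theorem T_regular {x y : G ⧸ NT T} (hx : x ≠ QuotientGroup.mk 1) (hy : y ≠ QuotientGroup.mk 1) :
    ∃! t : G, t ∈ (T : Subgroup G) ∧ t • x = y := by
  obtain ⟨u, hu, huH⟩ := exists_involution_outside hC hnn
  obtain ⟨a, ha, hax⟩ := exists_T_smul hC hnc hnn hu huH hx
  obtain ⟨b, hb, hby⟩ := exists_T_smul hC hnc hnn hu huH hy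
  refine ⟨b * a⁻¹, ⟨(T : Subgroup G).mul_mem hb ((T : Subgroup G).inv_mem ha), ?_⟩, ?_⟩
  · rw [← hax, ← hby, ← mul_smul, inv_mul_cancel_right]
  · rintro c ⟨hc, hcx⟩
    have h1 : (b * a⁻¹)⁻¹ * c = 1 := by
      apply T_free hC hnn ((T : Subgroup G).mul_mem
        ((T : Subgroup G).inv_mem ((T : Subgroup G).mul_mem hb ((T : Subgroup G).inv_mem ha))) hc) hx
      rw [mul_smul, hcx, ← hby, ← hax, ← mul_smul]
      congr 1
      group
    have h2 : c = (b * a⁻¹) * ((b * a⁻¹)⁻¹ * c) := by group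
    rw [h2, h1, mul_one]

end

end Cfsg.Agent.Lib.TwoFusion
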